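import Mathlib

set_option autoImplicit false

/-!
`π`-elements, the `π`-part of an element, and counts of classes of `π`-elements.
-/

namespace Cfsg.Agent.FG78

variable {G : Type*} [Group G]

/-- All prime divisors of the order lie in `π`. -/
def IsPiElem (π : Set ℕ) (g : G) : Prop := ∀ q : ℕ, q.Prime → q ∣ orderOf g → q ∈ π

theorem IsPiElem.one (π : Set ℕ) : IsPiElem π (1 : G) := by
  intro q hq h
  rw [orderOf_one, Nat.dvd_one] at h
  exact absurd h hq.ne_one

theorem IsPiElem.of_dvd {π : Set ℕ} {g : G} {H : Type*} [Group H] {h : H} (hg : IsPiElem π g)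
    (hd : orderOf h ∣ orderOf g) : IsPiElem π h :=
  fun q hq hqd => hg q hq (hqd.trans hd)

theorem IsPiElem.map {π : Set ℕ} {g : G} {H : Type*} [Group H] (f : G →* H) (hg : IsPiElem π g) :
    IsPiElem π (f g) :=
  hg.of_dvd (orderOf_map_dvd f g)

theorem IsPiElem.pow {π : Set ℕ} {g : G} (hg : IsPiElem π g) (k : ℕ) : IsPiElem π (g ^ k) :=
  hg.of_dvd (orderOf_pow_dvd k)

theorem IsPiElem.inv {π : Set ℕ} {g : G} (hg : IsPiElem π g) : IsPiElem π g⁻¹ :=
  hg.of_dvd (dvd_of_eq (orderOf_inv g))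

theorem IsPiElem.mul {π : Set ℕ} {g h : G} (hg : IsPiElem π g) (hh : IsPiElem π h)
    (hc : Commute g h) : IsPiElem π (g * h) := by
  intro q hq hd
  have h1 : q ∣ orderOf g * orderOf h :=
    (hd.trans hc.orderOf_mul_dvd_lcm).trans (Nat.lcm_dvd_mul _ _)
  rcases hq.dvd_mul.mp h1 with h2 | h2
  exacts [hg q hq h2, hh q hq h2]

theorem IsPiElem.mono {π π' : Set ℕ} {g : G} (hg : IsPiElem π g) (h : π ⊆ π') : IsPiElem π' g :=
  fun q hq hd => h (hg q hq hd)

theorem IsPiElem.eq_one {π : Set ℕ} {g : G} (hg : IsPiElem π g) (hg' : IsPiElem πᶜ g) :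
    g = 1 := by
  rw [← orderOf_eq_one_iff]
  by_contra h
  obtain ⟨q, hq, hd⟩ := Nat.exists_prime_and_dvd h
  exact hg' q hq hd (hg q hq hd)

theorem isPiElem_conj_iff {π : Set ℕ} (c g : G) :
    IsPiElem π (c * g * c⁻¹) ↔ IsPiElem π g := by
  have h : orderOf (c * g * c⁻¹) = orderOf g :=
    orderOf_injective (MulAut.conj c).toMonoidHom (MulAut.conj c).injective g
  exact ⟨fun hh => hh.of_dvd (dvd_of_eq h.symm), fun hh => hh.of_dvd (dvd_of_eq h)⟩

theorem exists_pi_split (π : Set ℕ) (n : ℕ) (hn : n ≠ 0) :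
    ∃ a b : ℕ, a * b = n ∧ a.Coprime b ∧ (∀ q : ℕ, q.Prime → q ∣ a → q ∈ π) ∧
      (∀ q : ℕ, q.Prime → q ∣ b → q ∈ πᶜ) := by
  classical
  have key : ∀ (s : Finset ℕ), (∀ r ∈ s, r.Prime) → ∀ q : ℕ, q.Prime →
      q ∣ ∏ r ∈ s, r ^ n.factorization r → q ∈ s := by
    intro s hs q hq hd
    obtain ⟨r, hr, hd'⟩ := hq.prime.exists_mem_finset_dvd hd
    have := (Nat.prime_dvd_prime_iff_eq hq (hs r hr)).mp (hq.dvd_of_dvd_pow hd')
    exact this ▸ hr
  have hp : ∀ (P : ℕ → Prop) [DecidablePred P], ∀ r ∈ n.primeFactors.filter P, r.Prime :=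
    fun P _ r hr => Nat.prime_of_mem_primeFactors (Finset.mem_filter.mp hr).1
  refine ⟨∏ r ∈ n.primeFactors.filter (· ∈ π), r ^ n.factorization r,
    ∏ r ∈ n.primeFactors.filter (fun r => r ∉ π), r ^ n.factorization r, ?_, ?_, ?_, ?_⟩
  · rw [Finset.prod_filter_mul_prod_filter_not]
    exact (Nat.factorization_prod_pow_eq_self hn)
  · refine Nat.coprime_of_dvd fun q hq h1 h2 => ?_
    exact (Finset.mem_filter.mp (key _ (hp _) q hq h2)).2
      (Finset.mem_filter.mp (key _ (hp _) q hq h1)).2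
  · exact fun q hq h => (Finset.mem_filter.mp (key _ (hp _) q hq h)).2
  · exact fun q hq h => (Finset.mem_filter.mp (key _ (hp _) q hq h)).2

theorem exists_pi_decomp [Finite G] (π : Set ℕ) (g : G) :
    ∃ i j : ℕ, g ^ i * g ^ j = g ∧ IsPiElem π (g ^ i) ∧ IsPiElem πᶜ (g ^ j) := by
  obtain ⟨a, b, hab, hcop, ha, hb⟩ := exists_pi_split π (orderOf g) (orderOf_pos g).ne'
  obtain ⟨u, v, huv⟩ := (Nat.Coprime.isCoprime hcop)
  have hpos : (0 : ℤ) < orderOf g := by exact_mod_cast orderOf_pos g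
  have hnat : ∀ z : ℤ, g ^ ((z % (orderOf g : ℤ)).toNat) = g ^ z := by
    intro z
    rw [← zpow_natCast, Int.toNat_of_nonneg (Int.emod_nonneg z hpos.ne'), zpow_mod_orderOf]
  have hgn : g ^ ((a : ℤ) * b) = 1 := by
    rw [← Nat.cast_mul, zpow_natCast, hab, pow_orderOf_eq_one]
  refine ⟨((v * b) % (orderOf g : ℤ)).toNat, ((u * a) % (orderOf g : ℤ)).toNat, ?_, ?_, ?_⟩
  · rw [hnat, hnat, ← zpow_add, add_comm, huv, zpow_one]
  · rw [hnat]
    intro q hq hd
    refine ha q hq (hd.trans (orderOf_dvd_of_pow_eq_one ?_))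
    rw [← zpow_natCast, ← zpow_mul, show v * (b : ℤ) * a = (a : ℤ) * b * v by ring, zpow_mul, hgn,
      one_zpow]
  · rw [hnat]
    intro q hq hd
    refine hb q hq (hd.trans (orderOf_dvd_of_pow_eq_one ?_))
    rw [← zpow_natCast, ← zpow_mul, show u * (a : ℤ) * b = (a : ℤ) * b * u by ring, zpow_mul, hgn,
      one_zpow]

/-- The `π`-part of an element of a finite group. -/
noncomputable def piPart [Finite G] (π : Set ℕ) (g : G) : G :=
  g ^ (exists_pi_decomp π g).choose

/-- The `π'`-part of an element of a finite group. -/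
noncomputable def piPart' [Finite G] (π : Set ℕ) (g : G) : G :=
  g ^ (exists_pi_decomp π g).choose_spec.choose

section
variable [Finite G] (π : Set ℕ) (g : G)

theorem piPart_mul_piPart' : piPart π g * piPart' π g = g :=
  (exists_pi_decomp π g).choose_spec.choose_spec.1

theorem isPiElem_piPart : IsPiElem π (piPart π g) :=
  (exists_pi_decomp π g).choose_spec.choose_spec.2.1

theorem isPiElem_piPart' : IsPiElem πᶜ (piPart' π g) :=
  (exists_pi_decomp π g).choose_spec.choose_spec.2.2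

theorem exists_piPart_eq_pow : ∃ i : ℕ, piPart π g = g ^ i := ⟨_, rfl⟩

theorem exists_piPart'_eq_pow : ∃ i : ℕ, piPart' π g = g ^ i := ⟨_, rfl⟩

theorem commute_piPart {h : G} (hc : Commute h g) : Commute h (piPart π g) := hc.pow_right _

theorem commute_piPart' {h : G} (hc : Commute h g) : Commute h (piPart' π g) := hc.pow_right _

theorem commute_piPart_piPart' : Commute (piPart π g) (piPart' π g) :=
  (Commute.refl g).pow_pow _ _

theorem piPart_mem {H : Subgroup G} (hg : g ∈ H) : piPart π g ∈ H := H.pow_mem hg _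

theorem piPart'_mem {H : Subgroup G} (hg : g ∈ H) : piPart' π g ∈ H := H.pow_mem hg _

variable {π g}

/-- Uniqueness of the decomposition into a `π`-part and a `π'`-part. -/
theorem piPart_unique {a b : G} (hab : Commute a b) (ha : IsPiElem π a) (hb : IsPiElem πᶜ b)
    (hg : a * b = g) : piPart π g = a ∧ piPart' π g = b := by
  have hag : Commute a g := hg ▸ (Commute.refl a).mul_right hab
  have hbg : Commute b g := hg ▸ hab.symm.mul_right (Commute.refl b)
  have e : a⁻¹ * piPart π g = b * (piPart' π g)⁻¹ := by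
    rw [inv_mul_eq_iff_eq_mul, ← mul_assoc, hg, eq_mul_inv_iff_mul_eq, piPart_mul_piPart']
  have h1 : IsPiElem π (a⁻¹ * piPart π g) :=
    ha.inv.mul (isPiElem_piPart π g) (commute_piPart π g hag).inv_left
  have h2 : IsPiElem πᶜ (a⁻¹ * piPart π g) := by
    rw [e]
    exact hb.mul (isPiElem_piPart' π g).inv (commute_piPart' π g hbg).inv_right
  have h3 := h1.eq_one h2
  have h4 : piPart π g = a := (inv_mul_eq_one.mp h3).symm
  exact ⟨h4, mul_inv_eq_one.mp (e ▸ h3) |>.symm⟩

theorem piPart_of_isPiElem (hg : IsPiElem π g) : piPart π g = g :=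
  (piPart_unique (Commute.one_right g) hg (IsPiElem.one _) (mul_one g)).1

theorem piPart'_of_isPiElem (hg : IsPiElem πᶜ g) : piPart' π g = g :=
  (piPart_unique (Commute.one_left g) (IsPiElem.one _) hg (one_mul g)).2

/-- If the image of `g` is a `π`-element, the image of its `π'`-part is trivial. -/
theorem map_piPart'_eq_one {H : Type*} [Group H] (f : G →* H) (hg : IsPiElem π (f g)) :
    f (piPart' π g) = 1 := by
  refine IsPiElem.eq_one (π := π) ?_ ((isPiElem_piPart' π g).map f)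
  obtain ⟨i, hi⟩ := exists_piPart'_eq_pow π g
  rw [hi, map_pow]
  exact hg.pow i

theorem map_piPart_eq_one {H : Type*} [Group H] (f : G →* H) (hg : IsPiElem πᶜ (f g)) :
    f (piPart π g) = 1 := by
  refine IsPiElem.eq_one (π := π) ((isPiElem_piPart π g).map f) ?_
  obtain ⟨i, hi⟩ := exists_piPart_eq_pow π g
  rw [hi, map_pow]
  exact hg.pow i

end

theorem isPiElem_conjClass_iff (π : Set ℕ) (g : G) :
    (∀ q : ℕ, q.Prime → (∃ h : G, ConjClasses.mk h = ConjClasses.mk g ∧ q ∣ orderOf h) → q ∈ π) ↔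
      IsPiElem π g := by
  constructor
  · exact fun h q hq hd => h q hq ⟨g, rfl, hd⟩
  · rintro h q hq ⟨x, hx, hd⟩
    obtain ⟨c, hc⟩ := isConj_iff.mp (ConjClasses.mk_eq_mk_iff_isConj.mp hx)
    have : orderOf g = orderOf x := by
      rw [← hc]; exact orderOf_injective (MulAut.conj c).toMonoidHom (MulAut.conj c).injective x
    exact h q hq (this ▸ hd)

end Cfsg.Agent.FG78
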