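import Mathlib

set_option autoImplicit false

/-! Suzuki's criterion for maximal class. -/

namespace Cfsg.Agent.FG78

universe u

variable {p : ℕ} [Fact p.Prime]

theorem isMulCommutative_of_card_sq {X : Type u} [Group X] {A : Subgroup X}
    (h : Nat.card A = p ^ 2) : IsMulCommutative A :=
  IsPGroup.isMulCommutative_of_card_eq_prime_sq h

theorem mem_centralizer_quot_iff {X : Type u} [Group X] (N : Subgroup X) [N.Normal] (A : Subgroup X)
    (y : X) : (y : X ⧸ N) ∈ Subgroup.centralizer
        ((A.map (QuotientGroup.mk' N) : Subgroup (X ⧸ N)) : Set (X ⧸ N)) ↔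
      ∀ a ∈ A, a⁻¹ * (y * a * y⁻¹) ∈ N := by
  simp only [Subgroup.mem_centralizer_iff, SetLike.mem_coe, Subgroup.mem_map,
    QuotientGroup.mk'_apply, forall_exists_index, and_imp, forall_apply_eq_imp_iff₂]
  refine forall₂_congr fun a _ => ?_
  rw [← QuotientGroup.eq_one_iff]
  simp only [QuotientGroup.mk_mul, QuotientGroup.mk_inv]
  rw [inv_mul_eq_one, eq_mul_inv_iff_mul_eq]

theorem card_comap_mk' {X : Type u} [Group X] [Finite X] (N : Subgroup X) [N.Normal]
    (H : Subgroup (X ⧸ N)) :
    Nat.card (H.comap (QuotientGroup.mk' N)) = Nat.card N * Nat.card H := by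
  have e2 : (H.comap (QuotientGroup.mk' N)).index = H.index :=
    Subgroup.index_comap_of_surjective H (QuotientGroup.mk'_surjective N)
  have e4 := Subgroup.card_eq_card_quotient_mul_card_subgroup N
  rw [← Subgroup.card_mul_index H, ← Subgroup.card_mul_index (H.comap (QuotientGroup.mk' N)),
    e2] at e4
  refine Nat.eq_of_mul_eq_mul_right (Nat.pos_of_ne_zero H.index_ne_zero_of_finite) ?_
  rw [e4]; ring

theorem suzuki_maximal_class : ∀ (n : ℕ) {X : Type u} [Group X] [Finite X],
    Nat.card X = p ^ n → ∀ A : Subgroup X, Nat.card A = p ^ 2 →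
      Subgroup.centralizer (A : Set X) = A → Group.nilpotencyClass X = n - 1 := by
  have hp := (Fact.out : p.Prime)
  intro n
  induction n with
  | zero =>
    intro X _ _ hX A hA _
    exfalso
    have h := Subgroup.card_le_card_group A
    rw [hX, hA] at h
    exact absurd ((Nat.pow_le_pow_iff_right hp.one_lt).mp h) (by omega)
  | succ k ih =>
    intro X _ _ hX A hA hC
    haveI hnil : Group.IsNilpotent X := (IsPGroup.of_card hX).isNilpotent
    haveI := isMulCommutative_of_card_sq hA
    have hk : 2 ≤ k + 1 := by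
      have h := Subgroup.card_le_card_group A
      rw [hX, hA] at h
      exact (Nat.pow_le_pow_iff_right hp.one_lt).mp h
    haveI : Nontrivial X :=
      Finite.one_lt_card_iff_nontrivial.mp (hX ▸ Nat.one_lt_pow (by omega) hp.one_lt)
    obtain hk2 | hk3 := hk.eq_or_lt'
    · have htop : A = ⊤ := Subgroup.eq_top_of_card_eq A (by rw [hA, hX, hk2])
      have hcen : Subgroup.center X = ⊤ := by
        rw [← Subgroup.centralizer_univ, ← Subgroup.coe_top, ← htop, hC]
      have h1 := nilpotencyClass_eq_quotient_center_plus_one (G := X)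
      rw [(Group.nilpotencyClass_zero_iff_subsingleton (G := X ⧸ Subgroup.center X)).mpr (by
        rw [hcen]; exact QuotientGroup.subsingleton_quotient_top)] at h1
      omega
    set Z := Subgroup.center X with hZ
    have hZA : Z ≤ A := hC ▸ Subgroup.center_le_centralizer _
    have hZne : Z ≠ A := fun e => by
      have : Subgroup.centralizer (A : Set X) = ⊤ := by
        rw [Subgroup.centralizer_eq_top_iff_subset, ← e]
      rw [hC] at this
      rw [this, Subgroup.card_top, hX] at hA
      exact absurd (Nat.pow_right_injective hp.two_le hA) (by omega)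
    have hZcard : Nat.card Z = p := by
      obtain ⟨i, hi2, hi⟩ := (Nat.dvd_prime_pow hp).mp (hA ▸ Subgroup.card_dvd_of_le hZA)
      have h0 : i ≠ 0 := fun e => Group.IsNilpotent.center_ne_bot (G := X)
        (Subgroup.card_eq_one.mp (by rw [← hZ, hi, e, pow_zero]))
      have h2 : i ≠ 2 := fun e => hZne (Subgroup.eq_of_le_of_card_ge hZA (by rw [hA, hi, e]))
      rw [hi, show i = 1 by omega, pow_one]
    set f := QuotientGroup.mk' Z with hf
    set Cb := Subgroup.centralizer ((A.map f : Subgroup (X ⧸ Z)) : Set (X ⧸ Z)) with hCb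
    set W := Cb.comap f with hW
    have memW : ∀ y : X, y ∈ W ↔ ∀ a ∈ A, a⁻¹ * (y * a * y⁻¹) ∈ Z :=
      mem_centralizer_quot_iff Z A
    obtain ⟨a, haA, haZ⟩ := SetLike.exists_of_lt (lt_of_le_of_ne hZA hZne)
    have hgenA : ∀ y : X, y * a = a * y → y ∈ A := by
      intro y hy
      have hle : A ≤ Subgroup.centralizer ({y} : Set X) := by
        have hD : A ⊓ Subgroup.centralizer ({y} : Set X) = A := by
          have hZD : Z < A ⊓ Subgroup.centralizer ({y} : Set X) :=
            lt_of_le_of_ne (le_inf hZA (Subgroup.center_le_centralizer _)) fun e => haZ <| by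
              rw [e]; exact ⟨haA, Subgroup.mem_centralizer_singleton_iff.mpr hy.symm⟩
          obtain ⟨i, hi2, hi⟩ := (Nat.dvd_prime_pow hp).mp
            (hA ▸ Subgroup.card_dvd_of_le (inf_le_left : A ⊓ Subgroup.centralizer ({y} : Set X) ≤ A))
          refine Subgroup.eq_of_le_of_card_ge inf_le_left ?_
          have := Subgroup.card_le_of_le hZD.le
          have hne : Nat.card Z ≠ Nat.card ↥(A ⊓ Subgroup.centralizer ({y} : Set X)) := fun e =>
            hZD.ne (Subgroup.eq_of_le_of_card_ge hZD.le e.ge)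
          rw [hA, hi]
          refine Nat.pow_le_pow_right hp.pos ?_
          rw [hZcard, hi] at this hne
          by_contra hlt
          interval_cases i <;> simp_all
          exact absurd this hp.one_lt.not_ge
        exact hD ▸ inf_le_right
      rw [← hC, Subgroup.mem_centralizer_iff]
      exact fun b hb => Subgroup.mem_centralizer_singleton_iff.mp (hle hb)
    have hWle : Nat.card W ≤ p * Nat.card A := by
      rw [← hZcard, ← Nat.card_prod]
      let e : W → Z := fun y => ⟨a⁻¹ * ((y : X) * a * (y : X)⁻¹), (memW _).mp y.2 a haA⟩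
      let r : W → W := fun y => (⟨y, rfl⟩ : ∃ d : W, e d = e y).choose
      have hr : ∀ y, e (r y) = e y := fun y => (⟨y, rfl⟩ : ∃ d : W, e d = e y).choose_spec
      refine Nat.card_le_card_of_injective (fun y => (e y, (⟨(r y : X)⁻¹ * y, hgenA _ ?_⟩ : A))) ?_
      · have h' : (r y : X) * a * (r y : X)⁻¹ = (y : X) * a * (y : X)⁻¹ :=
          mul_left_cancel (congrArg Subtype.val (hr y))
        calc (r y : X)⁻¹ * y * a = (r y : X)⁻¹ * ((y : X) * a * (y : X)⁻¹) * y := by group
          _ = (r y : X)⁻¹ * ((r y : X) * a * (r y : X)⁻¹) * y := by rw [h']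
          _ = a * ((r y : X)⁻¹ * y) := by group
      · intro y y' h
        obtain ⟨h1, h2⟩ := Prod.ext_iff.mp h
        have h1' : e y = e y' := h1
        have hrr : r y = r y' := by simp only [r, h1']
        have h2' : (r y : X)⁻¹ * y = (r y' : X)⁻¹ * y' := congrArg Subtype.val h2
        rw [hrr] at h2'
        exact Subtype.ext (mul_left_cancel h2')
    have hAW : A < W := by
      have hAne : A < ⊤ := lt_top_iff_ne_top.mpr fun e => by
        rw [e, Subgroup.card_top, hX] at hA
        exact absurd (Nat.pow_right_injective hp.two_le hA) (by omega)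
      obtain ⟨y, hyN, hyA⟩ := SetLike.exists_of_lt (normalizerCondition_of_isNilpotent A hAne)
      refine SetLike.lt_iff_le_and_exists.mpr ⟨fun b hb => (memW b).mpr fun c hc => ?_, y,
        (memW y).mpr fun c hc => ?_, hyA⟩
      · have hcb : b * c = c * b := congrArg Subtype.val (‹IsMulCommutative A›.1.1 ⟨b, hb⟩ ⟨c, hc⟩)
        rw [hcb]; simp
      · -- the image of `A` is a subgroup of order at most `p` normalised by the `p`-group
        have hcA : y * c * y⁻¹ ∈ A := (Subgroup.mem_normalizer_iff.mp hyN c).mp hc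
        rw [← QuotientGroup.eq_one_iff]
        set V := A.map f with hV
        have hVcard : Nat.card V = p := by
          have h1 := card_comap_mk' Z V
          rw [hV, Subgroup.comap_map_eq, QuotientGroup.ker_mk', sup_eq_left.mpr hZA, hA,
            hZcard, sq] at h1
          exact (Nat.eq_of_mul_eq_mul_left hp.pos h1).symm
        let N := Subgroup.normalizer (V : Set (X ⧸ Z))
        have hyV : f y ∈ N := Subgroup.le_normalizer_map f ⟨y, hyN, rfl⟩
        haveI : (V.subgroupOf N).Normal := Subgroup.normal_in_normalizer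
        haveI : Nontrivial N := by
          refine (Finite.one_lt_card_iff_nontrivial).mp (lt_of_lt_of_le hp.one_lt ?_)
          exact hVcard ▸ Subgroup.card_le_of_le Subgroup.le_normalizer
        have hNp : IsPGroup p N := ((IsPGroup.of_card hX).to_quotient Z).to_subgroup N
        haveI : Group.IsNilpotent N := hNp.isNilpotent
        have hVc : V.subgroupOf N ≤ Subgroup.center N := by
          have hc' : Nat.card (V.subgroupOf N) = p := by
            rw [Nat.card_congr (Subgroup.subgroupOfEquivOfLe
              (Subgroup.le_normalizer : V ≤ N)).toEquiv, hVcard]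
          letI : MulAction N (V.subgroupOf N) := MulAction.compHom _
            (MulAut.conjNormal (H := V.subgroupOf N) : N →* MulAut (V.subgroupOf N))
          obtain ⟨b, hb, hb1⟩ := hNp.exists_fixed_point_of_prime_dvd_card_of_fixed_point
            (V.subgroupOf N) (dvd_of_eq hc'.symm)
            (a := (1 : V.subgroupOf N)) (fun g => map_one (MulAut.conjNormal g : MulAut _))
          have hbc : (b : N) ∈ Subgroup.center N := Subgroup.mem_center_iff.mpr fun g => by
            have h' := congrArg (fun z : V.subgroupOf N => (z : N)) (hb g)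
            change ((MulAut.conjNormal g b : V.subgroupOf N) : N) = _ at h'
            rw [MulAut.conjNormal_apply] at h'
            exact mul_inv_eq_iff_eq_mul.mp h'
          intro z hz
          obtain ⟨i, hi⟩ := Subgroup.mem_zpowers_iff.mp
            (mem_zpowers_of_prime_card hc' (fun e => hb1 e.symm) : (⟨z, hz⟩ : V.subgroupOf N) ∈ _)
          have : (b : N) ^ i = z := by rw [← SubgroupClass.coe_zpow, hi]
          exact this ▸ zpow_mem hbc i
        have hcV : (⟨f c, Subgroup.le_normalizer (Subgroup.mem_map_of_mem f hc)⟩ : N) ∈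
            Subgroup.center N := hVc (Subgroup.mem_subgroupOf.mpr (Subgroup.mem_map_of_mem f hc))
        have hcomm : f y * f c = f c * f y :=
          congrArg Subtype.val (Subgroup.mem_center_iff.mp hcV ⟨f y, hyV⟩)
        show f (c⁻¹ * (y * c * y⁻¹)) = 1
        rw [map_mul, map_mul, map_mul, map_inv, map_inv, hcomm]; simp
    have hWcard : Nat.card W = p ^ 3 := by
      obtain ⟨j, -, hj⟩ := (Nat.dvd_prime_pow hp).mp (hX ▸ Subgroup.card_subgroup_dvd_card W)
      have hlt : p ^ 2 < p ^ j := by
        rw [← hA, ← hj]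
        exact lt_of_le_of_ne (Subgroup.card_le_of_le hAW.le)
          fun e => hAW.ne (Subgroup.eq_of_le_of_card_ge hAW.le e.ge)
      rw [hA, ← pow_succ', hj] at hWle
      rw [hj, le_antisymm ((Nat.pow_le_pow_iff_right hp.one_lt).mp hWle)
        ((Nat.pow_lt_pow_iff_right hp.one_lt).mp hlt)]
    have hCbcard : Nat.card Cb = p ^ 2 := by
      have h1 := card_comap_mk' Z Cb
      rw [← hW, hWcard, hZcard, pow_succ'] at h1
      exact (Nat.eq_of_mul_eq_mul_left hp.pos h1).symm
    have hq : Nat.card (X ⧸ Z) = p ^ k := by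
      have h1 := Subgroup.card_eq_card_quotient_mul_card_subgroup Z
      rw [hX, hZcard, pow_succ] at h1
      exact (Nat.eq_of_mul_eq_mul_right hp.pos h1).symm
    have hCC : Subgroup.centralizer (Cb : Set (X ⧸ Z)) = Cb := by
      refine le_antisymm (Subgroup.centralizer_le ?_) ?_
      · intro z hz
        obtain ⟨b, hb, rfl⟩ := hz
        exact (hAW.le hb : f b ∈ Cb)
      · haveI := isMulCommutative_of_card_sq hCbcard
        exact Subgroup.le_centralizer Cb
    have h1 := nilpotencyClass_eq_quotient_center_plus_one (G := X)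
    rw [show Group.nilpotencyClass (X ⧸ Subgroup.center X) = k - 1 from ih hq Cb hCbcard hCC] at h1
    omega

theorem maximal_class_of_self_centralizing_cube {X : Type u} [Group X] [Finite X] (n : ℕ)
    (hX : Nat.card X = p ^ n) (B : Subgroup X) (hB : Nat.card B = p ^ 3)
    (hBna : ¬ IsMulCommutative B) (hC : Subgroup.centralizer (B : Set X) ≤ B) :
    Group.nilpotencyClass X = n - 1 := by
  have hp := (Fact.out : p.Prime)
  haveI hnil : Group.IsNilpotent X := (IsPGroup.of_card hX).isNilpotent
  haveI : Nontrivial X := by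
    refine Finite.one_lt_card_iff_nontrivial.mp (lt_of_lt_of_le (Nat.one_lt_pow three_ne_zero hp.one_lt) ?_)
    exact hB ▸ Subgroup.card_le_card_group B
  set Z := Subgroup.center X with hZ
  have hZC : Z ≤ Subgroup.centralizer (B : Set X) := Subgroup.center_le_centralizer _
  obtain ⟨b₁, h₁, b₂, h₂, hne⟩ : ∃ b₁ ∈ B, ∃ b₂ ∈ B, b₁ * b₂ ≠ b₂ * b₁ := by
    by_contra h
    simp only [not_exists, not_and, ne_eq, not_not] at h
    exact hBna ⟨⟨fun x y => Subtype.ext (h x x.2 y y.2)⟩⟩
  set D := Subgroup.centralizer (B : Set X) with hD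
  have hDcard : Nat.card D = p := by
    obtain ⟨i, hi3, hi⟩ := (Nat.dvd_prime_pow hp).mp (hB ▸ Subgroup.card_dvd_of_le hC)
    have h0 : i ≠ 0 := fun e => Group.IsNilpotent.center_ne_bot (G := X)
      (eq_bot_iff.mpr (hZC.trans (le_of_eq (Subgroup.card_eq_one.mp (by rw [hi, e, pow_zero])))))
    by_contra hne1
    have hi2 : 2 ≤ i := by
      rcases Nat.lt_or_ge i 2 with h | h
      · exact absurd (by rw [hi, show i = 1 by omega, pow_one]) hne1
      · exact h
    haveI : ((D.subgroupOf B)).Normal := ⟨fun x hx y => by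
      rw [Subgroup.mem_subgroupOf, hD, Subgroup.mem_centralizer_iff] at hx ⊢
      intro z hz
      have h1 := hx ((y : X)⁻¹ * z * y) (mul_mem (mul_mem (inv_mem y.2) hz) y.2)
      simp only [Subgroup.coe_mul, Subgroup.coe_inv]
      calc z * ((y : X) * x * (y : X)⁻¹) = (y : X) * (((y : X)⁻¹ * z * y) * x) * (y : X)⁻¹ := by group
        _ = (y : X) * (x * ((y : X)⁻¹ * z * y)) * (y : X)⁻¹ := by rw [h1]
        _ = _ := by group⟩
    have hle : D.subgroupOf B ≤ Subgroup.center B := fun x hx =>
      Subgroup.mem_center_iff.mpr fun y => Subtype.ext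
        (Subgroup.mem_centralizer_iff.mp (Subgroup.mem_subgroupOf.mp hx) _ y.2)
    have hcyc : IsCyclic (B ⧸ D.subgroupOf B) := by
      have h1 := Subgroup.card_eq_card_quotient_mul_card_subgroup (D.subgroupOf B)
      rw [hB, Nat.card_congr (Subgroup.subgroupOfEquivOfLe hC).toEquiv, hi] at h1
      rcases (show i = 2 ∨ i = 3 by omega) with rfl | rfl
      · rw [pow_succ' p 2] at h1
        exact isCyclic_of_prime_card (Nat.eq_of_mul_eq_mul_right (Nat.pow_pos hp.pos) h1).symm
      · have : Nat.card (B ⧸ D.subgroupOf B) = 1 :=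
          (Nat.eq_of_mul_eq_mul_right (Nat.pow_pos hp.pos) ((one_mul _).trans h1)).symm
        haveI := (Nat.card_eq_one_iff_unique.mp this).1
        infer_instance
    exact hne (congrArg Subtype.val
      (commutative_of_cyclic_center_quotient (QuotientGroup.mk' (D.subgroupOf B))
        (by rw [QuotientGroup.ker_mk']; exact hle) ⟨b₁, h₁⟩ ⟨b₂, h₂⟩))
  have hZcard : Nat.card Z = p :=
    ((Nat.dvd_prime hp).mp (hDcard ▸ Subgroup.card_dvd_of_le hZC)).resolve_left
      fun e => Group.IsNilpotent.center_ne_bot (G := X) (Subgroup.card_eq_one.mp e)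
  have hZB : Z ≤ B := hZC.trans hC
  set f := QuotientGroup.mk' Z with hf
  set V := B.map f with hV
  set Cb := Subgroup.centralizer (V : Set (X ⧸ Z)) with hCb
  set W := Cb.comap f with hW
  have hVcard : Nat.card V = p ^ 2 := by
    have h1 := card_comap_mk' Z V
    rw [hV, Subgroup.comap_map_eq, QuotientGroup.ker_mk', sup_eq_left.mpr hZB, hB, hZcard,
      pow_succ'] at h1
    exact (Nat.eq_of_mul_eq_mul_left hp.pos h1).symm
  have memW : ∀ y : X, y ∈ W ↔ ∀ a ∈ B, a⁻¹ * (y * a * y⁻¹) ∈ Z :=
    mem_centralizer_quot_iff Z B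
  have hgen : ∀ y : X, y * b₁ = b₁ * y → y * b₂ = b₂ * y → y ∈ D := by
    intro y hy₁ hy₂
    set K := B ⊓ Subgroup.centralizer ({y} : Set X)
    have m₁ : b₁ ∈ K := ⟨h₁, Subgroup.mem_centralizer_singleton_iff.mpr hy₁.symm⟩
    have m₂ : b₂ ∈ K := ⟨h₂, Subgroup.mem_centralizer_singleton_iff.mpr hy₂.symm⟩
    obtain ⟨i, hi3, hi⟩ := (Nat.dvd_prime_pow hp).mp
      (hB ▸ Subgroup.card_dvd_of_le (inf_le_left : K ≤ B))
    have hKB : K = B := by
      refine Subgroup.eq_of_le_of_card_ge inf_le_left ?_
      rw [hB, hi]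
      refine Nat.pow_le_pow_right hp.pos ?_
      by_contra hlt
      have : IsMulCommutative K := by
        rcases (show i = 0 ∨ i = 1 ∨ i = 2 by omega) with rfl | rfl | rfl
        · haveI := (Nat.card_eq_one_iff_unique.mp (hi.trans (pow_zero p))).1
          exact ⟨⟨fun x y => Subsingleton.elim _ _⟩⟩
        · haveI := isCyclic_of_prime_card (hi.trans (pow_one p))
          infer_instance
        · exact isMulCommutative_of_card_sq hi
      exact hne (congrArg Subtype.val (this.1.1 ⟨b₁, m₁⟩ ⟨b₂, m₂⟩))
    rw [hD, Subgroup.mem_centralizer_iff]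
    intro b hb
    have : b ∈ K := hKB.symm ▸ (hb : b ∈ B)
    exact Subgroup.mem_centralizer_singleton_iff.mp this.2
  have hWle : Nat.card W ≤ p * p * p := by
    rw [show p * p * p = Nat.card ((Z × Z) × D) by rw [Nat.card_prod, Nat.card_prod, hZcard, hDcard]]
    let e : W → Z × Z := fun y => (⟨b₁⁻¹ * ((y : X) * b₁ * (y : X)⁻¹), (memW _).mp y.2 _ h₁⟩,
      ⟨b₂⁻¹ * ((y : X) * b₂ * (y : X)⁻¹), (memW _).mp y.2 _ h₂⟩)
    let r : W → W := fun y => (⟨y, rfl⟩ : ∃ d : W, e d = e y).choose
    have hr : ∀ y, e (r y) = e y := fun y => (⟨y, rfl⟩ : ∃ d : W, e d = e y).choose_spec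
    have key : ∀ (b : X) (y : W), (r y : X) * b * (r y : X)⁻¹ = (y : X) * b * (y : X)⁻¹ →
        (r y : X)⁻¹ * y * b = b * ((r y : X)⁻¹ * y) := fun b y h' => by
      calc (r y : X)⁻¹ * y * b = (r y : X)⁻¹ * ((y : X) * b * (y : X)⁻¹) * y := by group
        _ = (r y : X)⁻¹ * ((r y : X) * b * (r y : X)⁻¹) * y := by rw [h']
        _ = _ := by group
    refine Nat.card_le_card_of_injective (fun y => (e y, (⟨(r y : X)⁻¹ * y, hgen _
      (key _ y (mul_left_cancel (congrArg (fun t : Z × Z => (t.1 : X)) (hr y))))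
      (key _ y (mul_left_cancel (congrArg (fun t : Z × Z => (t.2 : X)) (hr y))))⟩ : D))) ?_
    intro y y' h
    obtain ⟨g1, g2⟩ := Prod.ext_iff.mp h
    have g1' : e y = e y' := g1
    have hrr : r y = r y' := by simp only [r, g1']
    have g2' : (r y : X)⁻¹ * y = (r y' : X)⁻¹ * y' := congrArg Subtype.val g2
    rw [hrr] at g2'
    exact Subtype.ext (mul_left_cancel g2')
  have hCC : Cb = V := by
    haveI := isMulCommutative_of_card_sq hVcard
    refine (Subgroup.eq_of_le_of_card_ge (Subgroup.le_centralizer V) ?_).symm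
    have h1 := card_comap_mk' Z Cb
    rw [← hW, hZcard] at h1
    rw [hVcard, sq]
    exact Nat.le_of_mul_le_mul_left (by rw [← h1, ← mul_assoc]; exact hWle) hp.pos
  have hq : Nat.card (X ⧸ Z) = p ^ (n - 1) := by
    have h1 := Subgroup.card_eq_card_quotient_mul_card_subgroup Z
    have hn : 3 ≤ n := (Nat.pow_le_pow_iff_right hp.one_lt).mp
      (hX ▸ hB ▸ Subgroup.card_le_card_group B)
    rw [hX, hZcard, show n = n - 1 + 1 by omega, pow_succ] at h1
    exact (Nat.eq_of_mul_eq_mul_right hp.pos h1).symm
  have hn : 3 ≤ n := (Nat.pow_le_pow_iff_right hp.one_lt).mp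
    (hX ▸ hB ▸ Subgroup.card_le_card_group B)
  have h1 := nilpotencyClass_eq_quotient_center_plus_one (G := X)
  have hVV : Subgroup.centralizer (V : Set (X ⧸ Z)) = V := hCC
  rw [show Group.nilpotencyClass (X ⧸ Subgroup.center X) = n - 1 - 1 from
    suzuki_maximal_class (n - 1) hq V hVcard hVV] at h1
  omega

end Cfsg.Agent.FG78
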