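import Mathlib
import Cfsg.Prelude.Def_Solvable

set_option autoImplicit false

open scoped Pointwise

/-! General lemmas: nilpotent normal subgroups, fixed-point-free split extensions. -/

namespace Cfsg.Agent.FG78

variable {G : Type*} [Group G] [Finite G]

theorem orderOf_eq_prime_pow_of_mem {p : ℕ} [Fact p.Prime] {R : Subgroup G} (hR : IsPGroup p R)
    {g : G} (hg : g ∈ R) : ∃ k : ℕ, orderOf g = p ^ k := by
  obtain ⟨k, hk⟩ := IsPGroup.iff_orderOf.mp hR ⟨g, hg⟩
  exact ⟨k, (Subgroup.orderOf_mk g hg).symm.trans hk⟩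

/-- A normal nilpotent subgroup not inside `N` has a normal Sylow subgroup not inside `N`. -/
theorem exists_normal_pGroup_not_le {K N : Subgroup G} [K.Normal] (hK : Group.IsNilpotent K)
    (hKN : ¬ K ≤ N) :
    ∃ (q : ℕ) (R : Subgroup G), q.Prime ∧ q ∣ Nat.card K ∧ R.Normal ∧ IsPGroup q R ∧ R ≤ K ∧
      ¬ R ≤ N := by
  by_contra hne
  simp only [not_exists, not_and, not_not] at hne
  apply hKN
  rw [← Subgroup.subgroupOf_eq_top, ← Subgroup.index_eq_one]
  by_contra h1
  obtain ⟨q, hq, hd⟩ := Nat.exists_prime_and_dvd h1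
  haveI := Fact.mk hq
  obtain ⟨Q⟩ := (inferInstance : Nonempty (Sylow q K))
  haveI := hK
  have hQn : (Q : Subgroup K).Normal := inferInstance
  haveI := Sylow.characteristic_of_normal Q hQn
  have hle : (Q : Subgroup K) ≤ N.subgroupOf K := fun x hx =>
    Subgroup.mem_subgroupOf.mpr (hne q ((Q : Subgroup K).map K.subtype) hq
      (hd.trans (Subgroup.index_dvd_card _)) inferInstance (Q.2.map _)
      (Subgroup.map_subtype_le _) (Subgroup.mem_map_of_mem K.subtype hx))
  exact Q.not_dvd_index (hd.trans (Subgroup.index_dvd_of_le hle))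

/-- A split extension with a fixed-point-free complement is a Frobenius group. -/
theorem frobenius_of_fpf (N H : Subgroup G) [N.Normal] (hN : N ≠ ⊥) (hH : H ≠ ⊥)
    (hdisj : N ⊓ H = ⊥) (htop : N ⊔ H = ⊤)
    (hfpf : ∀ h ∈ H, h ≠ 1 → ∀ n ∈ N, Commute h n → n = 1) :
    Cfsg.IsFrobeniusComplement H ∧ Cfsg.frobeniusKernel H = (N : Set G) := by
  have hdec : ∀ g : G, ∃ n ∈ N, ∃ h ∈ H, g = n * h := by
    intro g
    have : g ∈ ((N ⊔ H : Subgroup G) : Set G) := by rw [htop]; trivial
    rw [Subgroup.normal_mul] at this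
    obtain ⟨n, hn, h, hh, rfl⟩ := this
    exact ⟨n, hn, h, hh, rfl⟩
  have h1 : ∀ x : G, x ∈ N → x ∈ H → x = 1 := fun x hx hx' =>
    Subgroup.mem_bot.mp (hdisj ▸ Subgroup.mem_inf.mpr ⟨hx, hx'⟩)
  have memc : ∀ g y : G, y ∈ MulAut.conj g • H ↔ g⁻¹ * y * g ∈ H := by
    intro g y
    rw [Subgroup.mem_pointwise_smul_iff_inv_smul_mem]
    simp [MulAut.smul_def]
  refine ⟨⟨hH, fun e => hN (by rwa [e, inf_top_eq] at hdisj), fun g hg => ?_⟩, ?_⟩
  · rw [eq_bot_iff]
    intro y hy
    obtain ⟨hyH, hyc⟩ := Subgroup.mem_inf.mp hy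
    rw [memc] at hyc
    obtain ⟨n, hn, h, hh, rfl⟩ := hdec g
    have hz : n⁻¹ * y * n ∈ H := by
      simpa [mul_assoc] using mul_mem (mul_mem hh hyc) (inv_mem hh)
    have hzy : y⁻¹ * (n⁻¹ * y * n) = 1 := h1 _
      (by
        have := Subgroup.Normal.conj_mem ‹N.Normal› _ (inv_mem hn) y⁻¹
        rw [inv_inv] at this
        simpa [mul_assoc] using mul_mem this hn)
      (mul_mem (inv_mem hyH) hz)
    rw [Subgroup.mem_bot]
    by_contra hy1
    have hc : Commute y n := by
      rw [inv_mul_eq_one] at hzy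
      show y * n = n * y
      calc y * n = n * (n⁻¹ * y * n) := by group
        _ = n * y := by rw [← hzy]
    exact hg (by simpa [hfpf y hyH hy1 n hn hc] using hh)
  · ext x
    constructor
    · rintro (rfl | hx)
      · exact one_mem N
      obtain ⟨m, hm, h, hh, rfl⟩ := hdec x
      by_cases hh1 : h = 1
      · simpa [hh1] using hm
      exfalso
      let f : N → N := fun n => ⟨(n : G) * (h * (n : G)⁻¹ * h⁻¹),
        mul_mem n.2 (Subgroup.Normal.conj_mem ‹N.Normal› _ (inv_mem n.2) h)⟩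
      have hf : Function.Injective f := by
        intro a b e
        have e' : (a : G) * (h * (a : G)⁻¹ * h⁻¹) = (b : G) * (h * (b : G)⁻¹ * h⁻¹) :=
          congrArg Subtype.val e
        have hc : Commute h ((b : G)⁻¹ * a) := by
          show h * ((b : G)⁻¹ * a) = (b : G)⁻¹ * a * h
          calc h * ((b : G)⁻¹ * a) = (b : G)⁻¹ * ((b : G) * (h * (b : G)⁻¹ * h⁻¹)) * h * a := by group
            _ = (b : G)⁻¹ * ((a : G) * (h * (a : G)⁻¹ * h⁻¹)) * h * a := by rw [e']
            _ = _ := by group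
        exact Subtype.ext (inv_mul_eq_one.mp (hfpf h hh hh1 _ (mul_mem (inv_mem b.2) a.2) hc)).symm
      obtain ⟨n, hn⟩ := Finite.surjective_of_injective hf ⟨m, hm⟩
      have hn' : (n : G) * (h * (n : G)⁻¹ * h⁻¹) = m := congrArg Subtype.val hn
      refine hx n ((memc _ _).mpr ?_)
      rw [← hn']
      simpa [mul_assoc] using hh
    · intro hx
      by_cases hx1 : x = 1
      · exact Or.inl hx1
      refine Or.inr fun g hg => hx1 ?_
      rw [memc] at hg
      have := h1 _ (by simpa using Subgroup.Normal.conj_mem ‹N.Normal› _ hx g⁻¹) hg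
      rw [mul_assoc, inv_mul_eq_one, eq_comm, mul_eq_right] at this
      exact this

end Cfsg.Agent.FG78
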