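import Cfsg.Agent.FG78.PiParts
import Cfsg.Agent.FG78.Basic

set_option autoImplicit false

/-! Class sizes as indices of centralizers: conjugacy, covering by conjugates, products of parts. -/

namespace Cfsg.Agent.FG78

open scoped Pointwise

variable {G : Type*} [Group G] [Finite G]

/-- Jordan: a finite group is not covered by the conjugates of a proper subgroup. -/
theorem eq_top_of_conjugates_cover (W : Subgroup G) (h : ∀ g : G, ∃ c : G, c * g * c⁻¹ ∈ W) :
    W = ⊤ := by
  classical
  by_contra hW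
  have hs : Nat.card {g : G // g ≠ 1} ≤ Nat.card (G ⧸ W) * Nat.card {w : W // w ≠ 1} := by
    rw [← Nat.card_prod]
    refine Nat.card_le_card_of_surjective (fun cw => (⟨cw.1.out * (cw.2.1 : G) * cw.1.out⁻¹,
      fun e => cw.2.2 (Subtype.ext (conj_eq_one_iff.mp e))⟩ : {g : G // g ≠ 1})) fun g => ?_
    obtain ⟨c, hc⟩ := h g.1
    obtain ⟨w, hw⟩ := QuotientGroup.mk_out_eq_mul W c⁻¹
    refine ⟨((c⁻¹ : G), ⟨⟨(w : G)⁻¹ * (c * g.1 * c⁻¹) * w, mul_mem (mul_mem (inv_mem w.2) hc) w.2⟩, ?_⟩),
      Subtype.ext ?_⟩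
    · intro e
      refine g.2 ?_
      have e' : (w : G)⁻¹ * (c * g.1 * c⁻¹) * w = 1 := congrArg Subtype.val e
      calc g.1 = c⁻¹ * w * ((w : G)⁻¹ * (c * g.1 * c⁻¹) * w) * (w : G)⁻¹ * c := by group
        _ = 1 := by rw [e']; group
    · show ((c⁻¹ : G) : G ⧸ W).out * _ * _ = g.1
      rw [hw]; simp [mul_assoc]
  have e := Subgroup.card_eq_card_quotient_mul_card_subgroup W
  have e2 : Nat.card {g : G // g ≠ 1} + 1 = Nat.card G := by
    have := Finite.card_option (α := {g : G // g ≠ 1})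
    rw [Nat.card_congr (Equiv.optionSubtypeNe (1 : G))] at this
    exact this.symm
  have e3 : Nat.card {w : W // w ≠ 1} + 1 = Nat.card W := by
    have := Finite.card_option (α := {w : W // w ≠ 1})
    rw [Nat.card_congr (Equiv.optionSubtypeNe (1 : W))] at this
    exact this.symm
  have e4 : 1 < Nat.card (G ⧸ W) := by
    rw [← Subgroup.index_eq_card]
    exact Subgroup.one_lt_index_of_ne_top hW
  rw [← e3, mul_add, mul_one] at e
  omega

theorem mem_cent_iff {x y : G} :
    y ∈ Subgroup.centralizer ({x} : Set G) ↔ Commute y x :=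
  Subgroup.mem_centralizer_singleton_iff.trans Iff.rfl

theorem index_centralizer_conj (c x : G) :
    (Subgroup.centralizer ({c * x * c⁻¹} : Set G)).index =
      (Subgroup.centralizer ({x} : Set G)).index := by
  have e : Subgroup.centralizer ({c * x * c⁻¹} : Set G) =
      (Subgroup.centralizer ({x} : Set G)).map (MulAut.conj c : G ≃* G) := by
    ext y
    rw [mem_cent_iff]
    constructor
    · intro hy
      refine ⟨c⁻¹ * y * c, mem_cent_iff.mpr ?_, by simp [mul_assoc]⟩
      have := hy.map (MulAut.conj c⁻¹).toMonoidHom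
      simpa [mul_assoc] using this
    · rintro ⟨z, hz, rfl⟩
      exact (mem_cent_iff.mp hz).map (MulAut.conj c).toMonoidHom
  rw [e, Subgroup.index_map_equiv]

/-- Centralizer of a product of commuting `π` and `π'` elements. -/
theorem centralizer_mul_eq (π : Set ℕ) {a b : G} (hab : Commute a b) (ha : IsPiElem π a)
    (hb : IsPiElem πᶜ b) : Subgroup.centralizer ({a * b} : Set G) =
      Subgroup.centralizer ({a} : Set G) ⊓ Subgroup.centralizer ({b} : Set G) := by
  refine le_antisymm (fun y hy => ?_) fun y hy => ?_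
  · have hu := piPart_unique hab ha hb (g := a * b) rfl
    rw [mem_cent_iff] at hy
    exact ⟨mem_cent_iff.mpr (hu.1 ▸ commute_piPart π _ hy),
      mem_cent_iff.mpr (hu.2 ▸ commute_piPart' π _ hy)⟩
  · exact mem_cent_iff.mpr ((mem_cent_iff.mp hy.1).mul_right (mem_cent_iff.mp hy.2))

theorem isPiElem_singleton_of_pow {p k : ℕ} (hp : p.Prime) {x : G} (h : orderOf x = p ^ k) :
    IsPiElem {p} x := fun q hq hd =>
  Set.mem_singleton_iff.mpr ((Nat.prime_dvd_prime_iff_eq hq hp).mp (hq.dvd_of_dvd_pow (h ▸ hd)))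

theorem exists_pow_of_isPiElem_singleton {p : ℕ} {x : G} (h : IsPiElem {p} x) :
    ∃ k : ℕ, orderOf x = p ^ k :=
  ⟨_, Nat.eq_prime_pow_of_unique_prime_dvd (orderOf_pos _).ne' fun {q} hq hd => h q hq hd⟩

theorem isPiElem_compl_singleton_iff {p : ℕ} [Fact p.Prime] {x : G} :
    IsPiElem ({p}ᶜ : Set ℕ) x ↔ ¬ p ∣ orderOf x :=
  ⟨fun h hd => h p Fact.out hd rfl, fun h q _ hd e => h (Set.mem_singleton_iff.mp e ▸ hd)⟩

theorem not_dvd_piPart' {p : ℕ} [Fact p.Prime] (x : G) : ¬ p ∣ orderOf (piPart' {p} x) :=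
  isPiElem_compl_singleton_iff.mp (isPiElem_piPart' {p} x)

/-- If the index of `C(z)` is prime to `p`, every Sylow subgroup is conjugate into `C(z)`. -/
theorem exists_conj_mem_centralizer_sylow {p : ℕ} [Fact p.Prime] {z : G} (P : Sylow p G)
    (h : ¬ p ∣ (Subgroup.centralizer ({z} : Set G)).index) :
    ∃ c : G, c * z * c⁻¹ ∈ Subgroup.centralizer ((P : Subgroup G) : Set G) := by
  obtain ⟨R⟩ := (inferInstance : Nonempty (Sylow p (Subgroup.centralizer ({z} : Set G))))
  have hcard : Nat.card ((R : Subgroup _).map (Subgroup.centralizer ({z} : Set G)).subtype) =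
      p ^ (Nat.card G).factorization p := by
    rw [Subgroup.card_map_of_injective (Subgroup.subtype_injective _), R.card_eq_multiplicity]
    congr 1
    rw [← Subgroup.card_mul_index (Subgroup.centralizer ({z} : Set G)),
      Nat.factorization_mul Nat.card_pos.ne' Subgroup.index_ne_zero_of_finite, Finsupp.add_apply,
      Nat.factorization_eq_zero_of_not_dvd h, add_zero]
  let R' : Sylow p G := Sylow.ofCard _ hcard
  obtain ⟨c, hc⟩ := MulAction.exists_smul_eq G R' P
  refine ⟨c, Subgroup.mem_centralizer_iff.mpr fun y hy => ?_⟩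
  rw [← hc, SetLike.mem_coe, Sylow.coe_subgroup_smul,
    Subgroup.mem_pointwise_smul_iff_inv_smul_mem] at hy
  have h1 : c⁻¹ * y * c ∈ (R' : Subgroup G) := by simpa [MulAut.smul_def] using hy
  have h2 : Commute (c⁻¹ * y * c) z := mem_cent_iff.mp (Subgroup.map_subtype_le _ h1)
  have := h2.map (MulAut.conj c).toMonoidHom
  simpa [mul_assoc] using this.eq

/-- If no class size of a `p'`-element is divisible by `p`, the Sylow `p`-subgroup is a direct
factor. -/
theorem direct_factor_of_p_regular_index {p : ℕ} [Fact p.Prime]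
    (h : ∀ z : G, ¬ p ∣ orderOf z → ¬ p ∣ (Subgroup.centralizer ({z} : Set G)).index)
    (P : Sylow p G) :
    (P : Subgroup G).Normal ∧ ∃ A : Subgroup G, A.Normal ∧ A.IsComplement' (P : Subgroup G) ∧
      A ≤ Subgroup.centralizer ((P : Subgroup G) : Set G) ∧
      ∀ z : G, ¬ p ∣ orderOf z → z ∈ A := by
  have hp := (Fact.out : p.Prime)
  set W := Subgroup.normalizer ((P : Subgroup G) : Set G)
  have hW : W = ⊤ := by
    refine eq_top_of_conjugates_cover W fun g => ?_
    obtain ⟨c, hc⟩ := exists_conj_mem_centralizer_sylow P (h _ (not_dvd_piPart' (p := p) g))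
    set C := Subgroup.centralizer ({c * piPart' {p} g * c⁻¹} : Set G)
    have hPC : (P : Subgroup G) ≤ C := fun y hy =>
      mem_cent_iff.mpr (Subgroup.mem_centralizer_iff.mp hc y hy)
    have hgC : c * piPart {p} g * c⁻¹ ∈ C :=
      mem_cent_iff.mpr ((commute_piPart_piPart' {p} g).map (MulAut.conj c).toMonoidHom)
    obtain ⟨k, hk⟩ := exists_pow_of_isPiElem_singleton
      ((isPiElem_conj_iff c _).mpr (isPiElem_piPart {p} g))
    obtain ⟨Q, hQ⟩ := (IsPGroup.of_card (n := k)
      (by rw [Nat.card_zpowers, Subgroup.orderOf_mk, hk]) :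
        IsPGroup p (Subgroup.zpowers (⟨_, hgC⟩ : C))).exists_le_sylow
    obtain ⟨d, hd⟩ := MulAction.exists_smul_eq C Q (P.subtype hPC)
    refine ⟨(d : G) * c, ?_⟩
    have e : (d : G) * c * g * ((d : G) * c)⁻¹ = ((d : G) * (c * piPart {p} g * c⁻¹) * (d : G)⁻¹) *
        (c * piPart' {p} g * c⁻¹) := by
      have hd' : (d : G) * (c * piPart' {p} g * c⁻¹) = (c * piPart' {p} g * c⁻¹) * (d : G) :=
        (mem_cent_iff.mp d.2).eq
      conv_lhs => rw [← piPart_mul_piPart' {p} g]
      calc (d : G) * c * (piPart {p} g * piPart' {p} g) * ((d : G) * c)⁻¹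
          = (d : G) * (c * piPart {p} g * c⁻¹) * (c * piPart' {p} g * c⁻¹) * (d : G)⁻¹ := by group
        _ = (d : G) * (c * piPart {p} g * c⁻¹) * (d : G)⁻¹ *
            ((d : G) * (c * piPart' {p} g * c⁻¹)) * (d : G)⁻¹ := by group
        _ = _ := by rw [hd']; group
    rw [e]
    refine mul_mem (Subgroup.le_normalizer ?_) (Subgroup.centralizer_le_normalizer _ hc)
    have h1 := hQ (Subgroup.mem_zpowers (⟨_, hgC⟩ : C))
    have h2 : d * ⟨_, hgC⟩ * d⁻¹ ∈ ((P.subtype hPC : Sylow p C) : Subgroup C) := by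
      rw [← hd, Sylow.coe_subgroup_smul]
      exact Subgroup.smul_mem_pointwise_smul _ (MulAut.conj d) _ h1
    exact h2
  have hPn : (P : Subgroup G).Normal := Subgroup.normalizer_eq_top_iff.mp hW
  haveI := hPn
  have hcent : ∀ z : G, ¬ p ∣ orderOf z → z ∈ Subgroup.centralizer ((P : Subgroup G) : Set G) := by
    intro z hz
    obtain ⟨c, hc⟩ := exists_conj_mem_centralizer_sylow P (h z hz)
    simpa [mul_assoc] using
      Subgroup.Normal.conj_mem' (inferInstance :
        (Subgroup.centralizer ((P : Subgroup G) : Set G)).Normal) _ hc c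
  obtain ⟨A, hA⟩ := Subgroup.exists_left_complement'_of_coprime P.card_coprime_index
  have hAcard : ¬ p ∣ Nat.card A := by
    rw [← hA.index_eq_card]; exact P.not_dvd_index
  have hAC : A ≤ Subgroup.centralizer ((P : Subgroup G) : Set G) := fun a ha => hcent a fun hd =>
    hAcard (hd.trans ((dvd_of_eq (Subgroup.orderOf_mk a ha).symm).trans (orderOf_dvd_natCard _)))
  have hAn : A.Normal := by
    rw [← Subgroup.normalizer_eq_top_iff, eq_top_iff, ← hA.sup_eq_top, sup_le_iff]
    refine ⟨Subgroup.le_normalizer, fun y hy => Subgroup.centralizer_le_normalizer _ ?_⟩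
    rw [Subgroup.mem_centralizer_iff]
    exact fun a ha => (Subgroup.mem_centralizer_iff.mp (hAC ha) y hy).symm
  haveI := hAn
  refine ⟨hPn, A, hAn, hA, hAC, fun z hz => ?_⟩
  rw [← QuotientGroup.eq_one_iff, ← orderOf_eq_one_iff]
  have h1 : orderOf (z : G ⧸ A) ∣ orderOf z := orderOf_map_dvd (QuotientGroup.mk' A) z
  have h2 : orderOf (z : G ⧸ A) ∣ Nat.card (P : Subgroup G) := by
    rw [← hA.symm.index_eq_card, Subgroup.index_eq_card]
    exact orderOf_dvd_natCard _
  obtain ⟨k, hk⟩ := P.2.exists_card_eq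
  exact Nat.eq_one_of_dvd_coprimes (((hp.coprime_iff_not_dvd.mpr hz).pow_left k).symm) h1 (hk ▸ h2)

end Cfsg.Agent.FG78
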