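import Mathlib
import Cfsg.Agent.FG78.PiParts
import Cfsg.Agent.FG78.IndexLemmas
import Cfsg.Agent.Lib.Frobenius.FixedPointFree

set_option autoImplicit false

/-!
Groups with exactly two conjugacy class sizes.
-/

namespace Cfsg.Agent.FG78.TwoSizes

variable {G : Type*} [Group G] [Finite G]

local notation "Z" => Subgroup.center G

/-- All noncentral elements have class size `n`. -/
def Two (G : Type*) [Group G] (n : ℕ) : Prop :=
  1 < n ∧ ∀ x : G, x ∉ Subgroup.center G → (Subgroup.centralizer ({x} : Set G)).index = n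

variable {n : ℕ}

theorem cent_eq (hT : Two G n) {x y : G} (hx : x ∉ Z) (hy : y ∉ Z)
    (h : Subgroup.centralizer ({x} : Set G) ≤ Subgroup.centralizer ({y} : Set G)) :
    Subgroup.centralizer ({x} : Set G) = Subgroup.centralizer ({y} : Set G) := by
  refine Subgroup.eq_of_le_of_card_ge h (le_of_eq ?_)
  have h1 := Subgroup.card_mul_index (Subgroup.centralizer ({x} : Set G))
  have h2 := Subgroup.card_mul_index (Subgroup.centralizer ({y} : Set G))
  rw [hT.2 x hx] at h1
  rw [hT.2 y hy, ← h1] at h2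
  exact Nat.eq_of_mul_eq_mul_right (by have := hT.1; omega) h2

omit [Finite G] in
theorem cent_mul_central {x c : G} (hc : c ∈ Z) :
    Subgroup.centralizer ({x * c} : Set G) = Subgroup.centralizer ({x} : Set G) := by
  ext g
  rw [Subgroup.mem_centralizer_singleton_iff, Subgroup.mem_centralizer_singleton_iff]
  have hg : g * c = c * g := Subgroup.mem_center_iff.mp hc g
  constructor
  · intro h
    rw [← mul_assoc, mul_assoc x c g, ← hg, ← mul_assoc] at h
    exact mul_right_cancel h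
  · intro h
    rw [← mul_assoc, h, mul_assoc, hg, mul_assoc]

theorem cent_pow {x : G} (hT : Two G n) (k : ℕ) (hx : x ^ k ∉ Z) :
    Subgroup.centralizer ({x} : Set G) = Subgroup.centralizer ({x ^ k} : Set G) := by
  refine cent_eq hT (fun h => hx (pow_mem h k)) hx fun g hg => ?_
  exact mem_cent_iff.mpr ((mem_cent_iff.mp hg).pow_right k)

theorem piPart_not_central {r : ℕ} [Fact r.Prime] {x : G}
    (hr : r ∣ orderOf (QuotientGroup.mk x : G ⧸ Z)) : piPart {r} x ∉ Z := by
  intro h
  have e : (QuotientGroup.mk x : G ⧸ Z) = QuotientGroup.mk (piPart' {r} x) := by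
    conv_lhs => rw [← piPart_mul_piPart' {r} x, QuotientGroup.mk_mul]
    rw [(QuotientGroup.eq_one_iff _).mpr h, one_mul]
  rw [e] at hr
  exact not_dvd_piPart' x (hr.trans (orderOf_map_dvd (QuotientGroup.mk' Z) _))

theorem exists_part {x : G} (hx : x ∉ Z) :
    ∃ r : ℕ, r.Prime ∧ piPart {r} x ∉ Z := by
  obtain ⟨r, hr, hrd⟩ := Nat.exists_prime_and_dvd
    (show orderOf (QuotientGroup.mk x : G ⧸ Z) ≠ 1 by
      rwa [Ne, orderOf_eq_one_iff, QuotientGroup.eq_one_iff])
  haveI := Fact.mk hr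
  exact ⟨r, hr, piPart_not_central hrd⟩

/-- `|C(x)/Z|`. -/
theorem card_map_cent (C : Subgroup G) (hC : Z ≤ C) :
    Nat.card (C.map (QuotientGroup.mk' Z)) * Nat.card (Z) = Nat.card C := by
  have h := Subgroup.card_mul_index ((QuotientGroup.mk' Z).comp C.subtype).ker
  rw [Subgroup.index_ker, MonoidHom.range_comp, Subgroup.range_subtype] at h
  rw [← h, mul_comm]
  congr 1
  rw [← MonoidHom.comap_ker, QuotientGroup.ker_mk']
  exact (Nat.card_congr (Subgroup.subgroupOfEquivOfLe hC).toEquiv).symm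

theorem card_map_cent_eq (hT : Two G n) {x : G} (hx : x ∉ Z) :
    Nat.card ((Subgroup.centralizer ({x} : Set G)).map (QuotientGroup.mk' Z)) * n =
      Nat.card (G ⧸ Z) := by
  have h1 := card_map_cent _ (Subgroup.center_le_centralizer ({x} : Set G))
  have h2 := Subgroup.card_mul_index (Subgroup.centralizer ({x} : Set G))
  have h3 := Subgroup.card_eq_card_quotient_mul_card_subgroup (Z)
  rw [hT.2 x hx, ← h1, h3, mul_assoc, mul_comm _ n, ← mul_assoc] at h2
  exact Nat.eq_of_mul_eq_mul_right Nat.card_pos h2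

/-- If `G/Z(G)` is not a group of prime power order, all centralizers of noncentral elements are
abelian. -/
theorem commute_of_mem (hT : Two G n) (hmix : ∀ r : ℕ, r.Prime → ¬ IsPGroup r (G ⧸ Z))
    {x : G} (hx : x ∉ Z) :
    ∀ a ∈ Subgroup.centralizer ({x} : Set G), ∀ b ∈ Subgroup.centralizer ({x} : Set G),
      Commute a b := by
  classical
  obtain ⟨r, hr, hu⟩ := exists_part hx
  haveI := Fact.mk hr
  set u := piPart {r} x
  have hCxu : Subgroup.centralizer ({x} : Set G) = Subgroup.centralizer ({u} : Set G) :=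
    cent_eq hT hx hu fun g hg => mem_cent_iff.mpr (commute_piPart {r} x (mem_cent_iff.mp hg))
  rw [hCxu]
  have step : ∀ (π : Set ℕ) (a b : G), a ∉ Z → Subgroup.centralizer ({a} : Set G) =
      Subgroup.centralizer ({u} : Set G) → IsPiElem π a → IsPiElem πᶜ b →
      b ∈ Subgroup.centralizer ({u} : Set G) →
      Subgroup.centralizer ({u} : Set G) ≤ Subgroup.centralizer ({b} : Set G) := by
    intro π a b ha hau hpa hpb hb
    have hab : Commute a b := (mem_cent_iff.mp (hau.symm ▸ hb)).symm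
    have hC := centralizer_mul_eq π hab hpa hpb
    have hne : a * b ∉ Z := by
      intro h
      have h' : Subgroup.centralizer ({a * b} : Set G) = ⊤ :=
        eq_top_iff.mpr fun g _ => mem_cent_iff.mpr (Subgroup.mem_center_iff.mp h g)
      rw [hC, inf_eq_top_iff] at h'
      exact ha (Subgroup.mem_center_iff.mpr fun g =>
        (mem_cent_iff.mp (h'.1.symm ▸ Subgroup.mem_top g)).eq)
    have h2 := cent_eq hT hne ha (hC.le.trans inf_le_left)
    rw [hC, inf_eq_left, hau] at h2
    exact h2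
  have hcentral' : ∀ y ∈ Subgroup.centralizer ({u} : Set G), IsPiElem ({r}ᶜ : Set ℕ) y →
      Subgroup.centralizer ({u} : Set G) ≤ Subgroup.centralizer ({y} : Set G) :=
    fun y hy hyp => step {r} u y hu rfl (isPiElem_piPart {r} x) hyp hy
  by_cases hall : ∀ y ∈ Subgroup.centralizer ({u} : Set G), IsPiElem ({r}ᶜ : Set ℕ) y → y ∈ Z
  · exfalso
    refine hmix r hr ?_
    have hpg : IsPGroup r ((Subgroup.centralizer ({u} : Set G)).map (QuotientGroup.mk' Z)) := by
      rintro ⟨_, g, hg, rfl⟩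
      obtain ⟨k, hk⟩ := exists_pow_of_isPiElem_singleton (isPiElem_piPart {r} g)
      refine ⟨k, Subtype.ext ?_⟩
      show (QuotientGroup.mk' Z g) ^ r ^ k = 1
      conv_lhs => rw [← piPart_mul_piPart' {r} g, map_mul]
      rw [show QuotientGroup.mk' Z (piPart' {r} g) = 1 from (QuotientGroup.eq_one_iff _).mpr
        (hall _ (piPart'_mem {r} g hg) (isPiElem_piPart' {r} g)), mul_one, ← map_pow, ← hk,
        pow_orderOf_eq_one, map_one]
    obtain ⟨k, hk⟩ := hpg.exists_card_eq
    intro q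
    obtain ⟨g, rfl⟩ := QuotientGroup.mk_surjective q
    by_cases hg : g ∈ Z
    · exact ⟨0, by rw [(QuotientGroup.eq_one_iff _).mpr hg, one_pow]⟩
    · refine ⟨k, orderOf_dvd_iff_pow_eq_one.mp ?_⟩
      have h1 : Nat.card ((Subgroup.centralizer ({g} : Set G)).map (QuotientGroup.mk' Z)) =
          r ^ k := by
        refine (Nat.eq_of_mul_eq_mul_right (show 0 < n by have := hT.1; omega) ?_).trans hk
        rw [card_map_cent_eq hT hg, card_map_cent_eq hT hu]
      rw [← h1, ← Subgroup.orderOf_mk (QuotientGroup.mk g : G ⧸ Z)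
        (Subgroup.mem_map_of_mem (QuotientGroup.mk' Z) (mem_cent_iff.mpr (Commute.refl g)))]
      exact orderOf_dvd_natCard _
  · push Not at hall
    obtain ⟨y, hy, hyp, hyZ⟩ := hall
    have hCy : Subgroup.centralizer ({y} : Set G) = Subgroup.centralizer ({u} : Set G) :=
      (cent_eq hT hu hyZ (hcentral' y hy hyp)).symm
    have hcentral : ∀ w ∈ Subgroup.centralizer ({u} : Set G), IsPiElem ({r} : Set ℕ) w →
        Subgroup.centralizer ({u} : Set G) ≤ Subgroup.centralizer ({w} : Set G) :=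
      fun w hw hwp => step ({r}ᶜ) y w hyZ hCy hyp (by rwa [compl_compl]) hw
    intro a ha b hb
    rw [← piPart_mul_piPart' {r} b]
    refine Commute.mul_right ?_ ?_
    · exact mem_cent_iff.mp (hcentral _ (piPart_mem {r} b hb) (isPiElem_piPart {r} b) ha)
    · exact mem_cent_iff.mp (hcentral' _ (piPart'_mem {r} b hb) (isPiElem_piPart' {r} b) ha)

section Mixed

variable (hT : Two G n) (hmix : ∀ r : ℕ, r.Prime → ¬ IsPGroup r (G ⧸ Subgroup.center G))

include hT hmix

theorem cent_eq_of_mem {x y : G} (hx : x ∉ Z) (hy : y ∉ Z)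
    (h : x ∈ Subgroup.centralizer ({y} : Set G)) :
    Subgroup.centralizer ({x} : Set G) = Subgroup.centralizer ({y} : Set G) :=
  (cent_eq hT hy hx fun g hg => mem_cent_iff.mpr (commute_of_mem hT hmix hy g hg x h)).symm

theorem dvd_card_map {p : ℕ} (hp : p.Prime) (hpG : p ∣ Nat.card (G ⧸ Z)) {x : G} (hx : x ∉ Z) :
    p ∣ Nat.card ((Subgroup.centralizer ({x} : Set G)).map (QuotientGroup.mk' Z)) := by
  haveI := Fact.mk hp
  obtain ⟨q, hq⟩ := exists_prime_orderOf_dvd_card' p hpG
  obtain ⟨g, rfl⟩ := QuotientGroup.mk_surjective q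
  have hg : g ∉ Z := fun h => by
    rw [(QuotientGroup.eq_one_iff _).mpr h, orderOf_one] at hq
    exact hp.ne_one hq.symm
  have h1 := card_map_cent_eq hT hg
  rw [← card_map_cent_eq hT hx] at h1
  rw [← Nat.eq_of_mul_eq_mul_right (by have := hT.1; omega) h1, ← hq,
    ← Subgroup.orderOf_mk (QuotientGroup.mk g : G ⧸ Z)
      (Subgroup.mem_map_of_mem (QuotientGroup.mk' Z) (mem_cent_iff.mpr (Commute.refl g)))]
  exact orderOf_dvd_natCard _

/-- The centralizer attached to a Sylow subgroup. -/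
theorem exists_special {p : ℕ} [hp : Fact p.Prime] (hpG : p ∣ Nat.card (G ⧸ Z)) (P : Sylow p G) :
    ∃ z : G, z ∈ (P : Subgroup G) ∧ z ∉ Z ∧
      (∀ g ∈ (P : Subgroup G), ∀ w ∈ Subgroup.centralizer ({z} : Set G),
        g * w * g⁻¹ ∈ Subgroup.centralizer ({z} : Set G)) ∧
      (∀ g ∈ (P : Subgroup G), g ^ p ∈ Subgroup.centralizer ({z} : Set G)) ∧
      (∀ g ∈ (P : Subgroup G), ∀ h ∈ (P : Subgroup G),
        g * h * g⁻¹ * h⁻¹ ∈ Subgroup.centralizer ({z} : Set G)) := by
  classical
  set Pb : Subgroup (G ⧸ Z) := (P : Subgroup G).map (QuotientGroup.mk' Z)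
  have hPb : IsPGroup p Pb := P.2.map _
  haveI : Nontrivial Pb := by
    rw [Subgroup.nontrivial_iff_ne_bot]
    intro h
    have h2 : Nat.card ((P.mapSurjective (QuotientGroup.mk'_surjective Z) : Sylow p (G ⧸ Z)) :
        Subgroup (G ⧸ Z)) = 1 := by
      rw [Sylow.coe_mapSurjective, show (P : Subgroup G).map (QuotientGroup.mk' Z) = ⊥ from h,
        Subgroup.card_bot]
    exact hp.out.ne_one (Nat.dvd_one.mp (h2 ▸
      (P.mapSurjective (QuotientGroup.mk'_surjective Z)).dvd_card_of_dvd_card hpG))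
  obtain ⟨zb, hzb⟩ := exists_prime_orderOf_dvd_card' (G := Subgroup.center Pb) p (by
    obtain ⟨k, hk⟩ := (hPb.to_subgroup (Subgroup.center Pb)).exists_card_eq
    rw [hk]
    refine dvd_pow_self p fun h0 => ?_
    rw [h0, pow_zero, Subgroup.card_eq_one] at hk
    exact hPb.bot_lt_center.ne' hk)
  obtain ⟨⟨q, z, hz, rfl⟩, hzc⟩ := zb
  have hord : orderOf (QuotientGroup.mk' Z z) = p := by
    rw [← hzb, ← Subgroup.orderOf_coe, ← Subgroup.orderOf_coe]
  have hzZ : z ∉ Z := fun h => by
    rw [show QuotientGroup.mk' Z z = 1 from (QuotientGroup.eq_one_iff _).mpr h, orderOf_one] at hord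
    exact hp.out.ne_one hord.symm
  have hzp : z ^ p ∈ Z := by
    rw [← QuotientGroup.eq_one_iff, QuotientGroup.mk_pow, ← hord]
    exact pow_orderOf_eq_one _
  have hcomm : ∀ g ∈ (P : Subgroup G), ∃ c ∈ Z, g * z * g⁻¹ = z * c := by
    intro g hg
    refine ⟨z⁻¹ * (g * z * g⁻¹), ?_, by group⟩
    have h1 := congrArg Subtype.val
      (Subgroup.mem_center_iff.mp hzc ⟨QuotientGroup.mk' Z g, g, hg, rfl⟩)
    simp only [Subgroup.coe_mul] at h1
    rw [← QuotientGroup.eq_one_iff, QuotientGroup.mk_mul, QuotientGroup.mk_mul,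
      QuotientGroup.mk_mul, QuotientGroup.mk_inv, QuotientGroup.mk_inv]
    simp only [QuotientGroup.mk'_apply] at h1
    rw [h1]; group
  refine ⟨z, hz, hzZ, fun g hg w hw => ?_, fun g hg => ?_, fun g hg h hh => ?_⟩
  · obtain ⟨c, hc, he⟩ := hcomm g hg
    rw [← cent_mul_central hc, ← he, mem_cent_iff]
    exact (mem_cent_iff.mp hw).map (MulAut.conj g).toMonoidHom
  · obtain ⟨c, hc, he⟩ := hcomm g hg
    have hgc : Commute g c := Subgroup.mem_center_iff.mp hc g
    have hzc' : Commute z c := Subgroup.mem_center_iff.mp hc z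
    have hk : ∀ k : ℕ, g ^ k * z * (g ^ k)⁻¹ = z * c ^ k := by
      intro k
      induction k with
      | zero => simp
      | succ k ih =>
        calc g ^ (k + 1) * z * (g ^ (k + 1))⁻¹ = g * (g ^ k * z * (g ^ k)⁻¹) * g⁻¹ := by
              rw [pow_succ']; group
          _ = (g * z * g⁻¹) * (g * c ^ k * g⁻¹) := by rw [ih]; group
          _ = z * c * c ^ k := by rw [he, (hgc.pow_right k).eq, mul_inv_cancel_right]
          _ = z * c ^ (k + 1) := by rw [pow_succ', mul_assoc]
    have hcp : c ^ p = 1 := by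
      have h1 : (g * z * g⁻¹) ^ p = z ^ p := by
        rw [conj_pow, (Subgroup.mem_center_iff.mp hzp g), mul_inv_cancel_right]
      rw [he, hzc'.mul_pow, mul_eq_left] at h1
      exact h1
    rw [mem_cent_iff]
    have h2 := hk p
    rw [hcp, mul_one, mul_inv_eq_iff_eq_mul] at h2
    exact h2
  · obtain ⟨c, hc, he⟩ := hcomm g hg
    obtain ⟨d, hd, he'⟩ := hcomm h hh
    have push : ∀ (x y a : G), a ∈ Z → x * (y * a) * x⁻¹ = x * y * x⁻¹ * a := fun x y a ha => by
      calc x * (y * a) * x⁻¹ = x * y * (a * x⁻¹) := by group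
        _ = x * y * (x⁻¹ * a) := by rw [(Subgroup.mem_center_iff.mp ha x⁻¹).symm]
        _ = x * y * x⁻¹ * a := by group
    have back : ∀ (x a : G), a ∈ Z → x * z * x⁻¹ = z * a → x⁻¹ * z * x = z * a⁻¹ := by
      intro x a ha e
      have h2 := push x⁻¹ (z * a) a⁻¹ (inv_mem ha)
      rw [mul_inv_cancel_right, inv_inv] at h2
      rw [h2, ← e]
      group
    rw [mem_cent_iff, Commute, SemiconjBy, ← mul_inv_eq_iff_eq_mul]
    calc g * h * g⁻¹ * h⁻¹ * z * (g * h * g⁻¹ * h⁻¹)⁻¹
        = g * (h * (g⁻¹ * (h⁻¹ * z * h) * g⁻¹⁻¹) * h⁻¹) * g⁻¹ := by group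
      _ = g * (h * (z * (c⁻¹ * d⁻¹)) * h⁻¹) * g⁻¹ := by
        rw [back h d hd he', push g⁻¹ z _ (inv_mem hd), inv_inv, back g c hc he, mul_assoc z]
      _ = g * (z * (d * (c⁻¹ * d⁻¹))) * g⁻¹ := by
        rw [push h z _ (mul_mem (inv_mem hc) (inv_mem hd)), he', mul_assoc z]
      _ = z * (c * (d * (c⁻¹ * d⁻¹))) := by
        rw [push g z _ (mul_mem hd (mul_mem (inv_mem hc) (inv_mem hd))), he, mul_assoc z]
      _ = z := by
        rw [mul_eq_left, ← mul_assoc, Subgroup.mem_center_iff.mp hd c]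
        group

/-- The index of the special centralizer in its Sylow subgroup is `p`, and `p` divides `|V| - 1`
for the `q`-torsion `V` of the centralizer modulo the centre. -/
theorem special_index {p q : ℕ} [hp : Fact p.Prime] [hq : Fact q.Prime] (hpq : p ≠ q)
    (hqG : q ∣ Nat.card (G ⧸ Z)) (hpn : p ∣ n) (P : Sylow p G) {z : G} (hz : z ∉ Z)
    (h1 : ∀ g ∈ (P : Subgroup G), ∀ w ∈ Subgroup.centralizer ({z} : Set G),
      g * w * g⁻¹ ∈ Subgroup.centralizer ({z} : Set G))
    (h2 : ∀ g ∈ (P : Subgroup G), g ^ p ∈ Subgroup.centralizer ({z} : Set G))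
    (h3 : ∀ g ∈ (P : Subgroup G), ∀ h ∈ (P : Subgroup G),
      g * h * g⁻¹ * h⁻¹ ∈ Subgroup.centralizer ({z} : Set G)) :
    ((Subgroup.centralizer ({z} : Set G)).subgroupOf (P : Subgroup G)).index = p ∧
      ∃ j : ℕ, 0 < j ∧ q ^ j ∣ Nat.card ((Subgroup.centralizer ({z} : Set G)).map (QuotientGroup.mk' Z)) ∧
        p ∣ q ^ j - 1 := by
  classical
  set C := Subgroup.centralizer ({z} : Set G) with hCdef
  set Cb := C.map (QuotientGroup.mk' Z) with hCb
  have hab : ∀ a ∈ Cb, ∀ b ∈ Cb, Commute a b := by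
    rintro _ ⟨a, ha, rfl⟩ _ ⟨b, hb, rfl⟩
    exact (commute_of_mem hT hmix hz a ha b hb).map _
  let V : Subgroup (G ⧸ Z) :=
    { carrier := {v | v ∈ Cb ∧ v ^ q = 1}
      one_mem' := ⟨one_mem _, one_pow _⟩
      mul_mem' := fun {a b} ha hb => ⟨mul_mem ha.1 hb.1, by
        rw [(hab a ha.1 b hb.1).mul_pow, ha.2, hb.2, one_mul]⟩
      inv_mem' := fun {a} ha => ⟨inv_mem ha.1, by rw [inv_pow, ha.2, inv_one]⟩ }
  have hnorm : (P : Subgroup G).map (QuotientGroup.mk' Z) ≤
      Subgroup.normalizer (V : Set (G ⧸ Z)) := by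
    have aux : ∀ g ∈ (P : Subgroup G), ∀ v ∈ V,
        QuotientGroup.mk' Z g * v * (QuotientGroup.mk' Z g)⁻¹ ∈ V := by
      rintro g hg v ⟨⟨w, hw, rfl⟩, hv⟩
      refine ⟨⟨g * w * g⁻¹, h1 g hg w hw, by rw [map_mul, map_mul, map_inv]⟩, ?_⟩
      rw [conj_pow, hv, mul_one, mul_inv_cancel]
    rintro _ ⟨g, hg, rfl⟩
    rw [Subgroup.mem_normalizer_iff]
    refine fun v => ⟨aux g hg v, fun hv => ?_⟩
    have := aux g⁻¹ ((P : Subgroup G).inv_mem hg) _ hv
    simpa [mul_assoc] using this
  let φ : (P : Subgroup G) →* MulAut V := (V.normalizerMonoidHom.comp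
    (Subgroup.inclusion hnorm)).comp ((QuotientGroup.mk' Z).subgroupMap (P : Subgroup G))
  have happ : ∀ (g : (P : Subgroup G)) (v : V), ((φ g v : V) : G ⧸ Z) =
      QuotientGroup.mk' Z g * v * (QuotientGroup.mk' Z g)⁻¹ := fun _ _ => rfl
  have hin : ∀ g : (P : Subgroup G), (g : G) ∈ C → φ g = 1 := by
    intro g hg
    refine MulEquiv.ext fun v => Subtype.ext ?_
    rw [happ, MulAut.one_apply]
    obtain ⟨w, hw, hwv⟩ := v.2.1
    rw [← hwv, ← map_mul, ← map_inv, ← map_mul, (commute_of_mem hT hmix hz _ hg w hw).eq,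
      mul_inv_cancel_right]
  have hfix : ∀ g : (P : Subgroup G), (g : G) ∉ C → ∀ v : V, φ g v = v → v = 1 := by
    intro g hg v hv
    obtain ⟨w0, hw0, hwv⟩ := v.2.1
    by_contra hv1
    set w := piPart {q} w0 with hw
    have hwv' : QuotientGroup.mk' Z w = (v : G ⧸ Z) := by
      rw [← hwv]
      conv_rhs => rw [← piPart_mul_piPart' {q} w0, map_mul]
      rw [map_piPart'_eq_one (π := {q}) (g := w0) (QuotientGroup.mk' Z) ?_, mul_one]
      rw [hwv]
      exact isPiElem_singleton_of_pow (k := 1) hq.out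
        (by rw [pow_one]; exact orderOf_eq_prime v.2.2 fun e => hv1 (Subtype.ext e))
    have hwC : w ∈ C := piPart_mem {q} w0 hw0
    have hwZ : w ∉ Z := fun h => hv1 (Subtype.ext (by
      rw [← hwv']; exact (QuotientGroup.eq_one_iff _).mpr h))
    set c := w⁻¹ * ((g : G) * w * (g : G)⁻¹) with hc
    have hcZ : c ∈ Z := by
      have := congrArg Subtype.val hv
      rw [happ, ← hwv', ← map_mul, ← map_inv, ← map_mul] at this
      exact (QuotientGroup.eq (s := Z)).mp this.symm
    have hk : ∀ k : ℕ, (g : G) ^ k * w * ((g : G) ^ k)⁻¹ = w * c ^ k := by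
      intro k
      induction k with
      | zero => simp
      | succ k ih =>
        have hgc : Commute (g : G) (c ^ k) := Subgroup.mem_center_iff.mp (pow_mem hcZ k) _
        calc (g : G) ^ (k + 1) * w * ((g : G) ^ (k + 1))⁻¹
            = (g : G) * ((g : G) ^ k * w * ((g : G) ^ k)⁻¹) * (g : G)⁻¹ := by rw [pow_succ']; group
          _ = ((g : G) * w * (g : G)⁻¹) * ((g : G) * c ^ k * (g : G)⁻¹) := by rw [ih]; group
          _ = w * c * c ^ k := by rw [hgc.eq, mul_inv_cancel_right, hc]; group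
          _ = w * c ^ (k + 1) := by rw [pow_succ', mul_assoc]
    have hcp : c ^ orderOf (g : G) = 1 := by
      have := hk (orderOf (g : G))
      rw [pow_orderOf_eq_one, one_mul, inv_one, mul_one, eq_comm, mul_eq_left] at this
      exact this
    obtain ⟨a, ha⟩ := IsPGroup.iff_orderOf.mp P.2 g
    rw [← Subgroup.orderOf_coe g] at ha
    have hcp' : IsPiElem {p} c := (isPiElem_singleton_of_pow hp.out ha).of_dvd
      (orderOf_dvd_of_pow_eq_one hcp)
    have hwq : IsPiElem {q} w := isPiElem_piPart {q} w0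
    have hcq : IsPiElem {q} c := hwq.inv.mul ((isPiElem_conj_iff _ _).mpr hwq)
      (commute_of_mem hT hmix hz _ (inv_mem hwC) _ (h1 _ g.2 _ hwC))
    have hc1 : c = 1 := hcp'.eq_one
      (hcq.mono (Set.singleton_subset_iff.mpr (fun e => hpq (Set.mem_singleton_iff.mp e).symm)))
    refine hg ?_
    rw [hCdef, ← cent_eq_of_mem hT hmix hwZ hz hwC, mem_cent_iff]
    rw [hc, inv_mul_eq_one, eq_mul_inv_iff_mul_eq] at hc1
    exact hc1.symm
  have hVne : Nontrivial V := by
    rw [Subgroup.nontrivial_iff_ne_bot]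
    obtain ⟨v, hv⟩ := exists_prime_orderOf_dvd_card' (G := Cb) q (dvd_card_map hT hmix hq.out hqG hz)
    intro h
    have hmem : (v : G ⧸ Z) ∈ V :=
      ⟨v.2, by rw [← SubgroupClass.coe_pow, ← hv, pow_orderOf_eq_one]; rfl⟩
    rw [h, Subgroup.mem_bot, OneMemClass.coe_eq_one] at hmem
    rw [hmem, orderOf_one] at hv
    exact hq.out.ne_one hv.symm
  have hker : φ.ker = C.subgroupOf (P : Subgroup G) := by
    ext g
    rw [MonoidHom.mem_ker, Subgroup.mem_subgroupOf]
    refine ⟨fun h => by_contra fun hg => ?_, hin g⟩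
    obtain ⟨v, hv⟩ := exists_ne (1 : V)
    exact hv (hfix g hg v (by rw [h]; rfl))
  -- the image acts without fixed points
  let X := SemidirectProduct V φ.range φ.range.subtype
  haveI : Finite X := Finite.of_equiv _ SemidirectProduct.equivProd.symm
  let AX : Subgroup X := (SemidirectProduct.inr : φ.range →* X).range
  let VX : Subgroup X := (SemidirectProduct.inl : V →* X).range
  haveI : VX.Normal := by
    show (SemidirectProduct.inl : V →* X).range.Normal
    rw [SemidirectProduct.range_inl_eq_ker_rightHom]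
    exact MonoidHom.normal_ker _
  have hfpf : Cfsg.Agent.Frobenius.IsFPF AX VX := by
    refine Cfsg.Agent.Frobenius.isFPF_of_normal ?_
    rintro _ ⟨⟨_, t, rfl⟩, rfl⟩ hne
    have ht : (t : G) ∉ C := fun h => hne (by
      rw [show (⟨φ t, t, rfl⟩ : φ.range) = 1 from Subtype.ext (hin t h), map_one])
    rw [Subgroup.eq_bot_iff_forall]
    rintro _ ⟨⟨l, rfl⟩, hc⟩
    have hc' := congrArg SemidirectProduct.left (Subgroup.mem_centralizer_singleton_iff.mp hc)
    simp only [SemidirectProduct.mul_left, SemidirectProduct.left_inl, SemidirectProduct.left_inr,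
      SemidirectProduct.right_inl, SemidirectProduct.right_inr, map_one, one_mul, mul_one] at hc'
    rw [hfix t ht l hc'.symm, map_one]
  have hVX : VX ≠ ⊥ := by
    obtain ⟨v, hv⟩ := exists_ne (1 : V)
    exact fun h => hv (SemidirectProduct.inl_injective
      ((Subgroup.eq_bot_iff_forall _).mp h _ ⟨v, rfl⟩ |>.trans (map_one _).symm))
  have hcardA : Nat.card φ.range = p := by
    have hne : φ.range ≠ ⊥ := by
      intro h
      have htop : φ.ker = ⊤ := MonoidHom.ker_eq_top_iff.mpr (MonoidHom.range_eq_bot_iff.mp h)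
      rw [hker, Subgroup.subgroupOf_eq_top] at htop
      refine P.not_dvd_index (hpn.trans ?_)
      rw [← hT.2 z hz]
      exact Subgroup.index_dvd_of_le htop
    obtain ⟨a, ha, ha1⟩ := (Subgroup.bot_or_exists_ne_one _).resolve_left hne
    have hexp : ∀ b ∈ φ.range, b ^ p = 1 := by
      rintro _ ⟨g, rfl⟩
      rw [← map_pow]
      exact hin _ (by rw [SubmonoidClass.coe_pow]; exact h2 g g.2)
    have hcom : ∀ u v : φ.range, Commute u v := by
      rintro ⟨_, g, rfl⟩ ⟨_, h, rfl⟩
      refine Subtype.ext ?_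
      show φ g * φ h = φ h * φ g
      rw [← map_mul, ← map_mul, ← mul_inv_eq_one, ← map_inv, ← map_mul]
      refine hin _ ?_
      have := h3 g g.2 h h.2
      simp only [Subgroup.coe_mul, Subgroup.coe_inv, mul_inv_rev, ← mul_assoc] at this ⊢
      exact this
    have hao : orderOf (⟨a, ha⟩ : φ.range) = p := by
      rw [Subgroup.orderOf_mk]; exact orderOf_eq_prime (hexp a ha) ha1
    have hall : ∀ b : φ.range, b ∈ Subgroup.zpowers (⟨a, ha⟩ : φ.range) := by
      intro b
      obtain ⟨i, hi⟩ := Subgroup.mem_zpowers_iff.mp (hfpf.mem_zpowers_of_commute hVX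
        (a := SemidirectProduct.inr ⟨a, ha⟩) (b := SemidirectProduct.inr b) ⟨_, rfl⟩ ⟨_, rfl⟩
        ((orderOf_injective _ SemidirectProduct.inr_injective _).trans hao)
        (by rw [← map_pow, show b ^ p = 1 from Subtype.ext (hexp b b.2), map_one])
        ((hcom _ b).map _))
      rw [← map_zpow] at hi
      exact ⟨i, SemidirectProduct.inr_injective hi⟩
    have htop : Subgroup.zpowers (⟨a, ha⟩ : φ.range) = ⊤ := eq_top_iff.mpr fun b _ => hall b
    rw [← Subgroup.card_top, ← htop, Nat.card_zpowers, hao]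
  refine ⟨by rw [← hker, Subgroup.index_ker, hcardA], ?_⟩
  obtain ⟨j, hj⟩ := (show IsPGroup q V from fun v => ⟨1, Subtype.ext (by rw [pow_one]; exact v.2.2)⟩).exists_card_eq
  refine ⟨j, Nat.pos_of_ne_zero fun h0 => ?_, ?_, ?_⟩
  · rw [h0, pow_zero] at hj
    exact not_nontrivial_iff_subsingleton.mpr (Nat.card_eq_one_iff_unique.mp hj).1 hVne
  · exact hj ▸ Subgroup.card_dvd_of_le (fun v hv => hv.1)
  · have := hfpf.card_dvd_card_sub_one
    rwa [Nat.card_congr (MonoidHom.ofInjective SemidirectProduct.inr_injective).toEquiv.symm,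
      Nat.card_congr (MonoidHom.ofInjective SemidirectProduct.inl_injective).toEquiv.symm,
      hcardA, hj] at this

/-- Every prime divisor of `|G/Z(G)|` divides `n`. -/
theorem dvd_n {p : ℕ} [hp : Fact p.Prime] (hpG : p ∣ Nat.card (G ⧸ Z)) : p ∣ n := by
  classical
  by_contra hpn
  obtain ⟨q, hq⟩ := exists_prime_orderOf_dvd_card' p hpG
  obtain ⟨g0, rfl⟩ := QuotientGroup.mk_surjective q
  have hu : piPart {p} g0 ∉ Z := piPart_not_central (hq ▸ dvd_refl _)
  set u := piPart {p} g0
  obtain ⟨k, hk⟩ := exists_pow_of_isPiElem_singleton (isPiElem_piPart {p} g0)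
  obtain ⟨Pu, hPu⟩ := (IsPGroup.of_card (G := Subgroup.zpowers u) (p := p) (n := k)
    (by rw [Nat.card_zpowers, hk])).exists_le_sylow
  refine hu (Subgroup.mem_center_iff.mpr fun g => ?_)
  have htop := eq_top_of_conjugates_cover (Subgroup.centralizer ({u} : Set G)) fun g => ?_
  · exact (mem_cent_iff.mp (htop.symm ▸ Subgroup.mem_top g)).eq
  by_cases hg : g ∈ Z
  · exact ⟨1, by rw [one_mul, inv_one, mul_one]; exact Subgroup.center_le_centralizer _ hg⟩
  set C := Subgroup.centralizer ({g} : Set G)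
  obtain ⟨S⟩ := (inferInstance : Nonempty (Sylow p C))
  obtain ⟨P', hP'⟩ := (S.2.map C.subtype).exists_le_sylow
  have hPC : (P' : Subgroup G) ≤ C := by
    have h1 : Nat.card ((S : Subgroup C).map C.subtype) = Nat.card P' := by
      rw [Subgroup.card_map_of_injective C.subtype_injective, Sylow.card_eq_multiplicity,
        Sylow.card_eq_multiplicity]
      congr 1
      have h := Subgroup.card_mul_index C
      rw [hT.2 g hg] at h
      rw [← h, Nat.factorization_mul Nat.card_pos.ne' (by have := hT.1; omega), Finsupp.add_apply,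
        Nat.factorization_eq_zero_of_not_dvd hpn, add_zero]
    rw [← Subgroup.eq_of_le_of_card_ge hP' h1.ge]
    exact Subgroup.map_subtype_le _
  obtain ⟨c, hc⟩ := MulAction.exists_smul_eq G Pu P'
  have hmem : c * u * c⁻¹ ∈ C := hPC (by
    rw [← hc, Sylow.coe_subgroup_smul]
    exact Subgroup.smul_mem_pointwise_smul _ (MulAut.conj c) _ (hPu (Subgroup.mem_zpowers u)))
  refine ⟨c⁻¹, mem_cent_iff.mpr ?_⟩
  have h1 := (mem_cent_iff.mp hmem).symm.map (MulAut.conj c⁻¹).toMonoidHom
  simpa [mul_assoc] using h1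

/-- `|C(x)/Z|` has no square prime factors. -/
theorem not_sq_dvd {p : ℕ} [hp : Fact p.Prime] (hpG : p ∣ Nat.card (G ⧸ Z)) {x : G} (hx : x ∉ Z) :
    ¬ p ^ 2 ∣ Nat.card ((Subgroup.centralizer ({x} : Set G)).map (QuotientGroup.mk' Z)) := by
  classical
  intro hsq
  obtain ⟨q, hq, hqG, hqp⟩ : ∃ q : ℕ, q.Prime ∧ q ∣ Nat.card (G ⧸ Z) ∧ q ≠ p := by
    by_contra hne
    exact hmix p hp.out (IsPGroup.of_card (Nat.eq_prime_pow_of_unique_prime_dvd Nat.card_pos.ne'
      fun {r} hr hrd => by_contra fun h => hne ⟨r, hr, hrd, h⟩))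
  haveI := Fact.mk hq
  obtain ⟨P⟩ := (inferInstance : Nonempty (Sylow p G))
  obtain ⟨z, hzP, hzZ, h1, h2, h3⟩ := exists_special hT hmix hpG P
  have hidx := (special_index hT hmix hqp.symm hqG (dvd_n hT hmix hpG) P hzZ h1 h2 h3).1
  refine hzZ (Subgroup.mem_center_iff.mpr fun g => ?_)
  have htop := eq_top_of_conjugates_cover (Subgroup.centralizer ({z} : Set G)) fun g => ?_
  · exact (mem_cent_iff.mp (htop.symm ▸ Subgroup.mem_top g)).eq
  by_cases hg : g ∈ Z
  · exact ⟨1, by rw [one_mul, inv_one, mul_one]; exact Subgroup.center_le_centralizer _ hg⟩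
  set C := Subgroup.centralizer ({g} : Set G)
  obtain ⟨S⟩ := (inferInstance : Nonempty (Sylow p C))
  obtain ⟨P', hP'⟩ := (S.2.map C.subtype).exists_le_sylow
  obtain ⟨c, hc⟩ := MulAction.exists_smul_eq G P' P
  -- the part of `S` conjugated into the special centralizer
  let f : S →* (P : Subgroup G) :=
    { toFun := fun s => ⟨c * ((s : C) : G) * c⁻¹, by
        rw [← hc, Sylow.coe_subgroup_smul]
        exact Subgroup.smul_mem_pointwise_smul _ (MulAut.conj c) _ (hP' ⟨(s : C), s.2, rfl⟩)⟩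
      map_one' := Subtype.ext (by simp)
      map_mul' := fun s t => Subtype.ext (by simp [mul_assoc]) }
  have hfinj : Function.Injective f := fun s t h => Subtype.ext (Subtype.ext
    (mul_left_cancel (mul_right_cancel (congrArg Subtype.val h))))
  set K := ((Subgroup.centralizer ({z} : Set G)).subgroupOf (P : Subgroup G)).comap f with hK
  have hKi : K.index ≤ p := by
    rw [hK, Subgroup.index_comap]
    refine le_trans (Nat.le_of_dvd (Nat.pos_of_ne_zero Subgroup.index_ne_zero_of_finite) ?_) hidx.le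
    haveI : ((Subgroup.centralizer ({z} : Set G)).subgroupOf (P : Subgroup G)).Normal := by
      refine ⟨fun a ha b => ?_⟩
      rw [Subgroup.mem_subgroupOf] at ha ⊢
      simpa using h1 b b.2 _ ha
    exact Subgroup.relIndex_dvd_index_of_normal _ _
  have hex : ∃ s : S, s ∈ K ∧ ((s : C) : G) ∉ Z := by
    by_contra hne
    push Not at hne
    let m : S →* G ⧸ Z := ((QuotientGroup.mk' Z).comp C.subtype).comp (S : Subgroup C).subtype
    have hle : K ≤ m.ker := fun s hs => (QuotientGroup.eq_one_iff _).mpr (hne s hs)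
    have h4 : m.ker.index ≤ p :=
      (Nat.le_of_dvd (Nat.pos_of_ne_zero Subgroup.index_ne_zero_of_finite)
        (Subgroup.index_dvd_of_le hle)).trans hKi
    rw [Subgroup.index_ker] at h4
    set Cm := C.map (QuotientGroup.mk' Z)
    have h5 : Nat.card m.range = p ^ (Nat.card Cm).factorization p := by
      have hsur : Function.Surjective ((QuotientGroup.mk' Z).subgroupMap C) :=
        MonoidHom.subgroupMap_surjective _ _
      rw [← Sylow.card_eq_multiplicity (S.mapSurjective hsur), Sylow.coe_mapSurjective,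
        ← Subgroup.card_map_of_injective Cm.subtype_injective, Subgroup.map_map,
        MonoidHom.range_comp, Subgroup.range_subtype]
      rfl
    have h6 : Nat.card Cm = Nat.card ((Subgroup.centralizer ({x} : Set G)).map (QuotientGroup.mk' Z)) := by
      refine Nat.eq_of_mul_eq_mul_right (show 0 < n by have := hT.1; omega) ?_
      rw [card_map_cent_eq hT hg, card_map_cent_eq hT hx]
    rw [h5, h6] at h4
    have h7 := (hp.out.pow_dvd_iff_le_factorization Nat.card_pos.ne').mp hsq
    have h8 := (Nat.pow_le_pow_iff_right hp.out.one_lt).mp (h4.trans_eq (pow_one p).symm)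
    omega
  obtain ⟨s, hsK, hsZ⟩ := hex
  refine ⟨c, ?_⟩
  set t := c * ((s : C) : G) * c⁻¹
  have htC : t ∈ Subgroup.centralizer ({z} : Set G) := hsK
  have htZ : t ∉ Z := fun h => hsZ (by
    have := (inferInstance : (Z).Normal).conj_mem' _ h c
    simpa [t, mul_assoc] using this)
  rw [← cent_eq_of_mem hT hmix htZ hzZ htC, mem_cent_iff]
  exact ((mem_cent_iff.mp (s : C).2).symm).map (MulAut.conj c).toMonoidHom

/-- The mixed case does not occur. -/
theorem absurd_mixed : False := by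
  classical
  have hne : ∃ x : G, x ∉ Z := by
    by_contra h
    push Not at h
    refine hmix 2 Nat.prime_two fun q => ⟨0, ?_⟩
    obtain ⟨g, rfl⟩ := QuotientGroup.mk_surjective q
    rw [(QuotientGroup.eq_one_iff _).mpr (h g), one_pow]
  obtain ⟨x, hx⟩ := hne
  obtain ⟨p, hp, hpG⟩ := Nat.exists_prime_and_dvd (show Nat.card (G ⧸ Z) ≠ 1 by
    intro h
    refine hmix 2 Nat.prime_two (IsPGroup.of_card (n := 0) (by rw [h, pow_zero])))
  obtain ⟨q, hq, hqG, hqp⟩ : ∃ q : ℕ, q.Prime ∧ q ∣ Nat.card (G ⧸ Z) ∧ q ≠ p := by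
    by_contra hne
    exact hmix p hp (IsPGroup.of_card (Nat.eq_prime_pow_of_unique_prime_dvd Nat.card_pos.ne'
      fun {r} hr hrd => by_contra fun h => hne ⟨r, hr, hrd, h⟩))
  have key : ∀ p q : ℕ, p.Prime → q.Prime → p ∣ Nat.card (G ⧸ Z) → q ∣ Nat.card (G ⧸ Z) → p ≠ q →
      p ∣ q - 1 := by
    intro p q hp hq hpG hqG hne
    haveI := Fact.mk hp
    haveI := Fact.mk hq
    obtain ⟨P⟩ := (inferInstance : Nonempty (Sylow p G))
    obtain ⟨z, -, hzZ, h1, h2, h3⟩ := exists_special hT hmix hpG P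
    obtain ⟨j, hj, hjd, hjp⟩ := (special_index hT hmix hne hqG (dvd_n hT hmix hpG) P hzZ h1 h2 h3).2
    have : j = 1 := by
      by_contra h
      exact not_sq_dvd hT hmix hqG hzZ ((pow_dvd_pow q (by omega)).trans hjd)
    rwa [this, pow_one] at hjp
  have := Nat.le_of_dvd (by have := hq.two_le; omega) (key p q hp hq hpG hqG hqp.symm)
  have := Nat.le_of_dvd (by have := hp.two_le; omega) (key q p hq hp hqG hpG hqp)
  have := hp.two_le
  have := hq.two_le
  omega

end Mixed

/-- Itô's theorem on two class sizes. -/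
theorem ito_two_sizes (hT : Two G n) (hex : ∃ x : G, x ∉ Z) :
    ∃ (p : ℕ) (_ : Fact p.Prime) (a : ℕ), n = p ^ a ∧ ∀ P : Sylow p G, (P : Subgroup G).Normal ∧
      (∃ N : Subgroup G, N.Normal ∧ N.IsComplement' (P : Subgroup G) ∧ IsMulCommutative N ∧
        ∀ x ∈ N, ∀ y ∈ (P : Subgroup G), x * y = y * x) ∧
      ∃ A : Subgroup (P : Subgroup G), A.Normal ∧ IsMulCommutative A ∧
        ∀ y : (P : Subgroup G), y ^ p ∈ A := by
  classical
  obtain ⟨p, hp, hpg⟩ : ∃ p : ℕ, p.Prime ∧ IsPGroup p (G ⧸ Z) := by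
    by_contra h
    push Not at h
    exact absurd_mixed hT h
  haveI := Fact.mk hp
  obtain ⟨m, hm⟩ := hpg.exists_card_eq
  obtain ⟨x₀, hx₀⟩ := hex
  obtain ⟨a, -, ha⟩ := (Nat.dvd_prime_pow hp).mp
    (show n ∣ p ^ m from hm ▸ ⟨_, (card_map_cent_eq hT hx₀).symm.trans (mul_comm _ _)⟩)
  refine ⟨p, ⟨hp⟩, a, ha, fun P => ?_⟩
  haveI : Group.IsNilpotent G :=
    Group.of_quotient_center_nilpotent hpg.isNilpotent
  have hPn : (P : Subgroup G).Normal :=
    Sylow.normal_of_normalizerCondition (fun H => Group.normalizerCondition_of_isNilpotent H) P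
  have hpart : ∀ g : G, piPart' {p} g ∈ Z := by
    intro g
    rw [← QuotientGroup.eq_one_iff, ← QuotientGroup.mk'_apply Z]
    refine map_piPart'_eq_one (π := {p}) (g := g) (QuotientGroup.mk' Z) ?_
    obtain ⟨k, hk⟩ := IsPGroup.iff_orderOf.mp hpg (QuotientGroup.mk' Z g)
    exact isPiElem_singleton_of_pow hp hk
  have hmemP : ∀ g : G, IsPiElem {p} g → g ∈ (P : Subgroup G) := by
    intro g hg
    obtain ⟨k, hk⟩ := exists_pow_of_isPiElem_singleton hg
    obtain ⟨Q, hQ⟩ := (IsPGroup.of_card (G := Subgroup.zpowers g) (p := p) (n := k)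
      (by rw [Nat.card_zpowers, hk])).exists_le_sylow
    haveI : Unique (Sylow p G) := Sylow.unique_of_normal P hPn
    rw [Subsingleton.elim P Q]
    exact hQ (Subgroup.mem_zpowers g)
  refine ⟨hPn, ?_, ?_⟩
  · let N : Subgroup G :=
      { carrier := {g | g ∈ Z ∧ IsPiElem ({p}ᶜ : Set ℕ) g}
        one_mem' := ⟨one_mem _, IsPiElem.one _⟩
        mul_mem' := fun {a b} ha hb => ⟨mul_mem ha.1 hb.1,
          ha.2.mul hb.2 (Subgroup.mem_center_iff.mp hb.1 a)⟩
        inv_mem' := fun {a} ha => ⟨inv_mem ha.1, ha.2.inv⟩ }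
    refine ⟨N, ⟨fun n hn g => ?_⟩, Subgroup.isComplement'_of_disjoint_and_mul_eq_univ ?_ ?_,
      ⟨⟨fun a b => Subtype.ext (Subgroup.mem_center_iff.mp b.2.1 a)⟩⟩,
      fun x hx y _ => (Subgroup.mem_center_iff.mp hx.1 y).symm⟩
    · rw [Subgroup.mem_center_iff.mp hn.1 g, mul_inv_cancel_right]; exact hn
    · rw [Subgroup.disjoint_def]
      intro g hgN hgP
      obtain ⟨k, hk⟩ := IsPGroup.iff_orderOf.mp P.2 ⟨g, hgP⟩
      rw [Subgroup.orderOf_mk] at hk
      exact (isPiElem_singleton_of_pow hp hk).eq_one hgN.2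
    · refine Set.eq_univ_of_forall fun g => ⟨piPart' {p} g, ⟨hpart g, isPiElem_piPart' {p} g⟩,
        piPart {p} g, hmemP _ (isPiElem_piPart {p} g), ?_⟩
      show piPart' {p} g * piPart {p} g = g
      rw [(commute_piPart_piPart' {p} g).eq.symm, piPart_mul_piPart']
  · -- an element whose centralizer absorbs all large elements
    haveI : Nontrivial (G ⧸ Z) := ⟨⟨QuotientGroup.mk x₀, 1, fun h => hx₀ ((QuotientGroup.eq_one_iff _).mp h)⟩⟩
    obtain ⟨zb, hzb⟩ := exists_prime_orderOf_dvd_card' (G := Subgroup.center (G ⧸ Z)) p (by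
      obtain ⟨k, hk⟩ := (hpg.to_subgroup (Subgroup.center (G ⧸ Z))).exists_card_eq
      rw [hk]
      refine dvd_pow_self p fun h0 => ?_
      rw [h0, pow_zero, Subgroup.card_eq_one] at hk
      exact hpg.bot_lt_center.ne' hk)
    obtain ⟨q, hqc⟩ := zb
    obtain ⟨z, rfl⟩ := QuotientGroup.mk_surjective q
    rw [← Subgroup.orderOf_coe] at hzb
    simp only at hzb
    have hzZ : z ∉ Z := fun h => by
      rw [(QuotientGroup.eq_one_iff _).mpr h, orderOf_one] at hzb
      exact hp.ne_one hzb.symm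
    set K := Subgroup.centralizer ({z} : Set G) with hK
    have hKn : ∀ g : G, ∀ w ∈ K, g * w * g⁻¹ ∈ K := by
      intro g w hw
      have hc : z⁻¹ * (g * z * g⁻¹) ∈ Z := by
        rw [← QuotientGroup.eq_one_iff, QuotientGroup.mk_mul, QuotientGroup.mk_mul,
          QuotientGroup.mk_mul, QuotientGroup.mk_inv, QuotientGroup.mk_inv,
          Subgroup.mem_center_iff.mp hqc (QuotientGroup.mk g)]
        group
      rw [hK, ← cent_mul_central (x := z) hc, mul_inv_cancel_left, mem_cent_iff]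
      exact (mem_cent_iff.mp hw).map (MulAut.conj g).toMonoidHom
    have hbig : ∀ x : G, x ^ p ∉ Z → Subgroup.centralizer ({x} : Set G) = K := by
      intro x hx
      have hxZ : x ∉ Z := fun h => hx (pow_mem h p)
      have hc : (x ^ p)⁻¹ * (x * z) ^ p ∈ Z := by
        rw [← QuotientGroup.eq_one_iff, QuotientGroup.mk_mul, QuotientGroup.mk_inv,
          QuotientGroup.mk_pow, QuotientGroup.mk_pow, QuotientGroup.mk_mul,
          (show Commute (QuotientGroup.mk x : G ⧸ Z) (QuotientGroup.mk z) from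
            Subgroup.mem_center_iff.mp hqc _).mul_pow]
        have hz1 : (QuotientGroup.mk z : G ⧸ Z) ^ p = 1 := by rw [← hzb]; exact pow_orderOf_eq_one _
        rw [hz1, mul_one, inv_mul_cancel]
      have he : (x * z) ^ p = x ^ p * ((x ^ p)⁻¹ * (x * z) ^ p) := by group
      have hxzp : (x * z) ^ p ∉ Z := fun h => hx (by
        rw [he] at h
        exact (Subgroup.mul_mem_cancel_right _ hc).mp h)
      have h1 : Subgroup.centralizer ({x * z} : Set G) = Subgroup.centralizer ({x} : Set G) := by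
        rw [cent_pow hT p hxzp, he, cent_mul_central hc, ← cent_pow hT p hx]
      refine cent_eq hT hxZ hzZ fun g hg => ?_
      have hg' := mem_cent_iff.mp (h1.symm ▸ hg : g ∈ Subgroup.centralizer ({x * z} : Set G))
      have h2 := (mem_cent_iff.mp hg).inv_right.mul_right hg'
      rw [inv_mul_cancel_left] at h2
      exact mem_cent_iff.mpr h2
    refine ⟨(K ⊓ Subgroup.centralizer (K : Set G)).subgroupOf P, ⟨fun w hw g => ?_⟩,
      ⟨⟨fun u v => Subtype.ext (Subtype.ext
        ((Subgroup.mem_centralizer_iff.mp u.2.2 _ v.2.1).symm))⟩⟩, fun y => ?_⟩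
    · rw [Subgroup.mem_subgroupOf] at hw ⊢
      simp only [Subgroup.coe_mul, Subgroup.coe_inv]
      refine ⟨hKn g w hw.1, Subgroup.mem_centralizer_iff.mpr fun k hk => ?_⟩
      have h1 := Subgroup.mem_centralizer_iff.mp hw.2 _ (hKn (g : G)⁻¹ k hk)
      rw [inv_inv] at h1
      calc k * ((g : G) * w * (g : G)⁻¹) = g * (((g : G)⁻¹ * k * g) * w) * (g : G)⁻¹ := by group
        _ = g * ((w : G) * ((g : G)⁻¹ * k * g)) * (g : G)⁻¹ := by rw [h1]
        _ = (g : G) * w * (g : G)⁻¹ * k := by group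
    · rw [Subgroup.mem_subgroupOf, SubmonoidClass.coe_pow]
      by_cases hy : (y : G) ^ p ∈ Z
      · exact ⟨Subgroup.center_le_centralizer _ hy, Subgroup.center_le_centralizer _ hy⟩
      · have hK' := hbig _ hy
        have h1 : (y : G) ∈ K := hK' ▸ mem_cent_iff.mpr (Commute.refl _)
        have h2 : (y : G) ∈ Subgroup.centralizer (K : Set G) :=
          Subgroup.mem_centralizer_iff.mpr fun k hk =>
            mem_cent_iff.mp (hK'.symm ▸ hk : k ∈ Subgroup.centralizer ({(y : G)} : Set G))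
        exact ⟨pow_mem h1 p, pow_mem h2 p⟩

end Cfsg.Agent.FG78.TwoSizes
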