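import Mathlib

/-! Arithmetic checker excluding simple groups whose order is a proper divisor of 175560
divisible by 19. -/

namespace Cfsg.Agent.FG78.A175560

def mulList (A B : List ℕ) : List ℕ := A.flatMap fun a => B.map fun b => a * b

def divs : List ℕ :=
  mulList (mulList (mulList (mulList (mulList [1, 2, 4, 8] [1, 3]) [1, 5]) [1, 7]) [1, 11]) [1, 19]

theorem mem_mulList {a b : ℕ} {A B : List ℕ} (hA : ∀ x, x ∣ a → x ∈ A) (hB : ∀ x, x ∣ b → x ∈ B) :
    ∀ x, x ∣ a * b → x ∈ mulList A B := by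
  intro x hx
  obtain ⟨y, z, hy, hz, rfl⟩ := Nat.dvd_mul.mp hx
  simp only [mulList, List.mem_flatMap, List.mem_map]
  exact ⟨y, hA y hy, z, hB z hz, rfl⟩

theorem mem_of_dvd_prime {p x : ℕ} (hp : p.Prime) (h : x ∣ p) : x ∈ [1, p] := by
  rcases (Nat.dvd_prime hp).mp h with rfl | rfl <;> simp

theorem mem_divs {x : ℕ} (h : x ∣ 175560) : x ∈ divs := by
  have h8 : ∀ x, x ∣ 8 → x ∈ [1, 2, 4, 8] := by
    intro x hx
    have := Nat.le_of_dvd (by norm_num) hx
    interval_cases x <;> simp_all
  exact mem_mulList (mem_mulList (mem_mulList (mem_mulList (mem_mulList h8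
    fun _ => mem_of_dvd_prime (by norm_num)) fun _ => mem_of_dvd_prime (by norm_num))
    fun _ => mem_of_dvd_prime (by norm_num)) fun _ => mem_of_dvd_prime (by norm_num))
    (fun _ => mem_of_dvd_prime (by norm_num)) x h

/-- possible (number of Sylows, centraliser cofactor) -/
def options (m r : ℕ) : List (ℕ × ℕ) :=
  (divs.filter fun n => decide (1 < n) && decide (n % r = 1) && decide ((m / r) % n = 0)).flatMap fun n =>
    if (r == 19 && n == 20 && (m / r / n) % 2 == 0) then [] else
    ((List.range r).filter fun e =>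
      decide (2 ≤ e) && decide ((r - 1) % e = 0) && decide ((m / r / n) % e = 0)).map fun e =>
        (n, m / r / n / e)

def subsL (c s r : ℕ) : List ℕ :=
  divs.filter fun d => decide ((r * (c / s)) % d = 0) && decide (d % s = 1)

def compat (p q : ℕ × ℕ × ℕ) : Bool :=
  (decide (p.2.2 % q.1 = 0) == decide (q.2.2 % p.1 = 0)) &&
  (!(decide (p.2.2 % q.1 = 0)) || (subsL p.2.2 q.1 p.1).any fun x =>
    (subsL q.2.2 p.1 q.1).any fun y => decide (p.2.1 * x = q.2.1 * y))

def eff (ch : List (ℕ × ℕ × ℕ)) (p : ℕ × ℕ × ℕ) : ℕ :=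
  if ch.any (fun q => decide (p.1 < q.1) && decide (p.2.2 % q.1 = 0)) then 1 else p.2.2

def total (ch : List (ℕ × ℕ × ℕ)) : ℕ :=
  1 + (ch.map fun p => (p.1 - 1) * p.2.1 * eff ch p).sum

def search (m : ℕ) : List ℕ → List (ℕ × ℕ × ℕ) → Bool
  | [], ch => decide (m < total ch)
  | r :: rs, ch => decide (m < total ch) || (options m r).all fun o =>
      !(ch.all fun q => compat (r, o) q) || search m rs ((r, o) :: ch)

def use (m : ℕ) : List ℕ := [19, 11, 7, 5, 3].filter fun r => decide (m % r = 0)

set_option maxRecDepth 100000 in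
theorem search_true : ∀ m ∈ divs, m % 19 = 0 → m % 4 ≠ 2 → m ≠ 175560 → m ≠ 19 →
    search m (use m) [] = true := by
  decide +kernel

theorem search_false {m : ℕ} (F : ℕ → ℕ × ℕ)
    (U : List ℕ)
    (hopt : ∀ r ∈ U, F r ∈ options m r)
    (hcompat : ∀ r ∈ U, ∀ s ∈ U, r ≠ s → compat (r, F r) (s, F s) = true)
    (htot : ∀ l : List ℕ, l.Nodup → (∀ r ∈ l, r ∈ U) → total (l.map fun r => (r, F r)) ≤ m) :
    ∀ (us l : List ℕ), (us ++ l).Nodup → (∀ r ∈ us ++ l, r ∈ U) →
      search m us (l.map fun r => (r, F r)) = false := by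
  intro us
  induction us with
  | nil =>
    intro l hnd hsub
    simp only [List.nil_append] at hnd hsub
    simpa [search] using htot l hnd hsub
  | cons r rs ih =>
    intro l hnd hsub
    have h1 : total (l.map fun r => (r, F r)) ≤ m :=
      htot l (List.nodup_append.mp hnd).2.1 fun x hx => hsub x (by simp [hx])
    simp only [search, Bool.or_eq_false_iff, decide_eq_false_iff_not, not_lt]
    refine ⟨h1, ?_⟩
    rw [List.all_eq_false]
    refine ⟨F r, hopt r (hsub r (by simp)), ?_⟩
    have hperm : (rs ++ r :: l).Perm ((r :: rs) ++ l) := by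
      simp [List.perm_middle]
    have hih := ih (r :: l) (hperm.nodup_iff.mpr hnd) fun x hx => hsub x (hperm.mem_iff.mp hx)
    simp only [List.map_cons] at hih
    simp only [hih, Bool.or_false, Bool.not_eq_true, Bool.not_eq_false']
    simp only [List.all_map, List.all_eq_true, Function.comp_apply]
    intro s hs
    refine hcompat r (hsub r (by simp)) s (hsub s (by simp [hs])) ?_
    rintro rfl
    exact (List.nodup_cons.mp hnd).1 (by simp [hs])

end Cfsg.Agent.FG78.A175560
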