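import Mathlib
import Cfsg.Agent.S4142
import Cfsg.Agent.FG78.PiParts
import Cfsg.Agent.FG78.IndexLemmas
import Cfsg.Agent.Lib.Frobenius.FixedPointFree
import Cfsg.Agent.Lib.Frobenius.Nilpotent
import Cfsg.Agent.Lib.PGroup.Basic

set_option autoImplicit false

/-!
Camina pairs `(G, N)`: every element outside `N` is conjugate to all elements of its coset.
-/

namespace Cfsg.Agent.FG78.Camina

variable {G : Type*} [Group G] {N : Subgroup G}

/-- Every element outside `N` is conjugate to all elements of its coset. -/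
def IsCamina (N : Subgroup G) : Prop :=
  ∀ g : G, g ∉ N → ∀ n ∈ N, ∃ x : G, x * g * x⁻¹ = g * n

theorem orderOf_mul_eq (hC : IsCamina N) {g n : G} (hg : g ∉ N) (hn : n ∈ N) :
    orderOf (g * n) = orderOf g := by
  obtain ⟨x, hx⟩ := hC g hg n hn
  rw [← hx]
  exact orderOf_injective (MulAut.conj x).toMonoidHom (MulAut.conj x).injective g

theorem eq_one_of_commute (hC : IsCamina N) [Finite G] {g n : G} (hg : g ∉ N) (hn : n ∈ N)
    (hcomm : Commute g n) (hcop : (orderOf g).Coprime (orderOf n)) : n = 1 := by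
  have h1 := orderOf_mul_eq hC hg hn
  rw [hcomm.orderOf_mul_eq_mul_orderOf_of_coprime hcop] at h1
  exact orderOf_eq_one_iff.mp ((mul_eq_left₀ (orderOf_pos g).ne').mp h1)

/-- A group in which commuting elements of order `p` generate a cyclic group has a `p`-element
whose `p`-centralizer is the cyclic group it generates. -/
theorem exists_self_centralizing {Q : Type*} [Group Q] [Finite Q] {p : ℕ} [hp : Fact p.Prime]
    (hdvd : p ∣ Nat.card Q)
    (hU : ∀ a b : Q, Commute a b → orderOf a = p → b ^ p = 1 → b ∈ Subgroup.zpowers a) :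
    ∃ y : Q, y ≠ 1 ∧ (∃ k, orderOf y = p ^ k) ∧
      ∀ s : Q, Commute y s → (∃ k, orderOf s = p ^ k) → s ∈ Subgroup.zpowers y := by
  classical
  haveI := Fintype.ofFinite Q
  set S := Finset.univ.filter fun s : Q => ∃ k, orderOf s = p ^ k
  obtain ⟨a, ha⟩ := exists_prime_orderOf_dvd_card' p hdvd
  have haS : a ∈ S := by simp only [S, Finset.mem_filter, Finset.mem_univ, true_and]; exact ⟨1, by rw [ha, pow_one]⟩
  obtain ⟨y, hyS, hmax⟩ := Finset.exists_max_image S orderOf ⟨a, haS⟩
  obtain ⟨-, ky, hky⟩ := Finset.mem_filter.mp hyS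
  have hy1 : y ≠ 1 := by
    intro e
    have := hmax a haS
    rw [ha, e, orderOf_one] at this
    exact absurd this (not_le.mpr hp.out.one_lt)
  have hky0 : ky ≠ 0 := fun e => hy1 (orderOf_eq_one_iff.mp (by rw [hky, e, pow_zero]))
  obtain ⟨ky, rfl⟩ := Nat.exists_eq_succ_of_ne_zero hky0
  refine ⟨y, hy1, ⟨_, hky⟩, fun s hys ⟨ks, hks⟩ => ?_⟩
  induction ks generalizing s with
  | zero => rw [pow_zero, orderOf_eq_one_iff] at hks; rw [hks]; exact one_mem _
  | succ ks ih =>
    have hspo : orderOf (s ^ p) = p ^ ks := by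
      rw [orderOf_pow, hks, pow_succ, Nat.gcd_eq_right (Dvd.intro_left _ rfl),
        Nat.mul_div_cancel _ hp.out.pos]
    obtain ⟨l, hl⟩ := Subgroup.mem_zpowers_iff.mp (ih (s ^ p) (hys.pow_right p) ⟨_, hspo⟩ hspo)
    by_cases hpl : (p : ℤ) ∣ l
    · obtain ⟨l', rfl⟩ := hpl
      set b := s * (y ^ l')⁻¹
      have hc : Commute s (y ^ l')⁻¹ := ((hys.symm).zpow_right l').inv_right
      have hb : b ^ p = 1 := by
        rw [hc.mul_pow, inv_pow, ← zpow_natCast (y ^ l'), ← zpow_mul, mul_comm l', hl]
        exact mul_inv_cancel _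
      have hu : orderOf (y ^ p ^ ky) = p := by
        rw [orderOf_pow, hky, Nat.gcd_eq_right (pow_dvd_pow p (Nat.le_succ ky)), pow_succ,
          Nat.mul_div_cancel_left _ (pow_pos hp.out.pos _)]
      have hcb : Commute (y ^ p ^ ky) b :=
        ((hys.mul_right (((Commute.refl y).zpow_right l').inv_right))).pow_left _
      have hbz : b ∈ Subgroup.zpowers y :=
        Subgroup.zpowers_le.mpr (Subgroup.pow_mem _ (Subgroup.mem_zpowers y) _) (hU _ b hcb hu hb)
      have : s = b * y ^ l' := by simp [b]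
      rw [this]
      exact mul_mem hbz (Subgroup.zpow_mem_zpowers y l')
    · exfalso
      -- then `s` has larger order than `y`
      have hgcd : orderOf (y ^ l) = orderOf y := by
        obtain ⟨u, v, huv⟩ : IsCoprime l ((p : ℤ) ^ (ky + 1)) :=
          (((Nat.prime_iff_prime_int.mp hp.out).coprime_iff_not_dvd.mpr hpl).symm).pow_right
        apply Nat.dvd_antisymm
        · exact orderOf_dvd_of_pow_eq_one (by rw [← zpow_natCast, ← zpow_mul, mul_comm, zpow_mul,
            zpow_natCast, pow_orderOf_eq_one, one_zpow])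
        · have hy' : (y ^ l) ^ u = y := by
            have hone : y ^ ((p : ℤ) ^ (ky + 1)) = 1 := by
              rw [← Nat.cast_pow, zpow_natCast, ← hky, pow_orderOf_eq_one]
            calc (y ^ l) ^ u = y ^ (u * l) * (y ^ ((p : ℤ) ^ (ky + 1))) ^ v := by
                  rw [hone, one_zpow, mul_one, ← zpow_mul, mul_comm]
              _ = y ^ (1 : ℤ) := by rw [← zpow_mul, ← zpow_add, mul_comm ((p : ℤ) ^ _) v, huv]
              _ = y := zpow_one y
          conv_lhs => rw [← hy']
          exact orderOf_dvd_of_pow_eq_one (by rw [← zpow_natCast, ← zpow_mul, mul_comm, zpow_mul,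
            zpow_natCast, pow_orderOf_eq_one, one_zpow])
      rw [hl, hspo] at hgcd
      have hsS : s ∈ S := by
        simp only [S, Finset.mem_filter, Finset.mem_univ, true_and]; exact ⟨_, hks⟩
      have := hmax s hsS
      rw [hks, ← hgcd] at this
      exact absurd this (not_le.mpr (Nat.pow_lt_pow_right hp.out.one_lt (Nat.lt_succ_self ks)))

variable [Finite G] [N.Normal]

/-- No nontrivial `p'`-subgroup of `N` is normalised by a `p`-subgroup covering a Sylow subgroup
of `G/N` and centralised by its intersection with `N`. -/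
theorem key (hC : IsCamina N) {p : ℕ} [hp : Fact p.Prime] (hpN : p ∣ Nat.card N)
    (hpI : p ∣ N.index) (T : Subgroup G) (hT : IsPGroup p T) (S : Sylow p (G ⧸ N))
    (hS : (S : Subgroup (G ⧸ N)) = T.map (QuotientGroup.mk' N)) (L : Subgroup G) (hLN : L ≤ N)
    (hLp : ¬ p ∣ Nat.card L) (hnorm : T ≤ Subgroup.normalizer (L : Set G))
    (hD : T ⊓ N ≤ Subgroup.centralizer (L : Set G)) : L = ⊥ := by
  classical
  by_contra hL
  -- the action of `T` on `L`
  let φ : T →* MulAut L := L.normalizerMonoidHom.comp (Subgroup.inclusion hnorm)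
  have happ : ∀ (t : T) (l : L), ((φ t l : L) : G) = (t : G) * l * (t : G)⁻¹ := fun _ _ => rfl
  have hfix : ∀ t : T, (t : G) ∉ N → ∀ l : L, φ t l = l → l = 1 := by
    intro t ht l hl
    have h1 : Commute (t : G) (l : G) := by
      have := congrArg Subtype.val hl
      rw [happ, mul_inv_eq_iff_eq_mul] at this
      exact this
    refine Subtype.ext (eq_one_of_commute hC ht (hLN l.2) h1 ?_)
    obtain ⟨k, hk⟩ := IsPGroup.iff_orderOf.mp hT t
    rw [← Subgroup.orderOf_coe t] at hk
    rw [hk]
    refine Nat.Coprime.pow_left k ((hp.out.coprime_iff_not_dvd).mpr fun h => hLp (h.trans ?_))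
    exact Subgroup.orderOf_coe l ▸ orderOf_dvd_natCard l
  -- the image of `T` in `MulAut L` acts without fixed points
  let A := φ.range
  let X := SemidirectProduct L A A.subtype
  haveI : Finite X := Finite.of_equiv _ SemidirectProduct.equivProd.symm
  let AX : Subgroup X := (SemidirectProduct.inr : A →* X).range
  let LX : Subgroup X := (SemidirectProduct.inl : L →* X).range
  haveI hLXn : LX.Normal := by
    show (SemidirectProduct.inl : L →* X).range.Normal
    rw [SemidirectProduct.range_inl_eq_ker_rightHom]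
    exact MonoidHom.normal_ker _
  have hkerN : ∀ t : T, (t : G) ∈ N → φ t = 1 := by
    intro t ht
    ext l
    rw [happ]
    have := Subgroup.mem_centralizer_iff.mp (hD ⟨t.2, ht⟩) l l.2
    rw [← this, mul_inv_cancel_right]
    rfl
  have hfpf : Cfsg.Agent.Frobenius.IsFPF AX LX := by
    refine Cfsg.Agent.Frobenius.isFPF_of_normal ?_
    rintro _ ⟨⟨_, t, rfl⟩, rfl⟩ hne
    have ht : (t : G) ∉ N := fun h => hne (by
      rw [show (⟨φ t, t, rfl⟩ : A) = 1 from Subtype.ext (hkerN t h), map_one])
    rw [Subgroup.eq_bot_iff_forall]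
    rintro _ ⟨⟨l, rfl⟩, hc⟩
    have hc' := congrArg SemidirectProduct.left (Subgroup.mem_centralizer_singleton_iff.mp hc)
    simp only [SemidirectProduct.mul_left, SemidirectProduct.left_inl, SemidirectProduct.left_inr,
      SemidirectProduct.right_inl, SemidirectProduct.right_inr, map_one, one_mul, mul_one] at hc'
    rw [hfix t ht l hc'.symm, map_one]
  have hLX : LX ≠ ⊥ := by
    intro h
    refine hL ((Subgroup.eq_bot_iff_forall _).mpr fun l hl => ?_)
    have h' := SemidirectProduct.inl_injective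
      ((Subgroup.eq_bot_iff_forall _).mp h (SemidirectProduct.inl (⟨l, hl⟩ : L)) ⟨_, rfl⟩ |>.trans
        (map_one _).symm)
    exact congrArg Subtype.val h'
  -- commuting elements of order `p` of `G/N` generate cyclic groups
  have hker : ∀ t : T, φ t = 1 → (t : G) ∈ N := by
    intro t ht
    by_contra h
    obtain ⟨l, hl, hl1⟩ : ∃ l ∈ L, l ≠ 1 := by
      by_contra hne
      exact hL ((Subgroup.eq_bot_iff_forall _).mpr fun l hl =>
        by_contra fun h1 => hne ⟨l, hl, h1⟩)
    exact hl1 (congrArg Subtype.val (hfix t h ⟨l, hl⟩ (by rw [ht]; rfl)))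
  have hUS : ∀ a ∈ (S : Subgroup (G ⧸ N)), ∀ b ∈ (S : Subgroup (G ⧸ N)), Commute a b →
      orderOf a = p → b ^ p = 1 → b ∈ Subgroup.zpowers a := by
    rw [hS]
    rintro _ ⟨a, haT, rfl⟩ _ ⟨b, hbT, rfl⟩ hab hao hbo
    set a' : T := ⟨a, haT⟩
    set b' : T := ⟨b, hbT⟩
    let j : T →* X := SemidirectProduct.inr.comp φ.rangeRestrict
    have hj : ∀ t : T, j t = 1 ↔ QuotientGroup.mk' N (t : G) = 1 := by
      intro t
      rw [QuotientGroup.mk'_apply, QuotientGroup.eq_one_iff]
      constructor
      · intro h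
        refine hker t (congrArg Subtype.val (SemidirectProduct.inr_injective
          (h.trans (map_one (SemidirectProduct.inr : A →* X)).symm)))
      · intro h
        show SemidirectProduct.inr (φ.rangeRestrict t) = (1 : X)
        rw [show φ.rangeRestrict t = 1 from Subtype.ext (hkerN t h), map_one]
    have hc : Commute (j a') (j b') := by
      rw [Commute, SemiconjBy, ← map_mul, ← map_mul, ← inv_mul_eq_one, ← map_inv, ← map_mul, hj]
      simp only [Subgroup.coe_mul, Subgroup.coe_inv, map_mul, map_inv, inv_mul_eq_one]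
      exact hab.eq
    have hao' : orderOf (j a') = p := by
      refine orderOf_eq_prime ?_ ?_
      · rw [← map_pow, hj, SubmonoidClass.coe_pow, map_pow, ← hao]
        exact pow_orderOf_eq_one _
      · rw [Ne, hj]
        intro h
        rw [h, orderOf_one] at hao
        exact hp.out.ne_one hao.symm
    have hbo' : j b' ^ p = 1 := by
      rw [← map_pow, hj, SubmonoidClass.coe_pow, map_pow]; exact hbo
    obtain ⟨i, hi⟩ := Subgroup.mem_zpowers_iff.mp
      (hfpf.mem_zpowers_of_commute hLX ⟨_, rfl⟩ ⟨_, rfl⟩ hao' hbo' hc)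
    refine ⟨i, ?_⟩
    replace hi : j (a' ^ i) = j b' := (map_zpow j a' i).trans hi
    rw [← inv_mul_eq_one, ← map_inv, ← map_mul, hj] at hi
    simp only [Subgroup.coe_mul, Subgroup.coe_inv, SubgroupClass.coe_zpow, map_mul, map_inv,
      map_zpow, inv_mul_eq_one] at hi
    exact hi
  have hU : ∀ a b : G ⧸ N, Commute a b → orderOf a = p → b ^ p = 1 →
      b ∈ Subgroup.zpowers a := by
    intro a b hab hao hbo
    have hpg : IsPGroup p (Subgroup.closure {a, b} : Subgroup (G ⧸ N)) := by
      haveI : IsMulCommutative (Subgroup.closure {a, b} : Subgroup (G ⧸ N)) := by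
        refine Subgroup.isMulCommutative_closure ?_
        rintro x (rfl | rfl) y (rfl | rfl) <;> first | rfl | exact hab.eq | exact hab.symm.eq
      refine fun g => ⟨1, ?_⟩
      rw [pow_one]
      obtain ⟨g, hg⟩ := g
      apply Subtype.ext
      show g ^ p = 1
      induction hg using Subgroup.closure_induction with
      | mem x hx =>
        rcases hx with rfl | rfl
        · rw [← hao]; exact pow_orderOf_eq_one _
        · exact hbo
      | one => exact one_pow _
      | mul x y hx hy ihx ihy =>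
        have hxy : Commute x y := congrArg Subtype.val
          (mul_comm' (⟨x, hx⟩ : (Subgroup.closure {a, b} : Subgroup (G ⧸ N))) ⟨y, hy⟩)
        rw [hxy.mul_pow, ihx, ihy, one_mul]
      | inv x _ ih => rw [inv_pow, ih, inv_one]
    obtain ⟨S', hS'⟩ := hpg.exists_le_sylow
    obtain ⟨c, hc⟩ := MulAction.exists_smul_eq (G ⧸ N) S' S
    have hmem : ∀ x ∈ (S' : Subgroup (G ⧸ N)), c * x * c⁻¹ ∈ (S : Subgroup (G ⧸ N)) := by
      intro x hx
      rw [← hc, Sylow.coe_subgroup_smul]
      exact Subgroup.smul_mem_pointwise_smul _ (MulAut.conj c) _ hx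
    obtain ⟨i, hi⟩ := Subgroup.mem_zpowers_iff.mp <| hUS _
      (hmem a (hS' (Subgroup.subset_closure (Or.inl rfl)))) _
      (hmem b (hS' (Subgroup.subset_closure (Or.inr rfl))))
      (hab.map (MulAut.conj c).toMonoidHom)
      ((orderOf_injective (MulAut.conj c).toMonoidHom (MulAut.conj c).injective a).trans hao)
      (by rw [conj_pow, hbo, mul_one, mul_inv_cancel])
    rw [conj_zpow] at hi
    exact ⟨i, mul_left_cancel (mul_right_cancel hi)⟩
  obtain ⟨yb, hy1, ⟨ky, hky⟩, hself⟩ := exists_self_centralizing (Q := G ⧸ N) (p := p) hpI hU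
  -- a `p`-element above `yb`
  obtain ⟨g, rfl⟩ := QuotientGroup.mk_surjective yb
  set y := piPart {p} g with hy
  have hmk : (QuotientGroup.mk y : G ⧸ N) = QuotientGroup.mk g := by
    conv_rhs => rw [← piPart_mul_piPart' {p} g, QuotientGroup.mk_mul]
    rw [← QuotientGroup.mk'_apply N (piPart' {p} g),
      map_piPart'_eq_one (π := {p}) (g := g) (QuotientGroup.mk' N) ?_, mul_one]
    intro r hr hrd
    rw [QuotientGroup.mk'_apply, hky] at hrd
    exact (Nat.prime_dvd_prime_iff_eq hr hp.out).mp (hr.dvd_of_dvd_pow hrd)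
  have hyN : y ∉ N := fun h => hy1 (by rw [← hmk, QuotientGroup.eq_one_iff]; exact h)
  obtain ⟨kp, hkp⟩ := exists_pow_of_isPiElem_singleton (isPiElem_piPart {p} g)
  have hyP : IsPGroup p (Subgroup.zpowers y) := by
    intro u
    refine ⟨kp, Subtype.ext ?_⟩
    obtain ⟨u, i, rfl⟩ := u
    show (y ^ i) ^ p ^ kp = 1
    rw [← zpow_natCast, ← zpow_mul, mul_comm, zpow_mul, zpow_natCast, hy, ← hkp,
      pow_orderOf_eq_one, one_zpow]
  obtain ⟨P, hP⟩ := hyP.exists_le_sylow
  -- a central element of `P` in `N`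
  have hP0 : N.subgroupOf (P : Subgroup G) ≠ ⊥ := by
    rw [Ne, Subgroup.subgroupOf_eq_bot]
    intro hdisj
    obtain ⟨x, hx⟩ := exists_prime_orderOf_dvd_card' (G := N) p hpN
    have hxP : IsPGroup p (Subgroup.zpowers (x : G)) :=
      IsPGroup.of_card (n := 1) (by rw [Nat.card_zpowers, Subgroup.orderOf_coe, hx, pow_one])
    obtain ⟨P', hP'⟩ := hxP.exists_le_sylow
    obtain ⟨c, hc⟩ := MulAction.exists_smul_eq G P' P
    have h1 : c * (x : G) * c⁻¹ ∈ N := (inferInstance : N.Normal).conj_mem _ x.2 c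
    have h2 : c * (x : G) * c⁻¹ ∈ (P : Subgroup G) := by
      rw [← hc, Sylow.coe_subgroup_smul]
      exact Subgroup.smul_mem_pointwise_smul _ (MulAut.conj c) _ (hP' (Subgroup.mem_zpowers _))
    have h3 : c * (x : G) * c⁻¹ = 1 := Subgroup.disjoint_def.mp hdisj h1 h2
    rw [mul_inv_eq_one, mul_eq_left] at h3
    rw [show x = 1 from Subtype.ext h3, orderOf_one] at hx
    exact hp.out.ne_one hx.symm
  obtain ⟨z, hz, hz1⟩ := (Subgroup.bot_or_exists_ne_one _).resolve_left
    (Cfsg.Agent.PGroup.inf_center_ne_bot P.2 hP0)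
  obtain ⟨hzN, hzC⟩ := Subgroup.mem_inf.mp hz
  set K := Subgroup.zpowers y ⊔ Subgroup.zpowers (z : G)
  have hKP : K ≤ P := sup_le hP (Subgroup.zpowers_le.mpr z.2)
  have hzy : Commute y (z : G) := congrArg Subtype.val
    (Subgroup.mem_center_iff.mp hzC ⟨y, hP (Subgroup.mem_zpowers y)⟩)
  have hKC : K ≤ Subgroup.centralizer ({y} : Set G) :=
    sup_le (Subgroup.zpowers_le.mpr (mem_cent_iff.mpr (Commute.refl y)))
      (Subgroup.zpowers_le.mpr (mem_cent_iff.mpr hzy.symm))
  have hcard := (S4142.result N).mp hC y hyN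
  obtain ⟨kK, hkK⟩ := (P.2.to_le hKP).exists_card_eq
  have h1 : Nat.card K ∣ Nat.card (Subgroup.centralizer
      ({(QuotientGroup.mk y : G ⧸ N)} : Set (G ⧸ N))) := hcard ▸ Subgroup.card_dvd_of_le hKC
  -- hence the order of `K` is at most that of `yb`
  have h2 : Nat.card K ≤ orderOf (QuotientGroup.mk g : G ⧸ N) := by
    set C := Subgroup.centralizer ({(QuotientGroup.mk y : G ⧸ N)} : Set (G ⧸ N))
    rw [hkK] at h1 ⊢
    obtain ⟨U, hU⟩ := Sylow.exists_subgroup_card_pow_prime p h1
    have hle : (U.map C.subtype) ≤ Subgroup.zpowers (QuotientGroup.mk g : G ⧸ N) := by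
      rintro _ ⟨u, hu, rfl⟩
      refine hself _ ?_ ?_
      · rw [← hmk]; exact (mem_cent_iff.mp u.2).symm
      · have hu' : orderOf (u : G ⧸ N) ∣ p ^ kK := by
          rw [Subgroup.orderOf_coe, ← hU, ← Subgroup.orderOf_mk u hu]
          exact orderOf_dvd_natCard _
        obtain ⟨i, -, hi⟩ := (Nat.dvd_prime_pow hp.out).mp hu'
        exact ⟨i, hi⟩
    have := Subgroup.card_le_of_le hle
    rwa [Subgroup.card_map_of_injective C.subtype_injective, hU, Nat.card_zpowers] at this
  let f : K →* G ⧸ N := (QuotientGroup.mk' N).comp K.subtype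
  have h3 : orderOf (QuotientGroup.mk g : G ⧸ N) ∣ Nat.card f.range := by
    have hmem : (QuotientGroup.mk g : G ⧸ N) ∈ f.range :=
      ⟨⟨y, Subgroup.mem_sup_left (Subgroup.mem_zpowers y)⟩, hmk⟩
    rw [← Subgroup.orderOf_mk (QuotientGroup.mk g : G ⧸ N) hmem]
    exact orderOf_dvd_natCard _
  have h4 : 1 < Nat.card f.ker := by
    rw [Subgroup.one_lt_card_iff_ne_bot]
    intro hb
    have hzk : (⟨(z : G), Subgroup.mem_sup_right (Subgroup.mem_zpowers _)⟩ : K) ∈ f.ker := by
      rw [MonoidHom.mem_ker]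
      exact (QuotientGroup.eq_one_iff _).mpr hzN
    rw [hb, Subgroup.mem_bot] at hzk
    exact hz1 (Subtype.ext (congrArg (fun k : K => (k : G)) hzk))
  have h5 := Subgroup.card_mul_index f.ker
  rw [Subgroup.index_ker] at h5
  have h6 : 0 < Nat.card f.range := Nat.card_pos
  have h7 := Nat.le_of_dvd h6 h3
  have : Nat.card f.range < Nat.card K := by
    rw [← h5]
    exact lt_mul_of_one_lt_left h6 h4
  omega

/-- A subgroup covering `G/N` contains a `p`-subgroup covering a Sylow subgroup. -/
theorem exists_covering_sylow (p : ℕ) [Fact p.Prime] (J : Subgroup G) (hJ : J ⊔ N = ⊤) :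
    ∃ T : Subgroup G, T ≤ J ∧ IsPGroup p T ∧
      ∃ S : Sylow p (G ⧸ N), (S : Subgroup (G ⧸ N)) = T.map (QuotientGroup.mk' N) := by
  have hsur : Function.Surjective ((QuotientGroup.mk' N).comp J.subtype) := by
    rw [← MonoidHom.range_eq_top, MonoidHom.range_comp, Subgroup.range_subtype, eq_top_iff,
      ← Subgroup.map_top_of_surjective _ (QuotientGroup.mk'_surjective N), ← hJ, Subgroup.map_sup,
      QuotientGroup.map_mk'_self, sup_bot_eq]
  obtain ⟨T⟩ := (inferInstance : Nonempty (Sylow p J))
  exact ⟨(T : Subgroup J).map J.subtype, Subgroup.map_subtype_le _, T.2.map _,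
    T.mapSurjective hsur, by rw [Sylow.coe_mapSurjective, Subgroup.map_map]⟩

/-- The Frattini argument inside a subgroup covering `G/N`. -/
theorem frattini_step (H : Subgroup G) (hH : H ⊔ N = ⊤) {r : ℕ} [Fact r.Prime]
    (R : Sylow r (N.subgroupOf H)) :
    (H ⊓ Subgroup.normalizer
      (((R : Subgroup (N.subgroupOf H)).map ((N.subgroupOf H).subtype)).map H.subtype : Set G)) ⊔ N
      = ⊤ := by
  have h1 := Sylow.normalizer_sup_eq_top R
  set R1 := (R : Subgroup (N.subgroupOf H)).map (N.subgroupOf H).subtype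
  have h2 : H ≤ (H ⊓ Subgroup.normalizer ((R1.map H.subtype : Subgroup G) : Set G)) ⊔ N := by
    intro h hh
    have h3 : (⟨h, hh⟩ : H) ∈ Subgroup.normalizer (R1 : Set H) ⊔ N.subgroupOf H := by
      rw [h1]; exact Subgroup.mem_top _
    have h4 := Subgroup.mem_map_of_mem H.subtype h3
    rw [Subgroup.map_sup] at h4
    refine sup_le_sup (le_inf (Subgroup.map_subtype_le _) (Subgroup.le_normalizer_map _)) ?_ h4
    exact (Subgroup.subgroupOf_map_subtype N H).le.trans inf_le_left
  exact eq_top_iff.mpr (hH.ge.trans (sup_le h2 le_sup_right))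

/-- For a common prime, Sylow subgroups of `N` are self-normalizing in `N`. -/
theorem normalizer_inf_le (hC : IsCamina N) {p : ℕ} [hp : Fact p.Prime] (hpN : p ∣ Nat.card N)
    (hpI : p ∣ N.index) (P0 : Sylow p N) :
    Subgroup.normalizer (((P0 : Subgroup N).map N.subtype : Subgroup G) : Set G) ⊓ N ≤
      (P0 : Subgroup N).map N.subtype := by
  classical
  set V := (P0 : Subgroup N).map N.subtype with hV
  set H := Subgroup.normalizer (V : Set G)
  have hH : H ⊔ N = ⊤ := Sylow.normalizer_sup_eq_top P0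
  have hVN : V ≤ N := Subgroup.map_subtype_le _
  -- `V` absorbs the `p`-subgroups of `H ⊓ N`
  have hmax : ∀ D : Subgroup G, D ≤ H ⊓ N → IsPGroup p D → D ≤ V := by
    intro D hD hDp
    have hsup : IsPGroup p (D ⊔ V : Subgroup G) :=
      IsPGroup.to_sup_of_normal_right' hDp (P0.2.map _) (hD.trans inf_le_left)
    have h := P0.3 (hsup.comap_of_injective N.subtype N.subtype_injective)
      (Subgroup.map_le_iff_le_comap.mp le_sup_right)
    calc D ≤ D ⊔ V := le_sup_left
      _ = ((D ⊔ V).comap N.subtype).map N.subtype := by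
        rw [Subgroup.map_comap_eq_self]
        rw [Subgroup.range_subtype]
        exact sup_le (hD.trans inf_le_right) hVN
      _ = V := by rw [h]
  set M := N.subgroupOf H
  have hMp : IsPGroup p M := by
    rw [IsPGroup.iff_card]
    refine ⟨_, Nat.eq_prime_pow_of_unique_prime_dvd Nat.card_pos.ne' fun {r} hr hrd => ?_⟩
    by_contra hrp
    haveI := Fact.mk hr
    obtain ⟨R⟩ := (inferInstance : Nonempty (Sylow r M))
    set L := ((R : Subgroup M).map M.subtype).map H.subtype with hL
    obtain ⟨T, hTJ, hT, S, hS⟩ := exists_covering_sylow p _ (frattini_step H hH R)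
    have hLN : L ≤ N := by
      rintro _ ⟨_, ⟨u, -, rfl⟩, rfl⟩; exact u.2
    have hLH : L ≤ H := Subgroup.map_subtype_le _
    have hLr : IsPGroup r L := (R.2.map _).map _
    have hLp : ¬ p ∣ Nat.card L := by
      intro h
      obtain ⟨k, hk⟩ := hLr.exists_card_eq
      rw [hk] at h
      exact hrp ((Nat.prime_dvd_prime_iff_eq hp.out hr).mp (hp.out.dvd_of_dvd_pow h)).symm
    have hcent : T ⊓ N ≤ Subgroup.centralizer (L : Set G) := by
      intro d hd
      have hdV : d ∈ V := hmax (T ⊓ N) (inf_le_inf_right _ (hTJ.trans inf_le_left))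
        (hT.to_le inf_le_left) hd
      rw [Subgroup.mem_centralizer_iff]
      intro l hl
      have hdisj : Disjoint V L :=
        IsPGroup.disjoint_of_ne (G := G) p r (fun e => hrp e.symm) V L (P0.2.map _) hLr
      have h1 : l * d * l⁻¹ * d⁻¹ ∈ V :=
        V.mul_mem ((Subgroup.mem_normalizer_iff.mp (hLH hl) d).mp hdV) (V.inv_mem hdV)
      have h2 : l * d * l⁻¹ * d⁻¹ ∈ L := by
        have h3 := (Subgroup.mem_normalizer_iff.mp (hTJ hd.1).2 l⁻¹).mp (L.inv_mem hl)
        have h4 := L.mul_mem hl h3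
        rwa [← mul_assoc, ← mul_assoc] at h4
      have h3 := Subgroup.disjoint_def.mp hdisj h1 h2
      rwa [mul_inv_eq_one, mul_inv_eq_iff_eq_mul] at h3
    have hbot := key hC hpN hpI T hT S hS L hLN hLp (hTJ.trans inf_le_right) hcent
    have hc : Nat.card L = Nat.card R := by
      rw [hL, Subgroup.card_map_of_injective H.subtype_injective,
        Subgroup.card_map_of_injective M.subtype_injective]
    rw [hbot, Subgroup.card_bot, Sylow.card_eq_multiplicity] at hc
    have := (Nat.Prime.dvd_iff_one_le_factorization hr Nat.card_pos.ne').mp hrd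
    have h1 := Nat.le_self_pow (show (Nat.card M).factorization r ≠ 0 by omega) r
    have := hr.two_le
    omega
  refine (hmax (M.map H.subtype) ?_ (hMp.map _)).trans' ?_ <;>
    rw [Subgroup.subgroupOf_map_subtype, inf_comm]

/-- The trichotomy. -/
theorem trichotomy (hC : IsCamina N) (hN2 : N ≠ ⊤) :
    (∀ x ∈ N, x ≠ 1 → Subgroup.centralizer ({x} : Set G) ≤ N) ∨
      IsPrimePow (Nat.card N) ∨ IsPrimePow N.index := by
  classical
  by_cases hcommon : ∃ p : ℕ, p.Prime ∧ p ∣ Nat.card N ∧ p ∣ N.index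
  · obtain ⟨p, hp, hpN, hpI⟩ := hcommon
    haveI := Fact.mk hp
    refine Or.inr ?_
    by_contra hno
    rw [not_or] at hno
    obtain ⟨q, hq, hqI, hqp⟩ : ∃ q : ℕ, q.Prime ∧ q ∣ N.index ∧ q ≠ p := by
      by_contra hne
      apply hno.2
      have h := Nat.eq_prime_pow_of_unique_prime_dvd N.index_ne_zero_of_finite
        (fun {r} hr hrd => by_contra fun h => hne ⟨r, hr, hrd, h⟩) (p := p)
      rw [h]
      refine (hp.isPrimePow).pow ?_
      intro h0
      rw [h0, pow_zero, Subgroup.index_eq_one] at h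
      exact hN2 h
    haveI := Fact.mk hq
    obtain ⟨P0⟩ := (inferInstance : Nonempty (Sylow p N))
    set V := (P0 : Subgroup N).map N.subtype
    have hH : Subgroup.normalizer (V : Set G) ⊔ N = ⊤ := Sylow.normalizer_sup_eq_top P0
    have hself := normalizer_inf_le hC hpN hpI P0
    have hVp : IsPGroup p V := P0.2.map _
    by_cases hqN : q ∣ Nat.card N
    · obtain ⟨T, hTH, hT, S, hS⟩ := exists_covering_sylow q _ hH
      have hD : T ⊓ N = ⊥ := by
        have hdisj : Disjoint (T ⊓ N) V :=
          IsPGroup.disjoint_of_ne (G := G) q p hqp _ _ (hT.to_le inf_le_left) hVp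
        exact disjoint_self.mp (hdisj.mono_right ((inf_le_inf_right _ hTH).trans hself))
      have hVq : ¬ q ∣ Nat.card V := by
        intro h
        obtain ⟨k, hk⟩ := hVp.exists_card_eq
        rw [hk] at h
        exact hqp ((Nat.prime_dvd_prime_iff_eq hq hp).mp (hq.dvd_of_dvd_pow h))
      have hbot := key hC hqN hqI T hT S hS V (Subgroup.map_subtype_le _) hVq hTH
        (by rw [hD]; exact bot_le)
      rw [Subgroup.map_eq_bot_iff_of_injective _ N.subtype_injective] at hbot
      have hni := P0.not_dvd_index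
      rw [hbot, Subgroup.index_bot] at hni
      exact hni hpN
    · obtain ⟨y, hy⟩ := exists_prime_orderOf_dvd_card' (G := G) q
        (hqI.trans (Subgroup.index_dvd_card N))
      have hyN : y ∉ N := fun h => hqN (hy ▸ Subgroup.orderOf_mk y h ▸ orderOf_dvd_natCard _)
      have hfpf : ∀ n : N, MulAut.conjNormal y n = n → n = 1 := by
        intro n hn
        have h1 : Commute y (n : G) := by
          have := congrArg Subtype.val hn
          rw [MulAut.conjNormal_apply, mul_inv_eq_iff_eq_mul] at this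
          exact this
        refine Subtype.ext (eq_one_of_commute hC hyN n.2 h1 ?_)
        rw [hy, Subgroup.orderOf_coe]
        exact hq.coprime_iff_not_dvd.mpr fun h => hqN (h.trans (orderOf_dvd_natCard _))
      haveI hnil : Group.IsNilpotent N :=
        Cfsg.Agent.Frobenius.isNilpotent_of_fixedPointFree N (MulAut.conjNormal y) hfpf hq
          (by rw [← map_pow, ← hy, pow_orderOf_eq_one, map_one])
      have hnorm : (P0 : Subgroup N).Normal :=
        Sylow.normal_of_normalizerCondition (fun H => Group.normalizerCondition_of_isNilpotent H) P0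
      have hle : N ≤ Subgroup.normalizer (V : Set G) := by
        intro n hn
        have h1 : (⟨n, hn⟩ : N) ∈ Subgroup.normalizer ((P0 : Subgroup N) : Set N) := by
          rw [Subgroup.normalizer_eq_top]; exact Subgroup.mem_top _
        exact Subgroup.le_normalizer_map N.subtype ⟨_, h1, rfl⟩
      have hNV : N = V := le_antisymm ((le_inf hle le_rfl).trans hself) (Subgroup.map_subtype_le _)
      apply hno.1
      obtain ⟨k, hk⟩ := hVp.exists_card_eq
      rw [hNV, hk]
      refine hp.isPrimePow.pow ?_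
      intro h0
      rw [← hNV] at hk
      rw [hk, h0, pow_zero] at hpN
      exact hp.ne_one (Nat.dvd_one.mp hpN)
  · refine Or.inl fun x hx hx1 g hg => ?_
    by_contra hgN
    have hd : orderOf (QuotientGroup.mk g : G ⧸ N) ≠ 1 := by
      rwa [Ne, orderOf_eq_one_iff, QuotientGroup.eq_one_iff]
    obtain ⟨q, hq, hqd⟩ := Nat.exists_prime_and_dvd hd
    haveI := Fact.mk hq
    have hqI : q ∣ N.index := hqd.trans (orderOf_dvd_natCard _)
    set h := piPart {q} g with hh
    have hhN : h ∉ N := by
      intro hh'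
      have e : (QuotientGroup.mk g : G ⧸ N) = QuotientGroup.mk (piPart' {q} g) := by
        conv_lhs => rw [← piPart_mul_piPart' {q} g, QuotientGroup.mk_mul]
        rw [(QuotientGroup.eq_one_iff _).mpr hh', one_mul]
      rw [e] at hqd
      exact not_dvd_piPart' g (hqd.trans (orderOf_map_dvd (QuotientGroup.mk' N) _))
    obtain ⟨r, hr, hrd⟩ := Nat.exists_prime_and_dvd (show orderOf x ≠ 1 by rwa [Ne, orderOf_eq_one_iff])
    have hrN : r ∣ Nat.card N := hrd.trans (Subgroup.orderOf_mk x hx ▸ orderOf_dvd_natCard _)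
    set z := x ^ (orderOf x / r)
    have hz : orderOf z = r := orderOf_pow_orderOf_div (orderOf_pos x).ne' hrd
    have hc : Commute h z :=
      (commute_piPart {q} g (mem_cent_iff.mp hg).symm).symm.pow_right _
    obtain ⟨k, hk⟩ := exists_pow_of_isPiElem_singleton (isPiElem_piPart {q} g)
    have hz1 := eq_one_of_commute hC hhN (pow_mem hx _ : z ∈ N) hc (by
      rw [hk, hz]
      exact Nat.Coprime.pow_left k ((Nat.coprime_primes hq hr).mpr
        fun e => hcommon ⟨q, hq, e ▸ hrN, hqI⟩))
    rw [show z = 1 from hz1, orderOf_one] at hz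
    exact hr.ne_one hz.symm

end Cfsg.Agent.FG78.Camina
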