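import Mathlib
import Cfsg.Prelude.Def_Transfer
import Cfsg.Agent.FG78.IndexLemmas
import Cfsg.Agent.Lib.Transfer.Frobenius
import Cfsg.Agent.Lib.Transfer.Residual
import Cfsg.Agent.Lib.PComplement.Reduction
import Cfsg.Agent.Lib.PGroup.Basic

set_option autoImplicit false

/-! Cossey–Wang: if no prime divisor of `|G|` divides `p - 1` and `p²` divides no class size, then
`G` has a normal `p`-complement.  The core is a counting argument for an abelian Sylow subgroup. -/

namespace Cfsg.Agent.FG78.CW

open Cfsg.Agent.Transfer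
open scoped Pointwise

variable {G : Type*} [Group G] [Finite G]

/-- No class size is divisible by `p²`. -/
def ClassBd (p : ℕ) (G : Type*) [Group G] : Prop :=
  ∀ x : G, ¬ p ^ 2 ∣ (Subgroup.centralizer ({x} : Set G)).index

/-- No prime divisor of the order divides `p - 1`. -/
def PCoprime (p : ℕ) (G : Type*) [Group G] : Prop :=
  ∀ q : ℕ, q.Prime → q ∣ Nat.card G → ¬ q ∣ p - 1

theorem relIndex_dvd_of_normal (N K : Subgroup G) [N.Normal] : K.relIndex N ∣ K.index := by
  have e : K.relIndex (N ⊔ K) = K.relIndex N := by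
    have h1 := Subgroup.relIndex_mul_relIndex (K ⊓ N) K (N ⊔ K) inf_le_left le_sup_right
    have h2 := Subgroup.relIndex_mul_relIndex (K ⊓ N) N (N ⊔ K) inf_le_right le_sup_left
    rw [Subgroup.inf_relIndex_left] at h1
    rw [Subgroup.inf_relIndex_right, sup_comm N K, Subgroup.relIndex_sup_right, sup_comm K N] at h2
    rw [← h2, mul_comm] at h1
    exact Nat.eq_of_mul_eq_mul_right (Nat.pos_of_ne_zero Subgroup.index_ne_zero_of_finite) h1
  rw [← e]
  exact Subgroup.relIndex_dvd_index_of_le le_sup_right

theorem centralizer_subgroupOf (H : Subgroup G) (x : H) :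
    Subgroup.centralizer ({x} : Set H) =
      (Subgroup.centralizer ({(x : G)} : Set G)).subgroupOf H := by
  ext y
  simp [Subgroup.mem_subgroupOf, Subgroup.mem_centralizer_singleton_iff, Subtype.ext_iff]

theorem index_centralizer_normal_dvd (N : Subgroup G) [N.Normal] (x : N) :
    (Subgroup.centralizer ({x} : Set N)).index ∣
      (Subgroup.centralizer ({(x : G)} : Set G)).index := by
  rw [centralizer_subgroupOf]
  exact relIndex_dvd_of_normal N _

theorem index_centralizer_quotient_dvd (N : Subgroup G) [N.Normal] (x : G) :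
    (Subgroup.centralizer ({(x : G ⧸ N)} : Set (G ⧸ N))).index ∣
      (Subgroup.centralizer ({x} : Set G)).index := by
  have hle : (Subgroup.centralizer ({x} : Set G)).map (QuotientGroup.mk' N) ≤
      Subgroup.centralizer ({(x : G ⧸ N)} : Set (G ⧸ N)) := by
    rintro _ ⟨y, hy, rfl⟩
    exact mem_cent_iff.mpr ((mem_cent_iff.mp hy).map (QuotientGroup.mk' N))
  exact (Subgroup.index_dvd_of_le hle).trans
    (Subgroup.index_map_dvd _ (QuotientGroup.mk'_surjective N))

theorem ClassBd.normal {p : ℕ} (h : ClassBd p G) (N : Subgroup G) [N.Normal] : ClassBd p N :=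
  fun x hd => h x (hd.trans (index_centralizer_normal_dvd N x))

theorem ClassBd.quotient {p : ℕ} (h : ClassBd p G) (N : Subgroup G) [N.Normal] :
    ClassBd p (G ⧸ N) := by
  intro x
  obtain ⟨x, rfl⟩ := QuotientGroup.mk'_surjective N x
  exact fun hd => h x (hd.trans (index_centralizer_quotient_dvd N x))

omit [Finite G] in
theorem PCoprime.subgroup {p : ℕ} (h : PCoprime p G) (H : Subgroup G) : PCoprime p H :=
  fun q hq hd => h q hq (hd.trans (Subgroup.card_subgroup_dvd_card H))

omit [Finite G] in
theorem PCoprime.quotient {p : ℕ} (h : PCoprime p G) (N : Subgroup G) [N.Normal] :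
    PCoprime p (G ⧸ N) :=
  fun q hq hd => h q hq (hd.trans (Subgroup.card_quotient_dvd_card N))

variable {p : ℕ} [hp : Fact p.Prime]

theorem pow_pred_dvd_card {H : Subgroup G} (h : ¬ p ^ 2 ∣ H.index) :
    p ^ ((Nat.card G).factorization p - 1) ∣ Nat.card H := by
  rw [hp.out.pow_dvd_iff_le_factorization Nat.card_pos.ne', ← Subgroup.card_mul_index H,
    Nat.factorization_mul Nat.card_pos.ne' Subgroup.index_ne_zero_of_finite, Finsupp.add_apply]
  rw [hp.out.pow_dvd_iff_le_factorization Subgroup.index_ne_zero_of_finite] at h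
  omega

theorem not_sq_dvd_index {H : Subgroup G}
    (h : p ^ ((Nat.card G).factorization p - 1) ∣ Nat.card H) : ¬ p ^ 2 ∣ H.index := by
  intro hd
  have h1 := mul_dvd_mul h hd
  rw [Subgroup.card_mul_index, ← pow_add,
    hp.out.pow_dvd_iff_le_factorization Nat.card_pos.ne'] at h1
  omega

theorem exists_sub_of_dvd {H : Subgroup G} {k : ℕ} (h : p ^ k ∣ Nat.card H) :
    ∃ T : Subgroup G, T ≤ H ∧ IsPGroup p T ∧ Nat.card T = p ^ k := by
  obtain ⟨T, hT⟩ := Sylow.exists_subgroup_card_pow_prime p h
  have hc : Nat.card (T.map H.subtype) = p ^ k := by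
    rw [Subgroup.card_map_of_injective H.subtype_injective, hT]
  exact ⟨T.map H.subtype, Subgroup.map_subtype_le T, IsPGroup.of_card hc, hc⟩

theorem exists_conj_le {T : Subgroup G} (hT : IsPGroup p T) (P : Sylow p G) :
    ∃ c : G, ∀ t ∈ T, c * t * c⁻¹ ∈ (P : Subgroup G) := by
  obtain ⟨Q, hQ⟩ := hT.exists_le_sylow
  obtain ⟨c, hc⟩ := MulAction.exists_smul_eq G Q P
  exact ⟨c, fun t ht => hc ▸ Subgroup.smul_mem_pointwise_smul t (MulAut.conj c) _ (hQ ht)⟩

theorem commute_of_abelian_sylow (hab : ∀ Q : Sylow p G, IsMulCommutative (Q : Subgroup G))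
    {R : Subgroup G} (hR : IsPGroup p R) {a b : G} (ha : a ∈ R) (hb : b ∈ R) : Commute a b := by
  obtain ⟨Q, hQ⟩ := hR.exists_le_sylow
  haveI := hab Q
  exact congrArg Subtype.val
    (mul_comm' (⟨a, hQ ha⟩ : (Q : Subgroup G)) ⟨b, hQ hb⟩)

/-- With abelian Sylow subgroups the hypothesis passes to centralizers of `p`-elements. -/
theorem classBd_centralizer (hab : ∀ Q : Sylow p G, IsMulCommutative (Q : Subgroup G))
    (h : ClassBd p G) {d : G} (hd : ∃ k : ℕ, orderOf d = p ^ k) :
    ClassBd p (Subgroup.centralizer ({d} : Set G)) := by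
  set H := Subgroup.centralizer ({d} : Set G)
  intro x
  apply not_sq_dvd_index
  have hle : p ^ ((Nat.card H).factorization p - 1) ∣ p ^ ((Nat.card G).factorization p - 1) :=
    pow_dvd_pow p (Nat.sub_le_sub_right (Nat.factorization_le_iff_dvd Nat.card_pos.ne'
      Nat.card_pos.ne' |>.mpr (Subgroup.card_subgroup_dvd_card H) p) 1)
  refine hle.trans ?_
  set a := piPart {p} (x : G) with hadef
  set b := piPart' {p} (x : G) with hbdef
  have hdb : Commute d b := commute_piPart' {p} (x : G) (mem_cent_iff.mp x.2).symm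
  obtain ⟨k, hk⟩ := hd
  have hC := centralizer_mul_eq {p} hdb (isPiElem_singleton_of_pow hp.out hk)
    (isPiElem_piPart' {p} (x : G))
  have hpow := pow_pred_dvd_card (h (d * b))
  rw [hC] at hpow
  set L := H ⊓ Subgroup.centralizer ({b} : Set G) with hL
  have haL : a ∈ L := ⟨mem_cent_iff.mpr
      (commute_piPart {p} (x : G) (mem_cent_iff.mp x.2).symm).symm,
    mem_cent_iff.mpr (commute_piPart_piPart' {p} (x : G))⟩
  obtain ⟨e, he⟩ := exists_pow_of_isPiElem_singleton (isPiElem_piPart {p} (x : G))
  obtain ⟨R, hR⟩ := (IsPGroup.of_card (n := e)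
    (by rw [Nat.card_zpowers, Subgroup.orderOf_mk, he]) :
      IsPGroup p (Subgroup.zpowers (⟨a, haL⟩ : L))).exists_le_sylow
  have hRG : IsPGroup p ((R : Subgroup L).map L.subtype) := R.2.map _
  have hle2 : (R : Subgroup L).map L.subtype ≤
      (Subgroup.centralizer ({x} : Set H)).map H.subtype := by
    intro r hr
    have hrL := Subgroup.map_subtype_le _ hr
    refine ⟨⟨r, hrL.1⟩, mem_cent_iff.mpr (Subtype.ext ?_), rfl⟩
    have h1 : Commute r a := commute_of_abelian_sylow hab hRG hr
      (Subgroup.mem_map_of_mem L.subtype (hR (Subgroup.mem_zpowers _)))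
    have h2 : Commute r b := mem_cent_iff.mp hrL.2
    have h3 : Commute r (a * b) := h1.mul_right h2
    rw [hadef, hbdef, piPart_mul_piPart'] at h3
    exact h3.eq
  have hc1 : p ^ ((Nat.card G).factorization p - 1) ∣ Nat.card ((R : Subgroup L).map L.subtype) := by
    rw [Subgroup.card_map_of_injective L.subtype_injective, R.card_eq_multiplicity]
    exact pow_dvd_pow p ((hp.out.pow_dvd_iff_le_factorization Nat.card_pos.ne').mp hpow)
  have := hc1.trans (Subgroup.card_dvd_of_le hle2)
  rwa [Subgroup.card_map_of_injective H.subtype_injective] at this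

/-- A subgroup of order `p` is central in its normalizer. -/
theorem mem_centralizer_of_card_prime (hc : PCoprime p G) {A : Subgroup G} (hA : Nat.card A = p)
    {y : G} (hy : y ∈ Subgroup.normalizer (A : Set G)) : y ∈ Subgroup.centralizer (A : Set G) := by
  haveI : IsCyclic A := isCyclic_of_prime_card hA
  have hf : Nat.card (MulAut A) = p - 1 := by
    rw [IsCyclic.card_mulAut, hA, Nat.totient_prime hp.out]
  set f : MulAut A := A.normalizerMonoidHom ⟨y, hy⟩ with hfdef
  have h1 : orderOf f ∣ p - 1 := hf ▸ orderOf_dvd_natCard f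
  have h2 : orderOf f ∣ Nat.card G :=
    (orderOf_map_dvd A.normalizerMonoidHom ⟨y, hy⟩).trans
      ((orderOf_dvd_natCard _).trans (Subgroup.card_subgroup_dvd_card _))
  have h3 : orderOf f = 1 := by
    by_contra hne
    obtain ⟨q, hq, hqd⟩ := Nat.exists_prime_and_dvd hne
    exact hc q hq (hqd.trans h2) (hqd.trans h1)
  rw [orderOf_eq_one_iff] at h3
  have h4 : (⟨y, hy⟩ : Subgroup.normalizer (A : Set G)) ∈ A.normalizerMonoidHom.ker := h3
  rwa [Subgroup.normalizerMonoidHom_ker, Subgroup.mem_subgroupOf] at h4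

/-- A finite abelian group has at most as many subgroups of index `p` as elements. -/
theorem card_index_prime_le {A : Type*} [CommGroup A] [Finite A] :
    Nat.card {M : Subgroup A // M.index = p} ≤ Nat.card A := by
  obtain ⟨e⟩ := CommGroup.monoidHom_mulEquiv_of_hasEnoughRootsOfUnity A ℂ
  haveI : Finite (A →* ℂˣ) := Finite.of_equiv A e.symm.toEquiv
  have key : ∀ M : {M : Subgroup A // M.index = p}, ∃ φ : A →* ℂˣ, φ.ker = M.1 := by
    rintro ⟨M, hM⟩
    have hne : M ≠ ⊤ := fun h => hp.out.ne_one (by rw [← hM, h, Subgroup.index_top])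
    obtain ⟨a, ha⟩ : ∃ a : A, a ∉ M := by
      by_contra! hall
      exact hne (eq_top_iff.mpr fun a _ => hall a)
    have ha' : (a : A ⧸ M) ≠ 1 := fun h => ha ((QuotientGroup.eq_one_iff a).mp h)
    obtain ⟨φ, hφ⟩ := CommGroup.exists_apply_ne_one_of_hasEnoughRootsOfUnity (A ⧸ M) ℂ ha'
    refine ⟨φ.comp (QuotientGroup.mk' M), ?_⟩
    have hle : M ≤ (φ.comp (QuotientGroup.mk' M)).ker := fun m hm => by
      rw [MonoidHom.mem_ker, MonoidHom.comp_apply, QuotientGroup.mk'_apply,
        (QuotientGroup.eq_one_iff m).mpr hm, map_one]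
    rcases hp.out.eq_one_or_self_of_dvd _ (hM ▸ Subgroup.index_dvd_of_le hle) with h1 | h1
    · refine absurd ?_ hφ
      have : a ∈ (φ.comp (QuotientGroup.mk' M)).ker := by
        rw [Subgroup.index_eq_one.mp h1]; exact Subgroup.mem_top a
      exact this
    · refine le_antisymm ?_ hle
      have h2 := Subgroup.relIndex_mul_index hle
      rw [h1, hM] at h2
      exact Subgroup.relIndex_eq_one.mp (Nat.eq_of_mul_eq_mul_right hp.out.pos
        (by rw [h2, one_mul]))
  choose φ hφ using key
  calc Nat.card {M : Subgroup A // M.index = p} ≤ Nat.card (A →* ℂˣ) :=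
        Nat.card_le_card_of_injective φ fun a b h => Subtype.ext (by rw [← hφ a, ← hφ b, h])
    _ = Nat.card A := Nat.card_congr e.toEquiv

theorem sylow_le_of_mem {P : Sylow p G} {y : G} (hy : y ∈ Subgroup.normalizer ((P : Subgroup G) : Set G))
    (hpy : ∃ k : ℕ, orderOf y = p ^ k) : y ∈ (P : Subgroup G) := by
  obtain ⟨k, hk⟩ := hpy
  have hY : IsPGroup p (Subgroup.zpowers y) := IsPGroup.of_card (n := k) (by rw [Nat.card_zpowers, hk])
  have h := hY.inf_normalizer_sylow P
  exact ((h ▸ ⟨Subgroup.mem_zpowers y, hy⟩ : y ∈ Subgroup.zpowers y ⊓ (P : Subgroup G))).2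

theorem card_centralizer_sylow (P Q : Sylow p G) :
    Nat.card (Subgroup.centralizer ((Q : Subgroup G) : Set G)) =
      Nat.card (Subgroup.centralizer ((P : Subgroup G) : Set G)) := by
  obtain ⟨g, rfl⟩ := MulAction.exists_smul_eq G P Q
  have e : Subgroup.centralizer (((g • P : Sylow p G) : Subgroup G) : Set G) =
      MulAut.conj g • Subgroup.centralizer ((P : Subgroup G) : Set G) := by
    ext x
    rw [Subgroup.mem_pointwise_smul_iff_inv_smul_mem, Sylow.coe_subgroup_smul,
      Subgroup.mem_centralizer_iff, Subgroup.mem_centralizer_iff]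
    constructor
    · intro h y hy
      have h1 : Commute (MulAut.conj g y) x :=
        h _ (Subgroup.smul_mem_pointwise_smul y (MulAut.conj g) _ hy)
      simpa [MulAut.smul_def, mul_assoc] using (h1.map (MulAut.conj g⁻¹).toMonoidHom).eq
    · intro h y hy
      rw [SetLike.mem_coe, Subgroup.mem_pointwise_smul_iff_inv_smul_mem] at hy
      have h1 : Commute ((MulAut.conj g)⁻¹ • y) ((MulAut.conj g)⁻¹ • x) := h _ hy
      simpa [MulAut.smul_def, mul_assoc] using (h1.map (MulAut.conj g).toMonoidHom).eq
  rw [e]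
  exact Nat.card_congr (Subgroup.equivSMul (MulAut.conj g) _).toEquiv.symm

theorem isMulCommutative_sylow (P : Sylow p G) [IsMulCommutative (P : Subgroup G)] (Q : Sylow p G) :
    IsMulCommutative (Q : Subgroup G) := by
  obtain ⟨g, rfl⟩ := MulAction.exists_smul_eq G P Q
  refine ⟨⟨fun a b => ?_⟩⟩
  obtain ⟨a, ha⟩ := a
  obtain ⟨b, hb⟩ := b
  simp only [Sylow.coe_subgroup_smul, Subgroup.mem_pointwise_smul_iff_inv_smul_mem,
    MulAut.smul_def] at ha hb
  have h1 : (MulAut.conj g)⁻¹ a * (MulAut.conj g)⁻¹ b = (MulAut.conj g)⁻¹ b * (MulAut.conj g)⁻¹ a :=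
    congrArg Subtype.val (mul_comm' (⟨_, ha⟩ : (P : Subgroup G)) ⟨_, hb⟩)
  rw [← map_mul, ← map_mul] at h1
  exact Subtype.ext ((MulAut.conj g)⁻¹.injective h1)

/-- The counting step: an abelian Sylow subgroup on which the normalizer acts semiregularly. -/
theorem false_of_counting (P : Sylow p G) [IsMulCommutative (P : Subgroup G)]
    (h : ClassBd p G) (hn : 2 ≤ (Nat.card G).factorization p)
    (hcomp : ∀ X : Subgroup G, X ≠ ⊥ → IsPGroup p X →
      HasNormalPComplement p (Subgroup.centralizer (X : Set G)))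
    (hN : ¬ Subgroup.normalizer ((P : Subgroup G) : Set G) ≤
      Subgroup.centralizer ((P : Subgroup G) : Set G)) : False := by
  classical
  set n := (Nat.card G).factorization p with hndef
  have hab := isMulCommutative_sylow P
  have hPn : ∀ Q : Sylow p G, Nat.card (Q : Subgroup G) = p ^ n := fun Q => Q.card_eq_multiplicity
  -- semiregularity of the normalizer of any Sylow subgroup
  have semi : ∀ (Q : Sylow p G) (X : Subgroup G), X ≠ ⊥ → IsPGroup p X → X ≤ (Q : Subgroup G) →
      ∀ y ∈ Subgroup.centralizer (X : Set G), y ∈ Subgroup.normalizer ((Q : Subgroup G) : Set G) →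
        y ∈ Subgroup.centralizer ((Q : Subgroup G) : Set G) := by
    intro Q X hX hXp hXQ y hyX hyN
    haveI := hab Q
    set H := Subgroup.centralizer (X : Set G)
    have hQH : (Q : Subgroup G) ≤ H :=
      (Subgroup.le_centralizer _).trans (Subgroup.centralizer_le hXQ)
    rw [← piPart_mul_piPart' {p} y]
    refine mul_mem (Subgroup.le_centralizer _ (sylow_le_of_mem (piPart_mem (π := {p}) (g := y) hyN)
      (exists_pow_of_isPiElem_singleton (isPiElem_piPart {p} y)))) ?_
    have hy2N := piPart'_mem (π := ({p} : Set ℕ)) (g := y) hyN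
    have hy2H : piPart' {p} y ∈ H := piPart'_mem (π := ({p} : Set ℕ)) (g := y) hyX
    have hcop : Nat.Coprime (orderOf (⟨_, hy2H⟩ : H)) p := by
      rw [Subgroup.orderOf_mk]
      exact (hp.out.coprime_iff_not_dvd.mpr (not_dvd_piPart' y)).symm
    have hmem := mem_centralizer_of_hasNormalPComplement (hcomp X hX hXp)
      (Q := (Q : Subgroup G).subgroupOf H) Q.2.comap_subtype (g := ⟨_, hy2H⟩)
      (Subgroup.mem_normalizer_iff.mpr fun q => by
        simp only [Subgroup.mem_subgroupOf, Subgroup.coe_mul, Subgroup.coe_inv]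
        exact Subgroup.mem_normalizer_iff.mp hy2N q) hcop
    rw [Subgroup.mem_centralizer_iff] at hmem ⊢
    exact fun q hq => congrArg Subtype.val (hmem ⟨q, hQH hq⟩ hq)
  set cP := Nat.card (Subgroup.centralizer ((P : Subgroup G) : Set G)) with hcP
  -- Sylow subgroups above a subgroup
  have above : ∀ X : Subgroup G, X ≠ ⊥ → IsPGroup p X →
      Nat.card (pResidual p (Subgroup.centralizer (X : Set G))) * p ^ n =
        cP * Nat.card {Q : Sylow p G // X ≤ (Q : Subgroup G)} := by
    intro X hX hXp
    set H := Subgroup.centralizer (X : Set G) with hH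
    obtain ⟨Q₀, hQ₀⟩ := hXp.exists_le_sylow
    have hQH : ∀ Q : Sylow p G, X ≤ (Q : Subgroup G) ↔ (Q : Subgroup G) ≤ H := by
      intro Q
      constructor
      · intro hXQ q hq
        rw [Subgroup.mem_centralizer_iff]
        exact fun x hx => commute_of_abelian_sylow hab Q.2 (hXQ hx) hq
      · intro hQH
        have hN' : X ≤ Subgroup.normalizer ((Q : Subgroup G) : Set G) :=
          le_trans (fun x hx => Subgroup.mem_centralizer_iff.mpr fun q hq =>
            (Subgroup.mem_centralizer_iff.mp (hQH hq) x hx).symm)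
            (Subgroup.centralizer_le_normalizer _)
        have := hXp.inf_normalizer_sylow Q
        exact inf_eq_left.mp (this.symm.trans (inf_eq_left.mpr hN'))
    have hQ₀H := (hQH Q₀).mp hQ₀
    have hst : Nat.card (MulAction.stabilizer H Q₀) = cP := by
      haveI := hab Q₀
      rw [hcP, ← card_centralizer_sylow P Q₀]
      refine Nat.card_congr
        { toFun := fun y => ⟨((y : H) : G), semi Q₀ X hX hXp hQ₀ _ (y : H).2
            (Sylow.smul_eq_iff_mem_normalizer.mp y.2)⟩
          invFun := fun c => ⟨⟨c, ?_⟩, ?_⟩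
          left_inv := fun y => rfl
          right_inv := fun c => rfl }
      · exact Subgroup.centralizer_le hQ₀ c.2
      · exact Sylow.smul_eq_iff_mem_normalizer.mpr (Subgroup.centralizer_le_normalizer _ c.2)
    have horb : Nat.card (MulAction.orbit H Q₀) =
        Nat.card {Q : Sylow p G // X ≤ (Q : Subgroup G)} := by
      refine Nat.card_congr (Equiv.subtypeEquivRight fun Q => ?_)
      constructor
      · rintro ⟨k, rfl⟩
        rw [hQH]
        intro q hq
        change q ∈ (((k : G) • Q₀ : Sylow p G) : Subgroup G) at hq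
        rw [Sylow.coe_subgroup_smul, Subgroup.mem_pointwise_smul_iff_inv_smul_mem] at hq
        have h1 := mul_mem (mul_mem k.2 (hQ₀H hq)) (inv_mem k.2)
        simpa [MulAut.smul_def, mul_assoc] using h1
      · intro hXQ
        obtain ⟨k, hk⟩ := MulAction.exists_smul_eq H (Q₀.subtype hQ₀H)
          (Q.subtype ((hQH Q).mp hXQ))
        refine ⟨k, ?_⟩
        rw [Sylow.smul_subtype] at hk
        exact Sylow.subtype_injective hk
    have hres : Nat.card (pResidual p H) * p ^ n = Nat.card H := by
      have hc := (isComplement'_pResidual (hcomp X hX hXp) (Q₀.subtype hQ₀H)).card_mul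
      rwa [Sylow.coe_subtype, Nat.card_congr (Subgroup.subgroupOfEquivOfLe hQ₀H).toEquiv,
        hPn Q₀] at hc
    rw [hres, ← Subgroup.card_mul_index (MulAction.stabilizer H Q₀),
      hst, MulAction.index_stabilizer, ← Nat.card_coe_set_eq, horb]
  -- double counting
  letI := Fintype.ofFinite G
  letI := Fintype.ofFinite (Sylow p G)
  have count : ∀ {ι : Type _} [Fintype ι] (X : ι → Subgroup G) (k : ℕ),
      (∀ i, X i ≠ ⊥ ∧ IsPGroup p (X i)) →
      (∀ Q : Sylow p G, Nat.card {i // X i ≤ (Q : Subgroup G)} ≤ k) →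
      (∑ i, Nat.card (pResidual p (Subgroup.centralizer (X i : Set G)))) * p ^ n ≤
        cP * (Nat.card (Sylow p G) * k) := by
    intro ι _ X k hX hk
    rw [Finset.sum_mul, Finset.sum_congr rfl fun i _ => above (X i) (hX i).1 (hX i).2,
      ← Finset.mul_sum]
    refine Nat.mul_le_mul_left _ ?_
    rw [← Nat.card_sigma]
    calc Nat.card (Σ i, {Q : Sylow p G // X i ≤ (Q : Subgroup G)})
        = Nat.card (Σ Q : Sylow p G, {i // X i ≤ (Q : Subgroup G)}) :=
          Nat.card_congr
            { toFun := fun a => ⟨a.2.1, a.1, a.2.2⟩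
              invFun := fun a => ⟨a.2.1, a.1, a.2.2⟩
              left_inv := fun a => rfl
              right_inv := fun a => rfl }
      _ ≤ _ := by
          rw [Nat.card_sigma]
          refine (Finset.sum_le_card_nsmul _ _ k fun Q _ => hk Q).trans ?_
          rw [Finset.card_univ, smul_eq_mul, Nat.card_eq_fintype_card]
  -- the two families
  let D := {d : G // d ≠ 1 ∧ ∃ j : ℕ, orderOf d = p ^ j}
  let T := {M : Subgroup G // Nat.card M = p ^ (n - 1)}
  letI : Fintype D := Fintype.ofFinite D
  letI : Fintype T := Fintype.ofFinite T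
  have hD := count (fun d : D => Subgroup.zpowers d.1) (p ^ n - 1)
    (fun d => ⟨by simpa using d.2.1, IsPGroup.of_card (n := d.2.2.choose)
      (by rw [Nat.card_zpowers]; exact d.2.2.choose_spec)⟩) (fun Q => by
    have hinj : Function.Injective (fun d : {d : D // Subgroup.zpowers d.1 ≤ (Q : Subgroup G)} =>
        (⟨⟨d.1.1, d.2 (Subgroup.mem_zpowers _)⟩, fun e => d.1.2.1 (congrArg Subtype.val e)⟩ :
          {x : (Q : Subgroup G) // x ≠ 1})) := by
      intro a b e
      exact Subtype.ext (Subtype.ext (congrArg (fun z => ((z.1 : (Q : Subgroup G)) : G)) e))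
    refine (Nat.card_le_card_of_injective _ hinj).trans ?_
    have e3 := Finite.card_option (α := {x : (Q : Subgroup G) // x ≠ 1})
    rw [Nat.card_congr (Equiv.optionSubtypeNe (1 : (Q : Subgroup G))), hPn Q] at e3
    omega)
  have hT := count (fun M : T => M.1) (p ^ n)
    (fun M => ⟨fun e => by
        have := M.2
        rw [e, Subgroup.card_bot] at this
        exact (Nat.one_lt_pow (by omega) hp.out.one_lt).ne this,
      IsPGroup.of_card M.2⟩) (fun Q => by
    haveI := hab Q
    letI : CommGroup (Q : Subgroup G) :=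
      { (inferInstance : Group (Q : Subgroup G)) with mul_comm := mul_comm' }
    have hbd := card_index_prime_le (p := p) (A := (Q : Subgroup G))
    rw [hPn Q] at hbd
    refine le_trans (Nat.card_le_card_of_injective
      (fun M : {M : T // M.1 ≤ (Q : Subgroup G)} =>
        (⟨M.1.1.subgroupOf (Q : Subgroup G), ?_⟩ :
          {K : Subgroup (Q : Subgroup G) // K.index = p})) ?_) hbd
    · have h1 := Subgroup.card_mul_index (M.1.1.subgroupOf (Q : Subgroup G))
      rw [Nat.card_congr (Subgroup.subgroupOfEquivOfLe M.2).toEquiv, M.1.2, hPn Q,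
        show p ^ n = p ^ (n - 1) * p by rw [← pow_succ]; congr 1; omega] at h1
      exact Nat.eq_of_mul_eq_mul_left (pow_pos hp.out.pos _) h1
    · intro a b e
      apply Subtype.ext
      apply Subtype.ext
      have := congrArg (fun K => Subgroup.map (Q : Subgroup G).subtype K.1) e
      simpa [Subgroup.map_subgroupOf_eq_of_le, a.2, b.2] using this)
  -- covering
  have cover : Nat.card G ≤
      (∑ d : D, Nat.card (pResidual p (Subgroup.centralizer (Subgroup.zpowers d.1 : Set G)))) +
      ∑ M : T, Nat.card (pResidual p (Subgroup.centralizer (M.1 : Set G))) := by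
    rw [← Nat.card_sigma, ← Nat.card_sigma, ← Nat.card_sum]
    refine Nat.card_le_card_of_surjective
      (Sum.elim (fun a => a.1.1 * (a.2.1 : G)) (fun a => (a.2.1 : G))) fun g => ?_
    have hb := not_dvd_piPart' (p := p) g
    have hcop : ∀ {H : Subgroup G} (hm : piPart' {p} g ∈ H),
        (⟨_, hm⟩ : H) ∈ pResidual p H := fun hm => by
      refine mem_pResidual_of_coprime ?_
      rw [Subgroup.orderOf_mk]
      exact (hp.out.coprime_iff_not_dvd.mpr hb).symm
    by_cases hd : piPart {p} g = 1
    · have hg : piPart' {p} g = g := by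
        conv_rhs => rw [← piPart_mul_piPart' {p} g, hd, one_mul]
      obtain ⟨T₀, hT₀, -, hT₀c⟩ := exists_sub_of_dvd (pow_pred_dvd_card (h (piPart' {p} g)))
      have hm : piPart' {p} g ∈ Subgroup.centralizer (T₀ : Set G) :=
        Subgroup.mem_centralizer_iff.mpr fun t ht => (mem_cent_iff.mp (hT₀ ht)).eq
      exact ⟨Sum.inr ⟨⟨T₀, hT₀c⟩, ⟨⟨piPart' {p} g, hm⟩, hcop hm⟩⟩, hg⟩
    · have hm : piPart' {p} g ∈
          Subgroup.centralizer (Subgroup.zpowers (piPart {p} g) : Set G) := by
        rw [Subgroup.mem_centralizer_iff]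
        intro t ht
        obtain ⟨i, rfl⟩ := Subgroup.mem_zpowers_iff.mp ht
        exact ((commute_piPart_piPart' {p} g).zpow_left i).eq
      exact ⟨Sum.inl ⟨⟨piPart {p} g, hd,
        exists_pow_of_isPiElem_singleton (isPiElem_piPart {p} g)⟩,
        ⟨⟨piPart' {p} g, hm⟩, hcop hm⟩⟩, piPart_mul_piPart' {p} g⟩
  have hN2 : 2 * cP ≤ Nat.card (Subgroup.normalizer ((P : Subgroup G) : Set G)) := by
    have hle := Subgroup.centralizer_le_normalizer ((P : Subgroup G) : Set G)
    obtain ⟨c, hc⟩ := Subgroup.card_dvd_of_le hle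
    rw [hc, mul_comm 2]
    refine Nat.mul_le_mul_left _ ?_
    rcases Nat.lt_or_ge c 2 with hlt | hge
    · exfalso
      refine hN (le_of_eq (Subgroup.eq_of_le_of_card_ge hle ?_).symm)
      rw [hc]
      interval_cases c <;> simp
    · exact hge
  have hG : Nat.card (Sylow p G) * Nat.card (Subgroup.normalizer ((P : Subgroup G) : Set G)) =
      Nat.card G := by
    rw [Sylow.card_eq_index_normalizer P, mul_comm]
    exact Subgroup.card_mul_index _
  have hpn : 0 < p ^ n := pow_pos hp.out.pos n
  have hS : 0 < cP * Nat.card (Sylow p G) := Nat.mul_pos Nat.card_pos Nat.card_pos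
  have h1 := Nat.mul_le_mul_right (p ^ n) cover
  rw [add_mul] at h1
  have h2 := (h1.trans (Nat.add_le_add hD hT))
  have h3 : 2 * (cP * Nat.card (Sylow p G)) * p ^ n ≤
      cP * Nat.card (Sylow p G) * (p ^ n - 1 + p ^ n) := by
    refine le_trans ?_ (le_of_le_of_eq h2 (by ring))
    refine Nat.mul_le_mul_right _ ?_
    rw [← hG, ← mul_assoc, mul_comm _ (Nat.card (Sylow p G))]
    exact Nat.mul_le_mul_left _ hN2
  rw [mul_comm 2, mul_assoc] at h3
  have := Nat.le_of_mul_le_mul_left h3 hS
  omega

theorem exists_max_sub_of_not_dvd {n : ℕ} {A : Type*} [Group A] (hA : Nat.card A = p ^ n) (hn : 0 < n)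
    {M : Subgroup A} (hM : Nat.card M = p ^ (n - 1)) : M.index = p := by
  have h1 := Subgroup.card_mul_index M
  rw [hA, hM, show p ^ n = p ^ (n - 1) * p by rw [← pow_succ]; congr 1; omega] at h1
  exact Nat.eq_of_mul_eq_mul_left (pow_pos hp.out.pos _) h1

universe u

theorem step (G : Type u) [Group G] [Finite G]
    (ih : ∀ (H : Type u) [Group H] [Finite H], Nat.card H < Nat.card G → PCoprime p H →
      ClassBd p H → HasNormalPComplement p H)
    (hc : PCoprime p G) (h : ClassBd p G) : HasNormalPComplement p G := by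
  classical
  by_contra hG
  have lt_of_ne_top : ∀ H : Subgroup G, H ≠ ⊤ → Nat.card H < Nat.card G := fun H hH => by
    rcases lt_or_ge (Nat.card H) (Nat.card G) with hlt | hge
    · exact hlt
    · exact absurd (Subgroup.eq_top_of_le_card _ hge) hH
  have lt_quot : ∀ (N : Subgroup G) [N.Normal], N ≠ ⊥ → Nat.card (G ⧸ N) < Nat.card G := by
    intro N _ hN
    rw [Subgroup.card_eq_card_quotient_mul_card_subgroup N]
    exact lt_mul_of_one_lt_right Nat.card_pos ((Subgroup.one_lt_card_iff_ne_bot N).mpr hN)
  -- proper normal subgroups are `p`-groups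
  have hNp : ∀ (N : Subgroup G) [N.Normal], N ≠ ⊤ → IsPGroup p N := by
    intro N _ hN
    have hcompN := ih N (lt_of_ne_top N hN) (hc.subgroup N) (h.normal N)
    set K := (pResidual p N).map N.subtype with hK
    haveI : K.Normal := inferInstance
    by_cases hK1 : K = ⊥
    · have hres : pResidual p N = ⊥ :=
        (Subgroup.map_eq_bot_iff_of_injective _ N.subtype_injective).mp hK1
      exact ((isPGroup_quotient_pResidual (p := p) (G := N)).of_equiv
        ((QuotientGroup.quotientMulEquivOfEq hres).trans QuotientGroup.quotientBot))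
    · exfalso
      refine hG (PComplement.hasNormalPComplement_of_quotient (N := K) ?_
        (ih _ (lt_quot K hK1) (hc.quotient K) (h.quotient K)))
      rw [hK, Subgroup.card_map_of_injective N.subtype_injective]
      exact (hp.out.coprime_iff_not_dvd.mpr (hasNormalPComplement_iff_not_dvd.mp hcompN)).symm
  -- a nontrivial normal `p`-subgroup is a Sylow subgroup
  have hSyl : ∀ (N : Subgroup G) [N.Normal], N ≠ ⊥ → IsPGroup p N →
      ∀ P : Sylow p G, (P : Subgroup G) ≤ N := by
    intro N _ hN hNP P
    have hcq := ih _ (lt_quot N hN) (hc.quotient N) (h.quotient N)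
    have hL : pResidual p (G ⧸ N) = ⊤ := by
      by_contra hL
      set L := (pResidual p (G ⧸ N)).comap (QuotientGroup.mk' N) with hLdef
      have hLne : L ≠ ⊤ := fun e => hL (by
        have := congrArg (Subgroup.map (QuotientGroup.mk' N)) e
        rwa [hLdef, Subgroup.map_comap_eq_self_of_surjective (QuotientGroup.mk'_surjective N),
          Subgroup.map_top_of_surjective _ (QuotientGroup.mk'_surjective N)] at this)
      obtain ⟨k, hk⟩ := exists_index_pResidual (p := p) (G := G ⧸ N)
      obtain ⟨j, hj⟩ := IsPGroup.iff_card.mp (hNp L hLne)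
      refine hG (hasNormalPComplement_of_isPGroup (IsPGroup.of_card (n := j + k) ?_))
      rw [← Subgroup.card_mul_index L, hj, hLdef,
        Subgroup.index_comap_of_surjective _ (QuotientGroup.mk'_surjective N), hk, pow_add]
    have hnd : ¬ p ∣ N.index := by
      have := hasNormalPComplement_iff_not_dvd.mp hcq
      rwa [hL, Subgroup.card_top, ← Subgroup.index_eq_card] at this
    intro x hx
    rw [← QuotientGroup.eq_one_iff, ← orderOf_eq_one_iff]
    obtain ⟨k, hk⟩ := orderOf_eq_prime_pow_of_mem P.2 hx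
    refine Nat.eq_one_of_dvd_coprimes
      (((hp.out.coprime_iff_not_dvd.mpr hnd).pow_left k).symm)
      (Subgroup.index_eq_card N ▸ orderOf_dvd_natCard _)
      (hk ▸ orderOf_map_dvd (QuotientGroup.mk' N) x)
  -- no central `p`-subgroup
  have hZ : ∀ z : G, (∃ k : ℕ, orderOf z = p ^ k) → z ∈ Subgroup.center G → z = 1 := by
    intro z hz hzc
    by_contra hz1
    haveI : (Subgroup.zpowers z).Normal := ⟨fun a ha g => by
      obtain ⟨i, rfl⟩ := Subgroup.mem_zpowers_iff.mp ha
      have := Subgroup.mem_center_iff.mp (Subgroup.zpow_mem _ hzc i) g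
      rw [this, mul_inv_cancel_right]
      exact ha⟩
    obtain ⟨k, hk⟩ := hz
    have hne : Subgroup.zpowers z ≠ ⊥ := by simpa using hz1
    obtain ⟨P⟩ := (inferInstance : Nonempty (Sylow p G))
    have hle := hSyl _ hne (IsPGroup.of_card (n := k) (by rw [Nat.card_zpowers, hk])) P
    refine hG (hasNormalPComplement_of_normalizer_centralizer P fun Q hQ _ g _ _ => ?_)
    rw [Subgroup.mem_centralizer_iff]
    intro q hq
    obtain ⟨i, rfl⟩ := Subgroup.mem_zpowers_iff.mp (hle (hQ hq))
    exact ((Subgroup.mem_center_iff.mp (Subgroup.zpow_mem _ hzc i)) g).symm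
  obtain ⟨P⟩ := (inferInstance : Nonempty (Sylow p G))
  set n := (Nat.card G).factorization p with hndef
  have hPn : Nat.card (P : Subgroup G) = p ^ n := P.card_eq_multiplicity
  have hpG : p ∣ Nat.card G := by
    by_contra hnd; exact hG (hasNormalPComplement_of_not_dvd hnd)
  have hn : 0 < n := hp.out.factorization_pos_of_dvd Nat.card_pos.ne' hpG
  -- no central element of `P` lies in all subgroups of index `p`
  have hJ : ∀ z : (P : Subgroup G), z ∈ Subgroup.center (P : Subgroup G) →
      (∀ M : Subgroup (P : Subgroup G), M.index = p → z ∈ M) → z = 1 := by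
    intro z hzc hzM
    by_contra hz1
    have htop : Subgroup.centralizer ({(z : G)} : Set G) = ⊤ := by
      refine eq_top_of_conjugates_cover _ fun x => ?_
      obtain ⟨T, hTC, hTp, hTc⟩ := exists_sub_of_dvd (pow_pred_dvd_card (h x))
      obtain ⟨c, hc'⟩ := exists_conj_le hTp P
      refine ⟨c, mem_cent_iff.mpr ?_⟩
      have hle : T.map (MulAut.conj c).toMonoidHom ≤ (P : Subgroup G) := by
        rintro _ ⟨t, ht, rfl⟩
        exact hc' t ht
      have hcard : Nat.card ((T.map (MulAut.conj c).toMonoidHom).subgroupOf (P : Subgroup G)) =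
          p ^ (n - 1) := by
        rw [Nat.card_congr (Subgroup.subgroupOfEquivOfLe hle).toEquiv,
          Subgroup.card_map_of_injective (MulAut.conj c).injective, hTc]
      obtain ⟨t, ht, htz⟩ := hzM _ (exists_max_sub_of_not_dvd hPn hn hcard)
      have h1 : Commute t x := mem_cent_iff.mp (hTC ht)
      have h2 := (h1.map (MulAut.conj c).toMonoidHom).symm
      rw [show (MulAut.conj c).toMonoidHom t = (z : G) from htz] at h2
      exact h2
    refine hz1 (Subtype.ext (hZ _ (orderOf_eq_prime_pow_of_mem P.2 z.2) ?_))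
    rw [Subgroup.mem_center_iff]
    exact fun g => (mem_cent_iff.mp (htop ▸ Subgroup.mem_top g)).eq
  have hMn : ∀ M : Subgroup (P : Subgroup G), M.index = p → M.Normal := by
    intro M hM
    refine Subgroup.normal_of_index_eq_minFac_card ?_
    rw [hPn, Nat.pow_minFac hn.ne', hp.out.minFac_eq, hM]
  set J := ⨅ M : {M : Subgroup (P : Subgroup G) // M.index = p}, M.1 with hJdef
  haveI : J.Normal := Subgroup.normal_iInf_normal fun M => hMn M.1 M.2
  have hJbot : J = ⊥ := by
    by_contra hJne
    obtain ⟨⟨z, hz⟩, hz0⟩ := Subgroup.ne_bot_iff_exists_ne_one.mp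
      (PGroup.inf_center_ne_bot P.2 hJne)
    have hz1 : z ≠ 1 := fun e => hz0 (Subtype.ext e)
    exact hz1 (hJ z hz.2 fun M hM => by
      have := Subgroup.mem_iInf.mp (hJdef ▸ hz.1) ⟨M, hM⟩
      exact this)
  haveI hPab : IsMulCommutative (P : Subgroup G) := by
    refine ⟨⟨fun a b => commutatorElement_eq_one_iff_mul_comm.mp ?_⟩⟩
    rw [← Subgroup.mem_bot, ← hJbot, hJdef, Subgroup.mem_iInf]
    rintro ⟨M, hM⟩
    haveI := hMn M hM
    haveI : IsCyclic ((P : Subgroup G) ⧸ M) :=
      isCyclic_of_prime_card (Subgroup.index_eq_card M ▸ hM)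
    letI := IsCyclic.commGroup (α := (P : Subgroup G) ⧸ M)
    refine (QuotientGroup.eq_one_iff _).mp ?_
    exact (map_commutatorElement (QuotientGroup.mk' M) a b).trans
      (commutatorElement_eq_one_iff_mul_comm.mpr (mul_comm _ _))
  have hN : ¬ Subgroup.normalizer ((P : Subgroup G) : Set G) ≤
      Subgroup.centralizer ((P : Subgroup G) : Set G) := fun hle =>
    hG ⟨P, (MonoidHom.transferSylow P hle).ker, inferInstance,
      MonoidHom.ker_transferSylow_isComplement' P hle⟩
  have hn2 : 2 ≤ n := by
    by_contra hlt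
    have h1 : n = 1 := by omega
    rw [h1, pow_one] at hPn
    exact hN fun y hy => mem_centralizer_of_card_prime hc hPn hy
  refine false_of_counting P h hn2 (fun X hX hXp => ?_) hN
  obtain ⟨⟨d, hd⟩, hd1⟩ := Subgroup.ne_bot_iff_exists_ne_one.mp hX
  have hd1' : d ≠ 1 := fun e => hd1 (Subtype.ext e)
  have hdp := orderOf_eq_prime_pow_of_mem hXp hd
  have hle : Subgroup.centralizer (X : Set G) ≤ Subgroup.centralizer ({d} : Set G) :=
    Subgroup.centralizer_le (by simpa using hd)
  refine hasNormalPComplement_mono hle (ih _ (lt_of_ne_top _ fun e => ?_) (hc.subgroup _)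
    (classBd_centralizer (isMulCommutative_sylow P) h hdp))
  refine hd1' (hZ d hdp ?_)
  rw [Subgroup.mem_center_iff]
  exact fun g => (mem_cent_iff.mp (e ▸ Subgroup.mem_top g)).eq

/-- **Cossey–Wang**: a normal `p`-complement from class sizes not divisible by `p²`. -/
theorem hasNormalPComplement_of_classBd (G : Type u) [Group G] [Finite G] (hc : PCoprime p G)
    (h : ClassBd p G) : HasNormalPComplement p G := by
  suffices H : ∀ (m : ℕ) (G : Type u) [Group G] [Finite G], Nat.card G = m → PCoprime p G →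
      ClassBd p G → HasNormalPComplement p G from H _ G rfl hc h
  intro m
  induction m using Nat.strong_induction_on with
  | _ m ih =>
    intro G _ _ hm hc h
    exact step G (fun H _ _ hlt => ih _ (hm ▸ hlt) H rfl) hc h

omit [Fact p.Prime] in
theorem pCoprime_of_smallest (hmin : ∀ r : ℕ, r.Prime → r ∣ Nat.card G → p ≤ r) (hp1 : 2 ≤ p) :
    PCoprime p G := fun q hq hd hdp => by
  have h1 := Nat.le_of_dvd (by omega) hdp
  have h2 := hmin q hq hd
  omega

end Cfsg.Agent.FG78.CW
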