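import Cfsg.Agent.Lib.OddOrderGlue.Basic
import Cfsg.Agent.FG78.CosseyWang
import Cfsg.Agent.H40.SimpleFusion

set_option autoImplicit false

/-!
A finite group in which no class size is divisible by four is solvable, given the odd order
theorem: in a simple group every element centralizes a subgroup of index at most two of a Sylow
2-subgroup, which contains a conjugate of any given involution by Thompson transfer, so the
conjugates of one involution centralizer would cover the group.
-/

namespace Cfsg.Agent.FG78

universe u

/-- No non-abelian simple group of even order has all class sizes prime to four. -/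
theorem simple_false_of_class_not_dvd_four {G : Type u} [Group G] [Finite G] [IsSimpleGroup G]
    (hnc : ¬ IsMulCommutative G) (h2 : 2 ∣ Nat.card G)
    (h : ∀ x : G, ¬ 4 ∣ (Subgroup.centralizer ({x} : Set G)).index) : False := by
  classical
  haveI : Fact (Nat.Prime 2) := ⟨Nat.prime_two⟩
  obtain ⟨t, ht⟩ := exists_prime_orderOf_dvd_card' 2 h2
  refine absurd (H40.center_eq_bot_of_simple hnc) (Subgroup.ne_bot_iff_exists_ne_one.mpr ?_)
  have ht1 : t ≠ 1 := fun e => by rw [e, orderOf_one] at ht; omega
  have hW : Subgroup.centralizer ({t} : Set G) = ⊤ := by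
    refine eq_top_of_conjugates_cover _ fun g => ?_
    set C := Subgroup.centralizer ({g} : Set G)
    obtain ⟨P⟩ := (inferInstance : Nonempty (Sylow 2 C))
    obtain ⟨T, hT⟩ := (P.2.map C.subtype).exists_le_sylow
    set B : Subgroup ↥(T : Subgroup G) :=
      ((P : Subgroup C).map C.subtype).subgroupOf (T : Subgroup G) with hB
    -- the index of `B` in `T` is at most two
    have hdvd : B.index ∣ ((P : Subgroup C).map C.subtype).index :=
      Subgroup.relIndex_dvd_index_of_le hT
    rw [Subgroup.index_map_subtype] at hdvd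
    obtain ⟨k, hk⟩ : ∃ k, B.index = 2 ^ k := IsPGroup.index T.2 B
    have hle : B.index ∣ 2 := by
      rw [hk] at hdvd ⊢
      have hco : Nat.Coprime (2 ^ k) (P : Subgroup C).index :=
        (Nat.Prime.coprime_iff_not_dvd Nat.prime_two).mpr P.not_dvd_index |>.pow_left k
      have hd : 2 ^ k ∣ C.index := hco.dvd_of_dvd_mul_left hdvd
      refine Nat.pow_dvd_pow 2 (?_ : k ≤ 1) |>.trans (by norm_num)
      by_contra hk2
      exact h g ((Nat.pow_dvd_pow 2 (by omega : 2 ≤ k)).trans hd)
    have key : ∃ a : G, a * t * a⁻¹ ∈ C := by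
      rcases (Nat.dvd_prime Nat.prime_two).mp hle with h1 | h1
      · obtain ⟨T', hT'⟩ : ∃ T' : Sylow 2 G, Subgroup.zpowers t ≤ T' := by
          refine IsPGroup.exists_le_sylow (IsPGroup.of_card (n := 1) ?_)
          rw [Nat.card_zpowers, ht, pow_one]
        obtain ⟨a, ha⟩ := MulAction.exists_smul_eq G T' T
        have hmem : a * t * a⁻¹ ∈ (T : Subgroup G) := by
          rw [← ha, Sylow.coe_subgroup_smul]
          exact Subgroup.smul_mem_pointwise_smul _ (MulAut.conj a) _
            (hT' (Subgroup.mem_zpowers t))
        have hB' : (⟨a * t * a⁻¹, hmem⟩ : ↥(T : Subgroup G)) ∈ B := by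
          rw [Subgroup.index_eq_one.mp h1]; trivial
        exact ⟨a, Subgroup.map_subtype_le _ hB'⟩
      · obtain ⟨a, haT, haB⟩ := H40.exists_conj_mem hnc T B h1 ht
        exact ⟨a, Subgroup.map_subtype_le _ haB⟩
    obtain ⟨a, ha⟩ := key
    refine ⟨a⁻¹, mem_cent_iff.mpr ?_⟩
    have := (mem_cent_iff.mp ha).symm.map (MulAut.conj a⁻¹).toMonoidHom
    simpa [mul_assoc] using this
  refine ⟨⟨t, Subgroup.mem_center_iff.mpr fun y => ?_⟩, fun e => ht1 (congrArg Subtype.val e)⟩
  exact (mem_cent_iff.mp (hW ▸ Subgroup.mem_top y)).eq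

theorem isSolvable_of_class_not_dvd_four_aux (hFT : OddOrderGlue.FeitThompson.{u}) :
    ∀ (n : ℕ) (G : Type u) [Group G] [Finite G], Nat.card G = n →
      (∀ x : G, ¬ 4 ∣ (Subgroup.centralizer ({x} : Set G)).index) → Group.IsSolvable G := by
  intro n
  induction n using Nat.strong_induction_on with
  | _ n ih =>
    intro G _ _ hn h
    by_cases hcomm : IsMulCommutative G
    · exact Group.isSolvable_of_comm fun a b => hcomm.is_comm.comm a b
    by_cases hsimple : IsSimpleGroup G
    · rcases Nat.even_or_odd (Nat.card G) with he | ho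
      · exact (simple_false_of_class_not_dvd_four hcomm he.two_dvd h).elim
      · exact hFT G ho
    · haveI : Nontrivial G := by
        by_contra hnt
        rw [not_nontrivial_iff_subsingleton] at hnt
        exact hcomm ⟨⟨fun a b => Subsingleton.elim _ _⟩⟩
      obtain ⟨N, hN, hN1, hN2⟩ : ∃ N : Subgroup G, N.Normal ∧ N ≠ ⊥ ∧ N ≠ ⊤ := by
        by_contra hall
        push Not at hall
        exact hsimple { eq_bot_or_eq_top_of_normal := fun N hN =>
          or_iff_not_imp_left.2 (hall N hN) }
      haveI := hN
      haveI : Group.IsSolvable N := ih _ (hn ▸ lt_of_le_of_ne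
          (Nat.le_of_dvd Nat.card_pos (Subgroup.card_subgroup_dvd_card N))
          fun he => hN2 (Subgroup.eq_top_of_card_eq N he)) N rfl
        fun x hx => h x (hx.trans (CW.index_centralizer_normal_dvd N x))
      haveI : Group.IsSolvable (G ⧸ N) := ih _ (by
          rw [← hn, Subgroup.card_eq_card_quotient_mul_card_subgroup N]
          exact lt_mul_right Nat.card_pos ((Subgroup.one_lt_card_iff_ne_bot N).2 hN1))
        (G ⧸ N) rfl (fun y hy => by
          obtain ⟨x, rfl⟩ := QuotientGroup.mk_surjective y
          exact h x (hy.trans (CW.index_centralizer_quotient_dvd N x)))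
      exact Group.isSolvable_of_ker_le_range N.subtype (QuotientGroup.mk' N)
        (by rw [QuotientGroup.ker_mk', Subgroup.range_subtype])

/-- A finite group in which no class size is divisible by four is solvable (modulo the odd order
theorem). -/
theorem isSolvable_of_class_not_dvd_four (hFT : OddOrderGlue.FeitThompson.{u}) {G : Type u}
    [Group G] [Finite G] (h : ∀ x : G, ¬ 4 ∣ (Subgroup.centralizer ({x} : Set G)).index) :
    Group.IsSolvable G :=
  isSolvable_of_class_not_dvd_four_aux hFT _ G rfl h

end Cfsg.Agent.FG78
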