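import Cfsg.Agent.S0016
import Cfsg.Agent.S0215
import Cfsg.Agent.Lib.PGroup.NormalAbelian
import Cfsg.Prelude.Def_Transfer
import Mathlib.GroupTheory.SpecificGroups.Quaternion

set_option autoImplicit false

/-!
Groups in which `p`-subgroups of the same order are conjugate: the Sylow subgroups are cyclic,
elementary abelian or quaternion of order eight.  The extraspecial group of order `p ^ 3` is
excluded with the Z*-theorem applied to an element of order four of `N(E)`, `E` of order `p ^ 2`.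
-/

namespace Cfsg.Agent.FG78.ConjPSub

open scoped commutatorElement

variable {G : Type*} [Group G] [Finite G]

/-- Any two `p`-subgroups of the same order are conjugate. -/
def SameOrderConj (G : Type*) [Group G] : Prop :=
  ∀ p : ℕ, p.Prime → ∀ H K : Subgroup G, IsPGroup p H → IsPGroup p K → Nat.card H = Nat.card K →
    ∃ g : G, K = H.map (MulAut.conj g).toMonoidHom

/-- The alternatives for a Sylow subgroup. -/
theorem unique_or_exponent (hD : SameOrderConj G) {p : ℕ} [hp : Fact p.Prime] (P : Sylow p G) :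
    (∀ H K : Subgroup ↥(P : Subgroup G), Nat.card H = p → Nat.card K = p → H = K) ∨
      ∀ x ∈ (P : Subgroup G), x ^ p = 1 := by
  classical
  by_cases hu : ∀ H K : Subgroup ↥(P : Subgroup G), Nat.card H = p → Nat.card K = p → H = K
  · exact Or.inl hu
  right
  push Not at hu
  obtain ⟨H, K, hH, hK, hne⟩ := hu
  haveI : Nontrivial ↥(P : Subgroup G) := by
    by_contra h
    rw [not_nontrivial_iff_subsingleton] at h
    haveI := h
    exact hne (Subsingleton.elim H K)
  -- a central subgroup of order `p` and a second one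
  haveI := P.2.center_nontrivial
  obtain ⟨c, hc⟩ := exists_prime_orderOf_dvd_card' (G := Subgroup.center ↥(P : Subgroup G)) p (by
    rcases (P.2.to_subgroup (Subgroup.center ↥(P : Subgroup G))).card_eq_or_dvd with h | h
    · exact absurd h Finite.one_lt_card.ne'
    · exact h)
  set Z := Subgroup.zpowers (c : ↥(P : Subgroup G)) with hZ
  have hZc : Nat.card Z = p := by rw [Nat.card_zpowers, Subgroup.orderOf_coe, hc]
  have hexp : ∀ L : Subgroup ↥(P : Subgroup G), Nat.card L = p → L ≠ Z →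
      Nat.card ↥(Z ⊔ L) = p ^ 2 ∧ ∀ w ∈ Z ⊔ L, w ^ p = 1 := by
    intro L hL hLZ
    have hdisj : Disjoint Z L := by
      rw [disjoint_iff]
      by_contra h
      have hd := Subgroup.card_dvd_of_le (inf_le_left : Z ⊓ L ≤ Z)
      rw [hZc] at hd
      rcases (Nat.dvd_prime hp.out).mp hd with h1 | h1
      · exact h (Subgroup.card_eq_one.mp h1)
      · exact hLZ ((Subgroup.eq_of_le_of_card_ge inf_le_right (hL.trans h1.symm).le).symm.trans
          (Subgroup.eq_of_le_of_card_ge inf_le_left (hZc.trans h1.symm).le))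
    have hcent : ∀ z ∈ Z, ∀ w : ↥(P : Subgroup G), z * w = w * z := fun z hz w =>
      (Subgroup.mem_center_iff.mp ((Subgroup.zpowers_le.mpr c.2) hz) w).symm
    haveI : Z.Normal := ⟨fun z hz w => by rwa [← hcent z hz w, mul_inv_cancel_right]⟩
    have hmem : ∀ w ∈ Z ⊔ L, ∃ z ∈ Z, ∃ l ∈ L, z * l = w := fun w hw => by
      have hw' : w ∈ ((Z ⊔ L : Subgroup ↥(P : Subgroup G)) : Set ↥(P : Subgroup G)) := hw
      rwa [Subgroup.normal_mul, Set.mem_mul] at hw'
    constructor
    · rw [sq]
      conv_rhs => rw [← hZc]; arg 2; rw [hZc, ← hL]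
      rw [← Nat.card_prod]
      refine (Nat.card_eq_of_bijective (fun zl : Z × L =>
        (⟨(zl.1 : ↥(P : Subgroup G)) * zl.2, Subgroup.mul_mem_sup zl.1.2 zl.2.2⟩ : ↥(Z ⊔ L)))
        ⟨?_, ?_⟩).symm
      · intro a b he
        exact Subgroup.mul_injective_of_disjoint hdisj
          (show (a.1 : ↥(P : Subgroup G)) * a.2 = b.1 * b.2 from congrArg Subtype.val he)
      · rintro ⟨w, hw⟩
        obtain ⟨z, hz, l, hl, rfl⟩ := hmem w hw
        exact ⟨(⟨z, hz⟩, ⟨l, hl⟩), rfl⟩
    · intro w hw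
      obtain ⟨z, hz, l, hl, rfl⟩ := hmem w hw
      rw [(show Commute z l from hcent z hz l).mul_pow,
        orderOf_dvd_iff_pow_eq_one.mp ((Subgroup.orderOf_dvd_natCard Z hz).trans hZc.dvd),
        orderOf_dvd_iff_pow_eq_one.mp ((Subgroup.orderOf_dvd_natCard L hl).trans hL.dvd), one_mul]
  obtain ⟨L, hL, hLZ⟩ : ∃ L : Subgroup ↥(P : Subgroup G), Nat.card L = p ∧ L ≠ Z := by
    by_cases h : H = Z
    · exact ⟨K, hK, fun h' => hne (h.trans h'.symm)⟩
    · exact ⟨H, hH, h⟩
  obtain ⟨hEc, hEx⟩ := hexp L hL hLZ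
  intro x hx
  by_contra hxp
  obtain ⟨k, hk⟩ := P.2 ⟨x, hx⟩
  have hxk : x ^ p ^ k = 1 := by simpa using congrArg Subtype.val hk
  obtain ⟨m, -, hm⟩ := (Nat.dvd_prime_pow hp.out).mp (orderOf_dvd_of_pow_eq_one hxk)
  have hm2 : 2 ≤ m := by
    by_contra hlt
    apply hxp
    rw [← orderOf_dvd_iff_pow_eq_one, hm]
    calc p ^ m ∣ p ^ 1 := Nat.pow_dvd_pow p (by omega)
      _ = p := pow_one p
  set w := x ^ p ^ (m - 2) with hw
  have hwo : orderOf w = p ^ 2 := by
    rw [hw, orderOf_pow_of_dvd (pow_ne_zero _ hp.out.ne_zero) (hm ▸ Nat.pow_dvd_pow p (by omega)), hm,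
      Nat.pow_div (by omega) hp.out.pos]
    congr 1; omega
  obtain ⟨g, hg⟩ := hD p hp.out (Subgroup.zpowers w) ((Z ⊔ L).map (P : Subgroup G).subtype)
    (IsPGroup.of_card (n := 2) (by rw [Nat.card_zpowers, hwo])) ((P.2.to_subgroup _).map _)
    (by rw [Nat.card_zpowers, hwo, Subgroup.card_map_of_injective (Subgroup.subtype_injective _),
      hEc])
  obtain ⟨v, hv, hv'⟩ : g * w * g⁻¹ ∈ (Z ⊔ L).map (P : Subgroup G).subtype :=
    hg ▸ ⟨w, Subgroup.mem_zpowers w, rfl⟩
  have h1 : (g * w * g⁻¹) ^ p = 1 := by rw [← hv', ← map_pow, hEx v hv, map_one]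
  rw [conj_pow, conj_eq_one_iff, ← orderOf_dvd_iff_pow_eq_one, hwo] at h1
  have := Nat.le_of_dvd hp.out.pos h1
  nlinarith [hp.out.two_le]

/-- In a quaternion group of order at least sixteen some element of order four lies in no cyclic
subgroup of order eight. -/
theorem no_cyclic_eight {n : ℕ} [NeZero n] (g : QuaternionGroup n) (hg : orderOf g = 8) :
    ¬ Commute g (QuaternionGroup.xa 0) := by
  rcases g with i | i
  · intro h
    have h1 : QuaternionGroup.a i * QuaternionGroup.xa 0 = QuaternionGroup.xa 0 * QuaternionGroup.a i :=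
      h
    rw [QuaternionGroup.a_mul_xa, QuaternionGroup.xa_mul_a] at h1
    have h2 : (0 : ZMod (2 * n)) - i = 0 + i := by injection h1
    have h3 : (QuaternionGroup.a i : QuaternionGroup n) ^ 2 = 1 := by
      rw [sq, QuaternionGroup.a_mul_a, ← QuaternionGroup.a_zero]
      congr 1
      calc i + i = (0 + i) - (0 - i) := by abel
        _ = 0 := by rw [h2, sub_self]
    have := Nat.le_of_dvd two_pos (orderOf_dvd_of_pow_eq_one h3)
    omega
  · rw [QuaternionGroup.orderOf_xa] at hg
    omega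

/-- A quaternion Sylow 2-subgroup has order eight. -/
theorem quaternion_eight (hD : SameOrderConj G) (P : Sylow 2 G) (n : ℕ) (hn : 2 ≤ n)
    (f : ↥(P : Subgroup G) ≃* QuaternionGroup (2 ^ n)) : False := by
  classical
  haveI : Fact (Nat.Prime 2) := ⟨Nat.prime_two⟩
  set x := f.symm (QuaternionGroup.xa 0) with hx
  have hxo : orderOf x = 4 := by
    rw [hx, MulEquiv.orderOf_eq, QuaternionGroup.orderOf_xa]
  set y := f.symm ((QuaternionGroup.a 1 : QuaternionGroup (2 ^ n)) ^ 2 ^ (n - 2)) with hy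
  have hyo : orderOf y = 8 := by
    rw [hy, MulEquiv.orderOf_eq, orderOf_pow_of_dvd (by positivity), QuaternionGroup.orderOf_a_one]
    · rw [show 2 * 2 ^ n = 2 ^ (n + 1) by rw [pow_succ, mul_comm], Nat.pow_div (by omega) two_pos,
        show n + 1 - (n - 2) = 3 by omega]
      norm_num
    · rw [QuaternionGroup.orderOf_a_one]
      exact (Nat.pow_dvd_pow 2 (Nat.sub_le n 2)).trans (Dvd.intro_left 2 rfl)
  have hd : 2 ^ 3 ∣ Nat.card ↥(P : Subgroup G) := by
    rw [show (2 : ℕ) ^ 3 = 8 by norm_num, ← hyo]; exact orderOf_dvd_natCard y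
  obtain ⟨S, hS, hxS⟩ := Sylow.exists_subgroup_card_pow_prime_le (p := 2) (n := 2) (m := 3) hd
    (Subgroup.zpowers x) (by rw [Nat.card_zpowers, hxo]; norm_num) (by norm_num)
  obtain ⟨g, hg⟩ := hD 2 Nat.prime_two ((Subgroup.zpowers y).map (P : Subgroup G).subtype)
    (S.map (P : Subgroup G).subtype) ((P.2.to_subgroup _).map _) ((P.2.to_subgroup _).map _)
    (by rw [Subgroup.card_map_of_injective (Subgroup.subtype_injective _),
      Subgroup.card_map_of_injective (Subgroup.subtype_injective _), Nat.card_zpowers, hyo, hS]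
        norm_num)
  have hyS : g * (y : G) * g⁻¹ ∈ S.map (P : Subgroup G).subtype :=
    hg ▸ ⟨(y : G), ⟨y, Subgroup.mem_zpowers y, rfl⟩, rfl⟩
  obtain ⟨y', -, hy'⟩ := hyS
  have hy'o : orderOf y' = 8 := by
    rw [← Subgroup.orderOf_coe, show ((y' : ↥(P : Subgroup G)) : G) = g * (y : G) * g⁻¹ from hy',
      ← MulAut.conj_apply, MulEquiv.orderOf_eq, Subgroup.orderOf_coe, hyo]
  have hxm : (x : G) ∈ S.map (P : Subgroup G).subtype :=
    ⟨x, hxS (Subgroup.mem_zpowers x), rfl⟩
  rw [hg] at hxm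
  obtain ⟨b, ⟨b', hb', rfl⟩, hb⟩ := hxm
  obtain ⟨j, rfl⟩ := Subgroup.mem_zpowers_iff.mp hb'
  refine no_cyclic_eight (f y') (by rw [MulEquiv.orderOf_eq, hy'o]) ?_
  have hcomm : Commute y' x := by
    refine Subtype.ext ?_
    show (y' : G) * (x : G) = (x : G) * (y' : G)
    rw [show ((y' : ↥(P : Subgroup G)) : G) = g * (y : G) * g⁻¹ from hy', ← hb]
    have h := ((Commute.refl (y : G)).zpow_right j).map (MulAut.conj g).toMonoidHom
    simpa using h.eq
  have h := hcomm.map f.toMonoidHom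
  simpa [hx] using h

/-- Nonabelian of exponent `p`: the order is `p ^ 3`. -/
theorem card_eq_cube (hD : SameOrderConj G) {p : ℕ} [hp : Fact p.Prime] (P : Sylow p G)
    (hexp : ∀ x ∈ (P : Subgroup G), x ^ p = 1)
    (hna : ¬ IsMulCommutative ↥(P : Subgroup G)) : Nat.card ↥(P : Subgroup G) = p ^ 3 := by
  classical
  have hp' : IsPGroup p ↥(P : Subgroup G) := P.2
  obtain ⟨k, hk⟩ := hp'.exists_card_eq
  have hk3 : 3 ≤ k := by
    by_contra h
    apply hna
    interval_cases k
    · haveI : Subsingleton ↥(P : Subgroup G) := (Nat.card_eq_one_iff_unique.mp (by simpa using hk)).1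
      exact ⟨⟨fun a b => Subsingleton.elim _ _⟩⟩
    · haveI := isCyclic_of_prime_card (α := ↥(P : Subgroup G)) (p := p) (by simpa using hk)
      exact IsCyclic.isMulCommutative
    · exact IsPGroup.isMulCommutative_of_card_eq_prime_sq hk
  obtain ⟨A, hAn, hAc, hAcen⟩ := PGroup.exists_selfCentralizing_normal_abelian hp'
  haveI := hAn
  haveI := hAc
  obtain ⟨a, ha⟩ := (hp'.to_subgroup A).exists_card_eq
  have hidx := PGroup.index_centralizer_le hp' a A ha
  rw [hAcen] at hidx
  have hprod : Nat.card A * A.index = p ^ k := by rw [Subgroup.card_mul_index, hk]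
  have ha2 : a ≤ 2 := by
    by_contra ha3
    -- a nonabelian subgroup of order `p ^ 3`
    have hne : ¬ (⊤ : Subgroup ↥(P : Subgroup G)) ≤ Subgroup.center ↥(P : Subgroup G) := fun h =>
      hna ⟨⟨fun u v => Subgroup.mem_center_iff.mp (h (Subgroup.mem_top v)) u⟩⟩
    obtain ⟨x, -, hxZ, -, hxc, -, -⟩ :=
      PGroup.exists_normal_between hp' (A := Subgroup.center ↥(P : Subgroup G)) hne
    obtain ⟨y, hy⟩ : ∃ y, y * x ≠ x * y := by
      by_contra h
      push Not at h
      exact hxZ (Subgroup.mem_center_iff.mpr h)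
    set c := y * x * y⁻¹ * x⁻¹ with hc
    have hcZ : c ∈ Subgroup.center ↥(P : Subgroup G) := by
      have := hxc y
      rwa [commutatorElement_def] at this
    have hc' : ∀ u, u * c = c * u := fun u => Subgroup.mem_center_iff.mp hcZ u
    have hpow : ∀ u : ↥(P : Subgroup G), Nat.card (Subgroup.zpowers u) ≤ p := fun u => by
      rw [Nat.card_zpowers]
      exact Nat.le_of_dvd hp.out.pos (orderOf_dvd_of_pow_eq_one (Subtype.ext (hexp u u.2)))
    set K1 := Subgroup.zpowers c ⊔ Subgroup.zpowers x with hK1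
    have hzn : Subgroup.zpowers x ≤ Subgroup.normalizer (Subgroup.zpowers c : Set ↥(P : Subgroup G)) := by
      refine le_trans ?_ (Subgroup.centralizer_le_normalizer _)
      intro u _
      rw [Subgroup.mem_centralizer_iff]
      intro v hv
      obtain ⟨i, rfl⟩ := Subgroup.mem_zpowers_iff.mp hv
      exact (((show Commute u c from hc' u).zpow_right i).symm).eq
    have hK1c : Nat.card K1 ≤ p * p := by
      rw [← SetLike.coe_sort_coe, hK1, Subgroup.coe_mul_of_right_le_normalizer_left _ _ hzn]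
      exact Set.natCard_mul_le.trans (Nat.mul_le_mul (hpow c) (hpow x))
    have hyn : Subgroup.zpowers y ≤ Subgroup.normalizer (K1 : Set ↥(P : Subgroup G)) := by
      rw [Subgroup.zpowers_le, Subgroup.mem_normalizer_iff_map_conj_eq]
      refine Subgroup.eq_of_le_of_card_ge ?_
        (Subgroup.card_map_of_injective (MulAut.conj y).injective).ge
      rw [hK1, Subgroup.map_sup, MonoidHom.map_zpowers, MonoidHom.map_zpowers, sup_le_iff,
        Subgroup.zpowers_le, Subgroup.zpowers_le]
      constructor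
      · show y * c * y⁻¹ ∈ _
        rw [hc' y, mul_inv_cancel_right]
        exact Subgroup.mem_sup_left (Subgroup.mem_zpowers c)
      · show y * x * y⁻¹ ∈ _
        rw [show y * x * y⁻¹ = c * x by rw [hc]; group]
        exact Subgroup.mul_mem_sup (Subgroup.mem_zpowers c) (Subgroup.mem_zpowers x)
    set H := K1 ⊔ Subgroup.zpowers y with hH
    have hHc : Nat.card H ≤ p * p * p := by
      rw [← SetLike.coe_sort_coe, hH, Subgroup.coe_mul_of_right_le_normalizer_left _ _ hyn]
      exact Set.natCard_mul_le.trans (Nat.mul_le_mul hK1c (hpow y))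
    obtain ⟨m, hm⟩ := (hp'.to_subgroup H).exists_card_eq
    have hm3 : m = 3 := by
      have h1 : m ≤ 3 := by
        rw [hm, show p * p * p = p ^ 3 by ring] at hHc
        exact (Nat.pow_le_pow_iff_right hp.out.one_lt).mp hHc
      by_contra hm'
      have hcm : IsMulCommutative H := by
        interval_cases m
        · haveI : Subsingleton H := (Nat.card_eq_one_iff_unique.mp (by simpa using hm)).1
          exact ⟨⟨fun u v => Subsingleton.elim _ _⟩⟩
        · haveI := isCyclic_of_prime_card (α := H) (p := p) (by simpa using hm)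
          exact IsCyclic.isMulCommutative
        · exact IsPGroup.isMulCommutative_of_card_eq_prime_sq hm
        · exact absurd rfl hm'
      exact hy (congrArg Subtype.val (hcm.is_comm.comm
        (⟨y, Subgroup.mem_sup_right (Subgroup.mem_zpowers y)⟩ : H)
        ⟨x, Subgroup.mem_sup_left (Subgroup.mem_sup_right (Subgroup.mem_zpowers x))⟩))
    subst hm3
    obtain ⟨B₀, hB₀⟩ := Sylow.exists_subgroup_card_pow_prime (G := A) p
      (n := 3) (ha ▸ Nat.pow_dvd_pow p (by omega))
    obtain ⟨g, hg⟩ := hD p hp.out ((B₀.map A.subtype).map (P : Subgroup G).subtype)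
      (H.map (P : Subgroup G).subtype) ((hp'.to_subgroup _).map _) ((hp'.to_subgroup _).map _)
      (by rw [Subgroup.card_map_of_injective (Subgroup.subtype_injective _),
        Subgroup.card_map_of_injective (Subgroup.subtype_injective _),
        Subgroup.card_map_of_injective (Subgroup.subtype_injective _), hB₀, hm])
    have key : ∀ u ∈ H, ∃ b : A, g * ((b : ↥(P : Subgroup G)) : G) * g⁻¹ = (u : G) := by
      intro u hu
      obtain ⟨v, ⟨v', ⟨b, -, rfl⟩, rfl⟩, hv⟩ :
          (u : G) ∈ ((B₀.map A.subtype).map (P : Subgroup G).subtype).map (MulAut.conj g).toMonoidHom :=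
        hg ▸ ⟨u, hu, rfl⟩
      exact ⟨b, hv⟩
    obtain ⟨b₁, hb₁⟩ := key y (Subgroup.mem_sup_right (Subgroup.mem_zpowers y))
    obtain ⟨b₂, hb₂⟩ :=
      key x (Subgroup.mem_sup_left (Subgroup.mem_sup_right (Subgroup.mem_zpowers x)))
    apply hy
    refine Subtype.ext ?_
    show (y : G) * x = x * y
    have h := congrArg (fun u : A => g * ((u : ↥(P : Subgroup G)) : G) * g⁻¹)
      (hAc.is_comm.comm b₁ b₂)
    simp only [Subgroup.coe_mul] at h
    rw [← hb₁, ← hb₂]
    simpa [mul_assoc] using h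
  have hle : p ^ k ≤ p ^ (a + a.choose 2) := by
    rw [← hprod, ha, pow_add]
    exact Nat.mul_le_mul_left _ hidx
  have := (Nat.pow_le_pow_iff_right hp.out.one_lt).mp hle
  have hc2 : a.choose 2 ≤ 1 := by interval_cases a <;> decide
  rw [hk]
  congr 1
  omega

omit [Finite G] in
/-- Conjugation by a power, given conjugation by the element is multiplication by a fixed element. -/
theorem conj_pow_eq {r z t : G} (hz : r * z * r⁻¹ = t * z) (ht : r * t = t * r) :
    ∀ k : ℕ, r ^ k * z * (r ^ k)⁻¹ = t ^ k * z := by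
  intro k
  induction k with
  | zero => simp
  | succ k ih =>
    have e : r ^ (k + 1) * z * (r ^ (k + 1))⁻¹ = r * (r ^ k * z * (r ^ k)⁻¹) * r⁻¹ := by
      rw [pow_succ']; group
    rw [e, ih, show r * (t ^ k * z) * r⁻¹ = (r * t ^ k * r⁻¹) * (r * z * r⁻¹) by group, hz,
      ((show Commute r t from ht).pow_right k).eq, mul_inv_cancel_right, pow_succ, mul_assoc]

/-- In a nonabelian group of order `p ^ 3` the centre has order `p` and contains all commutators. -/
theorem cube_center {Q : Type*} [Group Q] [Finite Q] {p : ℕ} [hp : Fact p.Prime]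
    (hQ : Nat.card Q = p ^ 3) (hna : ¬ IsMulCommutative Q) :
    Nat.card (Subgroup.center Q) = p ∧ ∀ a b : Q, a * b * a⁻¹ * b⁻¹ ∈ Subgroup.center Q := by
  have hQp : IsPGroup p Q := IsPGroup.of_card hQ
  have hnc : ¬ IsCyclic (Q ⧸ Subgroup.center Q) := fun h => hna
    ⟨⟨fun a b => commutative_of_cyclic_center_quotient (QuotientGroup.mk' (Subgroup.center Q))
      (le_of_eq (QuotientGroup.ker_mk' _)) a b⟩⟩
  have hmul := Subgroup.card_eq_card_quotient_mul_card_subgroup (Subgroup.center Q)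
  haveI : Nontrivial Q := Finite.one_lt_card_iff_nontrivial.mp
    (hQ ▸ Nat.one_lt_pow (by norm_num) hp.out.one_lt)
  haveI := hQp.center_nontrivial
  obtain ⟨i, hi⟩ := (hQp.to_subgroup (Subgroup.center Q)).exists_card_eq
  obtain ⟨j, hj⟩ := (hQp.to_quotient (Subgroup.center Q)).exists_card_eq
  rw [hQ, hi, hj, ← pow_add] at hmul
  have hij := Nat.pow_right_injective hp.out.two_le hmul
  have hi1 : 1 ≤ i := by
    by_contra h
    have : i = 0 := by omega
    subst this
    rw [pow_zero] at hi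
    exact Finite.one_lt_card.ne' hi
  have hj2 : 2 ≤ j := by
    by_contra h
    apply hnc
    interval_cases j
    · haveI : Subsingleton (Q ⧸ Subgroup.center Q) :=
        (Nat.card_eq_one_iff_unique.mp (by simpa using hj)).1
      exact isCyclic_of_subsingleton
    · exact isCyclic_of_prime_card (p := p) (by simpa using hj)
  obtain rfl : i = 1 := by omega
  obtain rfl : j = 2 := by omega
  refine ⟨by simpa using hi, fun a b => ?_⟩
  have hcm := IsPGroup.isMulCommutative_of_card_eq_prime_sq hj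
  rw [← QuotientGroup.eq_one_iff]
  show (a : Q ⧸ Subgroup.center Q) * (b : Q ⧸ Subgroup.center Q) * (a : Q ⧸ Subgroup.center Q)⁻¹ *
    (b : Q ⧸ Subgroup.center Q)⁻¹ = 1
  rw [hcm.is_comm.comm (a : Q ⧸ Subgroup.center Q) b, mul_inv_cancel_right, mul_inv_cancel]

/-- The extraspecial group of order `p ^ 3` and exponent `p` does not occur. -/
theorem no_extraspecial (hD : SameOrderConj G) {p : ℕ} [hp : Fact p.Prime] (hp2 : p ≠ 2)
    (P : Sylow p G) (hexp : ∀ x ∈ (P : Subgroup G), x ^ p = 1)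
    (hna : ¬ IsMulCommutative ↥(P : Subgroup G)) : False := by
  classical
  haveI : Fact (Nat.Prime 2) := ⟨Nat.prime_two⟩
  have hP3 := card_eq_cube hD P hexp hna
  obtain ⟨hZc, hcomm⟩ := cube_center hP3 hna
  -- `u, x, z` with `u x u⁻¹ = x z`
  obtain ⟨u, x, hux⟩ : ∃ u x : ↥(P : Subgroup G), u * x ≠ x * u := by
    by_contra h
    push Not at h
    exact hna ⟨⟨h⟩⟩
  set z := u * x * u⁻¹ * x⁻¹ with hz
  have hzc : ∀ w, w * z = z * w := fun w => Subgroup.mem_center_iff.mp (hcomm u x) w
  have hz1 : z ≠ 1 := fun h => hux (mul_inv_eq_iff_eq_mul.mp (mul_inv_eq_one.mp h))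
  have hord : ∀ w : G, w ∈ (P : Subgroup G) → w ≠ 1 → orderOf w = p := fun w hw hw1 =>
    orderOf_eq_prime (hexp w hw) hw1
  have hzG : orderOf (z : G) = p := hord z z.2 fun h => hz1 (Subtype.ext h)
  have hx1 : x ≠ 1 := fun h => hux (by rw [h, mul_one, one_mul])
  have hxG : orderOf (x : G) = p := hord x x.2 fun h => hx1 (Subtype.ext h)
  have hxz : (u : G) * x * (u : G)⁻¹ = x * z := by
    have h : u * x * u⁻¹ = x * z := by
      rw [hzc x, hz]; group
    exact congrArg Subtype.val h
  have huz : (u : G) * z * (u : G)⁻¹ = z := by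
    rw [mul_inv_eq_iff_eq_mul]
    exact congrArg Subtype.val (hzc u)
  have hxzc : (x : G) * z = z * x := congrArg Subtype.val (hzc x)
  -- a Sylow subgroup of the centralizer of `x`, through `z`
  obtain ⟨g, hg⟩ := hD p hp.out (Subgroup.zpowers (z : G)) (Subgroup.zpowers (x : G))
    (IsPGroup.of_card (n := 1) (by rw [Nat.card_zpowers, hzG, pow_one]))
    (IsPGroup.of_card (n := 1) (by rw [Nat.card_zpowers, hxG, pow_one]))
    (by rw [Nat.card_zpowers, Nat.card_zpowers, hzG, hxG])
  set C := Subgroup.centralizer ({(x : G)} : Set G) with hC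
  have hPC : (P : Subgroup G).map (MulAut.conj g).toMonoidHom ≤ C := by
    rintro _ ⟨w, hw, rfl⟩
    rw [Subgroup.mem_centralizer_singleton_iff]
    obtain ⟨v, hv, hv'⟩ : (x : G) ∈ (Subgroup.zpowers (z : G)).map (MulAut.conj g).toMonoidHom :=
      hg ▸ Subgroup.mem_zpowers _
    obtain ⟨i, rfl⟩ := Subgroup.mem_zpowers_iff.mp hv
    rw [← hv']
    have hwz : Commute w (z : G) := congrArg Subtype.val (hzc ⟨w, hw⟩)
    exact ((hwz.zpow_right i).map (MulAut.conj g).toMonoidHom).eq
  obtain ⟨RC, hRC⟩ := (IsPGroup.of_card (n := 1) (by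
      rw [Nat.card_zpowers, ← Subgroup.orderOf_coe, pow_one]; exact hzG) :
    IsPGroup p (Subgroup.zpowers
      (⟨(z : G), Subgroup.mem_centralizer_singleton_iff.mpr hxzc.symm⟩ : C))).exists_le_sylow
  set R := (RC : Subgroup C).map C.subtype with hR
  have hRle : R ≤ C := Subgroup.map_subtype_le _
  have hRp : IsPGroup p R := RC.2.map _
  have hcardR : Nat.card R = p ^ 3 := by
    rw [hR, Subgroup.card_map_of_injective (Subgroup.subtype_injective _)]
    refine Nat.dvd_antisymm ?_ ?_
    · obtain ⟨T, hT⟩ := hRp.exists_le_sylow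
      have := Subgroup.card_dvd_of_le hT
      rw [hR, Subgroup.card_map_of_injective (Subgroup.subtype_injective _), T.card_eq_multiplicity,
        ← P.card_eq_multiplicity, hP3] at this
      exact this
    · have h1 : p ^ 3 ∣ Nat.card C := by
        have := Subgroup.card_dvd_of_le hPC
        rwa [Subgroup.card_map_of_injective (MulAut.conj g).injective, hP3] at this
      exact RC.pow_dvd_card_of_pow_dvd_card h1
  obtain ⟨T, hT⟩ := hRp.exists_le_sylow
  have hRT : R = T := Subgroup.eq_of_le_of_card_ge hT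
    (by rw [hcardR, T.card_eq_multiplicity, ← P.card_eq_multiplicity, hP3])
  have hzR : (z : G) ∈ R := ⟨_, hRC (Subgroup.mem_zpowers _), rfl⟩
  -- `x ∈ R`
  have hxC : (x : G) ∈ C := Subgroup.mem_centralizer_singleton_iff.mpr rfl
  have hxcC : (⟨(x : G), hxC⟩ : C) ∈ Subgroup.center C := Subgroup.mem_center_iff.mpr fun w =>
    Subtype.ext (Subgroup.mem_centralizer_singleton_iff.mp w.2)
  have hxR : (x : G) ∈ R := by
    haveI : (Subgroup.zpowers (⟨(x : G), hxC⟩ : C)).Normal := ⟨fun n hn w => by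
      rwa [Subgroup.mem_center_iff.mp ((Subgroup.zpowers_le.mpr hxcC) hn) w, mul_inv_cancel_right]⟩
    have hle : Subgroup.zpowers (⟨(x : G), hxC⟩ : C) ≤ (RC : Subgroup C) := by
      refine RC.3 ?_ le_sup_left |>.symm ▸ le_sup_right
      exact RC.2.to_sup_of_normal_right (IsPGroup.of_card (n := 1)
        (by rw [Nat.card_zpowers, Subgroup.orderOf_mk, hxG, pow_one]))
    exact ⟨_, hle (Subgroup.mem_zpowers _), rfl⟩
  have hxRc : ∀ w ∈ R, w * (x : G) = x * w := fun w hw =>
    Subgroup.mem_centralizer_singleton_iff.mp (hRle hw)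
  have hRna : ¬ IsMulCommutative R := by
    obtain ⟨d, hd⟩ := MulAction.exists_smul_eq G T P
    intro hc
    apply hna
    refine ⟨⟨fun a b => Subtype.ext ?_⟩⟩
    have hh : ∀ a : ↥(P : Subgroup G), d⁻¹ * (a : G) * d ∈ R := fun a => by
      have ha : (a : G) ∈ ((d • T : Sylow p G) : Subgroup G) := by rw [hd]; exact a.2
      rw [Sylow.coe_subgroup_smul, Subgroup.mem_pointwise_smul_iff_inv_smul_mem] at ha
      rw [hRT]
      simpa [MulAut.smul_def] using ha
    have := congrArg Subtype.val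
      (hc.is_comm.comm (⟨_, hh a⟩ : R) ⟨_, hh b⟩)
    simp [mul_assoc] at this
    rw [← mul_assoc, ← mul_assoc] at this
    exact mul_right_cancel this
  obtain ⟨hRc, hRcomm⟩ := cube_center hcardR hRna
  have hxcR : (⟨(x : G), hxR⟩ : R) ∈ Subgroup.center R :=
    Subgroup.mem_center_iff.mpr fun w => Subtype.ext (hxRc w w.2)
  have hcR : Subgroup.center R = Subgroup.zpowers (⟨(x : G), hxR⟩ : R) :=
    (Subgroup.eq_of_le_of_card_ge (Subgroup.zpowers_le.mpr hxcR)
      (by rw [Nat.card_zpowers, Subgroup.orderOf_mk, hxG, hRc])).symm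
  obtain ⟨r, hrR, hrz⟩ : ∃ r ∈ R, r * (z : G) ≠ z * r := by
    by_contra h
    push Not at h
    have hzc' : (⟨(z : G), hzR⟩ : R) ∈ Subgroup.center R :=
      Subgroup.mem_center_iff.mpr fun w => Subtype.ext (h w w.2)
    rw [hcR] at hzc'
    obtain ⟨i, hi⟩ := Subgroup.mem_zpowers_iff.mp hzc'
    have hi' : (x : G) ^ i = z := by simpa using congrArg Subtype.val hi
    apply hz1
    -- `z` a power of `x` would commute with `u`
    have h1 : ((u : G) * x * (u : G)⁻¹) ^ i = z := by rw [conj_zpow, hi', huz]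
    rw [hxz, (show Commute (x : G) z from hxzc).mul_zpow, hi', mul_eq_left,
      ← orderOf_dvd_iff_zpow_eq_one, hzG] at h1
    apply Subtype.ext
    rw [← hi']
    exact orderOf_dvd_iff_zpow_eq_one.mp (by rwa [hxG])
  set t := r * (z : G) * r⁻¹ * (z : G)⁻¹ with ht
  have htx : t ∈ Subgroup.zpowers (x : G) := by
    have h := hRcomm ⟨r, hrR⟩ ⟨z, hzR⟩
    rw [hcR] at h
    obtain ⟨i, hi⟩ := Subgroup.mem_zpowers_iff.mp h
    exact ⟨i, by simpa [ht] using congrArg Subtype.val hi⟩
  have ht1 : t ≠ 1 := fun h => hrz (mul_inv_eq_iff_eq_mul.mp (mul_inv_eq_one.mp h))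
  obtain ⟨k, hk⟩ : ∃ k : ℕ, t ^ k = (x : G)⁻¹ := by
    have hle : Subgroup.zpowers t ≤ Subgroup.zpowers (x : G) := Subgroup.zpowers_le.mpr htx
    have hto : Nat.card (Subgroup.zpowers t) = p := by
      have h := Subgroup.card_dvd_of_le hle
      rw [Nat.card_zpowers (x : G), hxG] at h
      rcases (Nat.dvd_prime hp.out).mp h with h' | h'
      · exact absurd (Subgroup.zpowers_eq_bot.mp (Subgroup.card_eq_one.mp h')) ht1
      · exact h'
    have heq := Subgroup.eq_of_le_of_card_ge hle (by rw [hto, Nat.card_zpowers, hxG])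
    have : (x : G)⁻¹ ∈ Subgroup.zpowers t := heq ▸ inv_mem (Subgroup.mem_zpowers _)
    rw [← mem_powers_iff_mem_zpowers] at this
    exact this
  have htc : r * t = t * r := by
    obtain ⟨i, hi⟩ := htx
    rw [← hi]
    exact ((show Commute r (x : G) from hxRc r hrR).zpow_right i).eq
  set r' := r ^ k with hr'
  have hr'z : r' * (z : G) * r'⁻¹ = (x : G)⁻¹ * z := by
    rw [hr', conj_pow_eq (t := t) (by rw [ht]; group) htc k, hk]
  have hr'x : r' * (x : G) * r'⁻¹ = x := by
    rw [mul_inv_eq_iff_eq_mul]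
    exact ((show Commute r (x : G) from hxRc r hrR).pow_left k).eq
  -- `w` acts on `⟨z, x⟩` with order four
  set c₁ := (MulAut.conj (u : G)).toMonoidHom with hc₁
  set w := (u : G) * r' * u with hw
  have hconj : ∀ a : G, w * a * w⁻¹ = (u : G) * (r' * ((u : G) * a * (u : G)⁻¹) * r'⁻¹) * (u : G)⁻¹ :=
    fun a => by rw [hw]; group
  have hwz : w * (z : G) * w⁻¹ = (x : G)⁻¹ := by
    rw [hconj, huz, hr'z,
      show (u : G) * ((x : G)⁻¹ * z) * (u : G)⁻¹ = ((u : G) * x * (u : G)⁻¹)⁻¹ * ((u : G) * z * (u : G)⁻¹)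
        by group, hxz, huz, hxzc]
    group
  have hwx : w * (x : G) * w⁻¹ = z := by
    rw [hconj, hxz, show r' * ((x : G) * z) * r'⁻¹ = (r' * x * r'⁻¹) * (r' * z * r'⁻¹) by group,
      hr'x, hr'z, mul_inv_cancel_left, huz]
  have hw2 : w ^ 2 * (z : G) * (w ^ 2)⁻¹ = (z : G)⁻¹ := by
    rw [show w ^ 2 * (z : G) * (w ^ 2)⁻¹ = w * (w * z * w⁻¹) * w⁻¹ by rw [sq]; group, hwz,
      show w * (x : G)⁻¹ * w⁻¹ = (w * x * w⁻¹)⁻¹ by group, hwx]
  have hzne : (z : G)⁻¹ ≠ z := fun h => by
    have h2 : (z : G) ^ 2 = 1 := by rw [sq]; nth_rw 1 [← h]; exact inv_mul_cancel _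
    rw [← orderOf_dvd_iff_pow_eq_one, hzG] at h2
    exact hp2 ((Nat.prime_dvd_prime_iff_eq hp.out Nat.prime_two).mp h2)
  have hw2odd : ∀ m : ℕ, Odd m → (w ^ 2) ^ m * (z : G) * ((w ^ 2) ^ m)⁻¹ = (z : G)⁻¹ := by
    intro m
    generalize w ^ 2 = v at hw2 ⊢
    rintro ⟨j, rfl⟩
    induction j with
    | zero => simpa using hw2
    | succ j ih =>
      rw [show 2 * (j + 1) + 1 = 2 * j + 1 + 1 + 1 by ring, pow_succ', pow_succ']
      calc v * (v * v ^ (2 * j + 1)) * (z : G) * (v * (v * v ^ (2 * j + 1)))⁻¹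
          = v * (v * (v ^ (2 * j + 1) * (z : G) * (v ^ (2 * j + 1))⁻¹) * v⁻¹) * v⁻¹ := by group
        _ = (z : G)⁻¹ := by
          rw [ih, show v * (z : G)⁻¹ * v⁻¹ = (v * z * v⁻¹)⁻¹ by group, hw2, inv_inv, hw2]
  -- a normal subgroup of odd order cannot contain `z`
  have hno : ∀ N : Subgroup G, N.Normal → Odd (Nat.card N) → (z : G) ∈ N → False := by
    intro N hN hodd hzN
    have hall : ∀ y : G, y ^ p = 1 → y ∈ N := by
      intro y hy
      by_cases hy1 : y = 1
      · rw [hy1]; exact one_mem _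
      have hyo : orderOf y = p := orderOf_eq_prime hy hy1
      obtain ⟨h, hh⟩ := hD p hp.out (Subgroup.zpowers (z : G)) (Subgroup.zpowers y)
        (IsPGroup.of_card (n := 1) (by rw [Nat.card_zpowers, hzG, pow_one]))
        (IsPGroup.of_card (n := 1) (by rw [Nat.card_zpowers, hyo, pow_one]))
        (by rw [Nat.card_zpowers, Nat.card_zpowers, hzG, hyo])
      obtain ⟨v, hv, hv'⟩ : y ∈ (Subgroup.zpowers (z : G)).map (MulAut.conj h).toMonoidHom :=
        hh ▸ Subgroup.mem_zpowers _
      rw [← hv']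
      exact hN.conj_mem v ((Subgroup.zpowers_le.mpr hzN) hv) h
    have huN : (u : G) ∈ N := hall u (hexp u u.2)
    have hrN : r ∈ N := by
      refine hall r ?_
      obtain ⟨d, hd⟩ := MulAction.exists_smul_eq G T P
      have h1 : d * r * d⁻¹ ∈ (P : Subgroup G) := by
        rw [← hd, Sylow.coe_subgroup_smul]
        exact Subgroup.smul_mem_pointwise_smul _ (MulAut.conj d) _ (hRT ▸ hrR)
      have := hexp _ h1
      rwa [conj_pow, conj_eq_one_iff] at this
    have hwN : w ∈ N := mul_mem (mul_mem huN (pow_mem hrN k)) huN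
    have hwo : Odd (orderOf w) := hodd.of_dvd_nat (Subgroup.orderOf_dvd_natCard N hwN)
    have := hw2odd _ hwo
    rw [← pow_mul, mul_comm, pow_mul, pow_orderOf_eq_one, one_pow, one_mul, inv_one, mul_one] at this
    exact hzne this.symm
  -- a 2-element inverting `z`
  obtain ⟨j, m, hm, hwm⟩ :=
    Nat.exists_eq_pow_mul_and_not_dvd (orderOf_pos w).ne' 2 Nat.prime_two.ne_one
  have hmodd : Odd m := Nat.odd_iff.mpr (by omega)
  set s := w ^ m with hs
  have hso : orderOf s = 2 ^ j := by
    rw [hs, orderOf_pow_of_dvd hmodd.pos.ne' (hwm ▸ Dvd.intro_left _ rfl), hwm,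
      Nat.mul_div_cancel _ hmodd.pos]
  have hsz : s ^ 2 * (z : G) * (s ^ 2)⁻¹ = (z : G)⁻¹ := by
    rw [hs, ← pow_mul, mul_comm, pow_mul]
    exact hw2odd m hmodd
  have hs2 : s ^ 2 ≠ 1 := fun h => by
    rw [h, one_mul, inv_one, mul_one] at hsz
    exact hzne hsz.symm
  obtain ⟨S, hS⟩ := (IsPGroup.of_card (n := j) (by rw [Nat.card_zpowers, hso]) :
    IsPGroup 2 (Subgroup.zpowers s)).exists_le_sylow
  have hsS : s ∈ (S : Subgroup G) := hS (Subgroup.mem_zpowers s)
  rcases unique_or_exponent hD S with huniq | hexp2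
  swap
  · exact hs2 (hexp2 s hsS)
  rcases S0016.result (G := ↥(S : Subgroup G)) 2 S.2 huniq with hcyc | ⟨-, n, ⟨f⟩⟩
  · -- cyclic: a normal 2-complement
    have hmin : (Nat.card G).minFac = 2 := by
      rw [Nat.minFac_eq_two_iff]
      refine dvd_trans ?_ (orderOf_dvd_natCard s)
      rw [hso]
      exact dvd_pow_self 2 fun h => hs2 (by
        have : s = 1 := by rw [← pow_one s, ← pow_orderOf_eq_one s, hso, h]; simp
        rw [this, one_pow])
    have hc := IsCyclic.isComplement' (P := S) hmin hcyc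
    set N := (MonoidHom.transferSylow S (hcyc.normalizer_le_centralizer hmin)).ker
    have hNcard : ¬ 2 ∣ Nat.card N := by
      rw [← hc.index_eq_card]; exact S.not_dvd_index
    refine hno N inferInstance (Nat.odd_iff.mpr (Nat.two_dvd_ne_zero.mp hNcard)) ?_
    rw [← QuotientGroup.eq_one_iff, ← orderOf_eq_one_iff]
    refine Nat.eq_one_of_dvd_coprimes
      ((Nat.coprime_primes hp.out Nat.prime_two).mpr hp2 |>.pow_right
        ((Nat.card G).factorization 2)) ?_ ?_
    · exact (orderOf_map_dvd (QuotientGroup.mk' N) (z : G)).trans hzG.dvd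
    · rw [← S.card_eq_multiplicity, ← hc.symm.index_eq_card, Subgroup.index_eq_card]
      exact orderOf_dvd_natCard _
  · -- quaternion: order eight
    have hn2 : n < 2 := by
      by_contra h
      exact quaternion_eight hD S n (by omega) f
    have hso4 : orderOf (s ^ 2) = 2 := by
      have h4 : s ^ 4 = 1 := by
        have key : ∀ q : QuaternionGroup (2 ^ n), q ^ 4 = 1 := by
          rintro (i | i)
          · have h := QuaternionGroup.orderOf_a i
            rw [← orderOf_dvd_iff_pow_eq_one, h]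
            refine (Nat.div_dvd_of_dvd (Nat.gcd_dvd_left _ _)).trans ?_
            interval_cases n <;> norm_num
          · rw [← orderOf_dvd_iff_pow_eq_one, QuaternionGroup.orderOf_xa]
        have := key (f ⟨s, hsS⟩)
        rw [← map_pow, MulEquiv.map_eq_one_iff] at this
        exact congrArg Subtype.val this
      exact orderOf_eq_prime (by rw [← pow_mul]; exact h4) hs2
    obtain ⟨N, hN, hNodd, hNc⟩ := S0215.result S (s ^ 2) hso4 (pow_mem hsS 2) fun g hg => by
      have h1 : Subgroup.zpowers (⟨g * s ^ 2 * g⁻¹, hg⟩ : ↥(S : Subgroup G)) =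
          Subgroup.zpowers (⟨s ^ 2, pow_mem hsS 2⟩ : ↥(S : Subgroup G)) := huniq _ _
        (by rw [Nat.card_zpowers, Subgroup.orderOf_mk, ← MulAut.conj_apply, MulEquiv.orderOf_eq,
          hso4])
        (by rw [Nat.card_zpowers, Subgroup.orderOf_mk, hso4])
      obtain ⟨i, hi⟩ := Subgroup.mem_zpowers_iff.mp (h1 ▸ Subgroup.mem_zpowers _ :
        (⟨g * s ^ 2 * g⁻¹, hg⟩ : ↥(S : Subgroup G)) ∈ Subgroup.zpowers ⟨s ^ 2, pow_mem hsS 2⟩)
      have hi' : (s ^ 2) ^ i = g * s ^ 2 * g⁻¹ := by simpa using congrArg Subtype.val hi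
      rw [← zpow_mod_orderOf, hso4, Nat.cast_ofNat] at hi'
      rcases Int.emod_two_eq_zero_or_one i with h | h <;> rw [h] at hi'
      · rw [zpow_zero, eq_comm, conj_eq_one_iff] at hi'
        exact absurd hi' hs2
      · rw [← hi', zpow_one]
    refine hno N hN hNodd ?_
    have h := hNc (z : G)
    rw [hsz, ← mul_inv_rev] at h
    have h2 : (z : G) * z ∈ N := by
      have := inv_mem h
      rwa [inv_inv] at this
    obtain ⟨j', hj'⟩ : Odd p := hp.out.odd_of_ne_two hp2
    have hzpow : (z : G) = ((z : G) * z) ^ (j' + 1) := by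
      rw [← sq, ← pow_mul, show 2 * (j' + 1) = p + 1 by omega, pow_succ, show (z : G) ^ p = 1 from hexp z z.2,
        one_mul]
    rw [hzpow]
    exact pow_mem h2 _

/-- The theorem. -/
theorem main (hD : SameOrderConj G) {p : ℕ} [hp : Fact p.Prime] (P : Sylow p G) :
    IsCyclic P ∨ Cfsg.IsElementaryAbelian p (P : Subgroup G) ∨
      Nonempty ((P : Subgroup G) ≃* QuaternionGroup 2) := by
  rcases unique_or_exponent hD P with huniq | hexp
  · rcases S0016.result (G := ↥(P : Subgroup G)) p P.2 huniq with hc | ⟨rfl, n, ⟨f⟩⟩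
    · exact Or.inl hc
    · match n, f with
      | 0, f =>
        haveI : IsCyclic (QuaternionGroup (2 ^ 0)) := QuaternionGroup.quaternionGroup_one_isCyclic
        exact Or.inl (isCyclic_of_surjective f.symm.toMonoidHom f.symm.surjective)
      | 1, f => exact Or.inr (Or.inr ⟨f⟩)
      | n + 2, f => exact (quaternion_eight hD P (n + 2) (by omega) f).elim
  · by_cases hab : IsMulCommutative ↥(P : Subgroup G)
    · exact Or.inr (Or.inl ⟨hab, hexp⟩)
    exfalso
    by_cases hp2 : p = 2
    · subst hp2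
      apply hab
      have hinv : ∀ a : ↥(P : Subgroup G), a⁻¹ = a := fun a =>
        inv_eq_of_mul_eq_one_right (Subtype.ext (by simpa [sq] using hexp a a.2))
      exact ⟨⟨fun a b => by
        rw [← hinv (a * b), mul_inv_rev, hinv, hinv]⟩⟩
    · exact no_extraspecial hD hp2 P hexp hab

end Cfsg.Agent.FG78.ConjPSub
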