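import Mathlib
import Cfsg.Agent.FG78.PiParts
import Cfsg.Agent.FG78.IndexLemmas

set_option autoImplicit false

/-!
Products of two conjugacy classes of coprime sizes, and translations of a class (helper93).
-/

namespace Cfsg.Agent.FG78.CoMax

variable {G : Type*} [Group G]

/-- class size -/
noncomputable abbrev sz (g : G) : ℕ := (Subgroup.centralizer ({g} : Set G)).index

/-- conjugacy class -/
abbrev cls (g : G) : Set G := Set.range fun a : G => a * g * a⁻¹

theorem mem_cls_self (g : G) : g ∈ cls g := ⟨1, by simp⟩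

theorem conj_mem_cls {g v : G} (hv : v ∈ cls g) (a : G) : a * v * a⁻¹ ∈ cls g := by
  obtain ⟨b, rfl⟩ := hv
  exact ⟨a * b, by simp [mul_assoc]⟩

theorem ncard_cls (g : G) : (cls g).ncard = sz g := by
  have key : ∀ a b : G, a * g * a⁻¹ = b * g * b⁻¹ ↔ a⁻¹ * b ∈ Subgroup.centralizer ({g} : Set G) := by
    intro a b
    rw [Subgroup.mem_centralizer_singleton_iff]
    constructor
    · intro h
      have := congrArg (fun z => a⁻¹ * z * b) h
      simpa [mul_assoc] using this.symm
    · intro h
      have := congrArg (fun z => a * z * b⁻¹) h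
      simpa [mul_assoc] using this.symm
  rw [← Nat.card_coe_set_eq, sz, Subgroup.index_eq_card]
  refine Nat.card_congr (Equiv.symm (Equiv.ofBijective
    (fun q : G ⧸ Subgroup.centralizer ({g} : Set G) =>
      (⟨q.out * g * q.out⁻¹, q.out, rfl⟩ : cls g)) ⟨fun q q' h => ?_, ?_⟩))
  · rw [← QuotientGroup.out_eq' q, ← QuotientGroup.out_eq' q', QuotientGroup.eq]
    exact (key _ _).mp (congrArg Subtype.val h)
  · rintro ⟨_, a, rfl⟩
    refine ⟨(a : G ⧸ Subgroup.centralizer ({g} : Set G)), Subtype.ext ?_⟩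
    refine (key _ _).mpr ?_
    rw [← QuotientGroup.eq, QuotientGroup.out_eq']

variable [Finite G]

theorem sz_pos (g : G) : 0 < sz g := Nat.pos_of_ne_zero Subgroup.index_ne_zero_of_finite

/-- Coprime indices: `G = C(z) C(w)`. -/
theorem exists_factor {A B : Subgroup G} (hco : A.index.Coprime B.index) (g : G) :
    ∃ a ∈ A, ∃ b ∈ B, g = a * b := by
  have hrel : B.relIndex A = B.index := by
    have h1 : (A ⊓ B).relIndex A * A.index = (A ⊓ B).index :=
      Subgroup.relIndex_mul_index inf_le_left
    rw [Subgroup.inf_relIndex_left] at h1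
    have h2 : B.index ∣ (A ⊓ B).index := Subgroup.index_dvd_of_le inf_le_right
    rw [← h1] at h2
    have h3 := (hco.symm).dvd_of_dvd_mul_right h2
    have hle : B.relIndex A ≤ B.index := by
      rw [Subgroup.relIndex, Subgroup.index_eq_card, Subgroup.index_eq_card]
      refine Nat.card_le_card_of_injective
        (fun q : A ⧸ B.subgroupOf A => (((q.out : A) : G) : G ⧸ B)) fun q q' h => ?_
      rw [← QuotientGroup.out_eq' q, ← QuotientGroup.out_eq' q', QuotientGroup.eq,
        Subgroup.mem_subgroupOf]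
      simpa using QuotientGroup.eq.mp h
    refine le_antisymm hle (Nat.le_of_dvd (Nat.pos_of_ne_zero ?_) h3)
    intro e
    rw [e, zero_mul] at h1
    exact Subgroup.index_ne_zero_of_finite h1.symm
  let f : A ⧸ B.subgroupOf A → G ⧸ B := fun q => ((q.out : A) : G)
  have hinj : Function.Injective f := fun q q' h => by
    rw [← QuotientGroup.out_eq' q, ← QuotientGroup.out_eq' q', QuotientGroup.eq,
      Subgroup.mem_subgroupOf]
    simpa using QuotientGroup.eq.mp h
  have hbij : Function.Bijective f := by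
    refine (Nat.bijective_iff_injective_and_card f).mpr ⟨hinj, ?_⟩
    rw [← Subgroup.index_eq_card, ← Subgroup.index_eq_card]
    exact hrel
  obtain ⟨q, hq⟩ := hbij.2 (g : G ⧸ B)
  exact ⟨q.out, (q.out : A).2, _, QuotientGroup.eq.mp hq, (mul_inv_cancel_left _ _).symm⟩

theorem conj_mul_mem_cls {z w : G} (hco : (sz z).Coprime (sz w)) (a b : G) :
    a * z * a⁻¹ * (b * w * b⁻¹) ∈ cls (z * w) := by
  obtain ⟨c, hc, d, hd, e⟩ := exists_factor hco (a⁻¹ * b)
  refine ⟨a * c, ?_⟩
  have hc' : c * z * c⁻¹ = z := by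
    rw [Subgroup.mem_centralizer_singleton_iff.mp hc, mul_inv_cancel_right]
  have hd' : d * w * d⁻¹ = w := by
    rw [Subgroup.mem_centralizer_singleton_iff.mp hd, mul_inv_cancel_right]
  have hb : b = a * c * d := by rw [mul_assoc, ← e, mul_inv_cancel_left]
  subst hb
  calc a * c * (z * w) * (a * c)⁻¹
      = a * (c * z * c⁻¹) * a⁻¹ * (a * c * w * (a * c)⁻¹) := by group
    _ = a * z * a⁻¹ * (a * c * (d * w * d⁻¹) * (a * c)⁻¹) := by rw [hc', hd']
    _ = a * z * a⁻¹ * (a * c * d * w * (a * c * d)⁻¹) := by group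

theorem sz_mul_dvd {z w : G} (hco : (sz z).Coprime (sz w)) : sz (z * w) ∣ sz z * sz w := by
  have h : Subgroup.centralizer ({z} : Set G) ⊓ Subgroup.centralizer ({w} : Set G) ≤
      Subgroup.centralizer ({z * w} : Set G) := fun y hy =>
    mem_cent_iff.mpr ((mem_cent_iff.mp hy.1).mul_right (mem_cent_iff.mp hy.2))
  refine (Subgroup.index_dvd_of_le h).trans ?_
  obtain h1 := Subgroup.index_inf_le (H := Subgroup.centralizer ({z} : Set G))
    (K := Subgroup.centralizer ({w} : Set G))
  have h2 : sz z * sz w ∣ (Subgroup.centralizer ({z} : Set G) ⊓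
      Subgroup.centralizer ({w} : Set G)).index :=
    hco.mul_dvd_of_dvd_of_dvd (Subgroup.index_dvd_of_le inf_le_left)
      (Subgroup.index_dvd_of_le inf_le_right)
  exact dvd_of_eq (le_antisymm h1 (Nat.le_of_dvd
    (Nat.pos_of_ne_zero Subgroup.index_ne_zero_of_finite) h2))

theorem sz_le_sz_mul {z w : G} (hco : (sz z).Coprime (sz w)) : sz w ≤ sz (z * w) := by
  rw [← ncard_cls w, ← ncard_cls (z * w)]
  refine Set.ncard_le_ncard_of_injOn (z * ·) ?_ (mul_right_injective z).injOn
  rintro _ ⟨b, rfl⟩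
  simpa using conj_mul_mem_cls hco 1 b

/-- If the product class is no bigger than the second class, the differences of the first class
translate the second. -/
theorem translate_cls {z w : G} (hco : (sz z).Coprime (sz w)) (he : sz (z * w) = sz w) (a : G)
    {v : G} (hv : v ∈ cls w) : z⁻¹ * (a * z * a⁻¹) * v ∈ cls w := by
  have himg : (z * ·) '' cls w = cls (z * w) := by
    refine Set.eq_of_subset_of_ncard_le ?_ (le_of_eq ?_) (Set.toFinite _)
    · rintro _ ⟨_, ⟨b, rfl⟩, rfl⟩
      simpa using conj_mul_mem_cls hco 1 b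
    · rw [Set.ncard_image_of_injective _ (mul_right_injective z), ncard_cls, ncard_cls, he]
  obtain ⟨b, rfl⟩ := hv
  have h := conj_mul_mem_cls hco a b
  rw [← himg] at h
  obtain ⟨u, hu, e⟩ := h
  have : z⁻¹ * (a * z * a⁻¹) * (b * w * b⁻¹) = u := by
    rw [mul_assoc, ← e, inv_mul_cancel_left]
  exact this ▸ hu

/-- Left translations of a subset. -/
def transl (S : Set G) : Subgroup G :=
  subgroupOfIdempotent {t : G | ∀ v ∈ S, t * v ∈ S} ⟨1, fun v hv => by simpa⟩
    (by
      refine Set.Subset.antisymm ?_ fun t ht => ⟨1, fun v hv => by simpa, t, ht, one_mul t⟩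
      rintro _ ⟨a, ha, b, hb, rfl⟩ v hv
      show a * b * v ∈ S
      rw [mul_assoc]; exact ha _ (hb v hv))

theorem mem_transl {S : Set G} {t : G} : t ∈ transl S ↔ ∀ v ∈ S, t * v ∈ S := Iff.rfl

/-- A prime order of a translation divides the cardinality. -/
theorem prime_dvd_ncard_of_translation {S : Set G} {t : G} (ht : t ∈ transl S) {q : ℕ}
    (hq : q.Prime) (hd : q ∣ orderOf t) : q ∣ S.ncard := by
  haveI := Fact.mk hq
  set u := t ^ (orderOf t / q) with hu
  have huo : orderOf u = q := orderOf_pow_orderOf_div (orderOf_pos t).ne' hd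
  have huT : u ∈ transl S := pow_mem ht _
  let H : Subgroup G := Subgroup.zpowers u
  let act : MulAction H S :=
    { smul := fun a v => ⟨(a : G) * v, (Subgroup.zpowers_le.mpr huT a.2) v v.2⟩
      one_smul := fun v => Subtype.ext (one_mul _)
      mul_smul := fun a b v => Subtype.ext (mul_assoc _ _ _) }
  have hp : IsPGroup q H := IsPGroup.of_card (n := 1) (by rw [Nat.card_zpowers, huo, pow_one])
  have hfix : Nat.card (MulAction.fixedPoints H S) = 0 := by
    have : IsEmpty (MulAction.fixedPoints H S) := ⟨fun v => by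
      have h := congrArg Subtype.val (v.2 ⟨u, Subgroup.mem_zpowers u⟩)
      have h' : u * (v.1 : G) = (v.1 : G) := h
      rw [mul_eq_right] at h'
      rw [h', orderOf_one] at huo
      exact hq.ne_one huo.symm⟩
    exact Nat.card_of_isEmpty
  have h := hp.card_modEq_card_fixedPoints S
  rw [hfix, Nat.card_coe_set_eq] at h
  exact Nat.modEq_zero_iff_dvd.mp h

theorem exists_primary_not_mem_center {π : Set ℕ} {g : G} (hg : IsPiElem π g)
    (hZ : g ∉ Subgroup.center G) :
    ∃ q, q.Prime ∧ q ∈ π ∧ piPart {q} g ∉ Subgroup.center G := by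
  let f := QuotientGroup.mk' (Subgroup.center G)
  have hne : f g ≠ 1 := fun h => hZ ((QuotientGroup.eq_one_iff g).mp h)
  obtain ⟨q, hq, hd⟩ := Nat.exists_prime_and_dvd (fun e => hne (orderOf_eq_one_iff.mp e))
  refine ⟨q, hq, (hg.map f) q hq hd, fun h => ?_⟩
  have e : f g = f (piPart' {q} g) := by
    conv_lhs => rw [← piPart_mul_piPart' {q} g, map_mul,
      show f (piPart {q} g) = 1 from (QuotientGroup.eq_one_iff _).mpr h, one_mul]
  rw [e] at hd
  exact ((isPiElem_piPart' {q} g).map f) q hq hd rfl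

end Cfsg.Agent.FG78.CoMax
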