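import Cfsg.Agent.FG78.CoprimeMaxMain

set_option autoImplicit false

/-!
The centralizers and the Frobenius structure (helper93).
-/

namespace Cfsg.Agent.FG78.CoMax

open scoped Pointwise

variable {G : Type*} [Group G] [Finite G] {m n : ℕ}

theorem piPart_center {π : Set ℕ} {z : G} (hz : z ∈ Subgroup.center G) :
    piPart π z ∈ Subgroup.center G ∧ piPart' π z ∈ Subgroup.center G :=
  ⟨piPart_mem π z hz, piPart'_mem π z hz⟩

theorem centralizer_mul_center {c g : G} (hc : c ∈ Subgroup.center G) :
    Subgroup.centralizer ({c * g} : Set G) = Subgroup.centralizer ({g} : Set G) := by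
  ext a
  rw [mem_cent_iff, mem_cent_iff]
  have h0 : Commute a c := Subgroup.mem_center_iff.mp hc a
  refine ⟨fun h => ?_, fun h => h0.mul_right h⟩
  have := h0.inv_right.mul_right h
  rwa [inv_mul_cancel_left] at this

theorem cent_eq_of_le {a b : G} (hle : Subgroup.centralizer ({a} : Set G) ≤ Subgroup.centralizer {b})
    (h : sz a = sz b) : Subgroup.centralizer ({a} : Set G) = Subgroup.centralizer {b} := by
  refine Subgroup.eq_of_le_of_card_ge hle (le_of_eq ?_)
  have a1 := Subgroup.card_mul_index (Subgroup.centralizer ({a} : Set G))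
  have a2 := Subgroup.card_mul_index (Subgroup.centralizer ({b} : Set G))
  rw [show (Subgroup.centralizer ({a} : Set G)).index = sz b from h] at a1
  exact Nat.eq_of_mul_eq_mul_right (sz_pos b) (a2.trans a1.symm)

theorem piPart'_of_pi {π : Set ℕ} {c : G} (hc : IsPiElem π c) : piPart' π c = 1 :=
  (piPart_unique (Commute.one_right c) hc (IsPiElem.one _) (mul_one c)).2

namespace Hyp

variable (H : Hyp G m n)
include H

/-- A `π`-element commuting with a non-central `π'`-element is central. -/
theorem pi_central_of_commute {d h : G} (hd : IsPiElem (piOf m) d) (hh : IsPiElem (piOf m)ᶜ h)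
    (hZ : h ∉ Subgroup.center G) (hc : Commute d h) : d ∈ Subgroup.center G := by
  by_contra hdZ
  obtain ⟨q, hq, hqπ, hqd⟩ := exists_primary_not_mem_center hd hdZ
  haveI := Fact.mk hq
  set e := piPart {q} d
  have hcomm : Commute e h := (commute_piPart {q} d hc.symm).symm
  have heπ : IsPiElem (piOf m) e := by
    obtain ⟨i, hi⟩ := exists_piPart_eq_pow {q} d
    show IsPiElem _ (piPart {q} d)
    rw [hi]; exact hd.pow i
  have ew := centralizer_mul_eq (piOf m) hcomm heπ hh
  have hsh : sz h = m := sz_piPrime H hh hZ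
  have hdvd : m ∣ sz (e * h) := hsh ▸ Subgroup.index_dvd_of_le (ew ▸ inf_le_right)
  have heq : sz (e * h) = sz h := hsh.symm ▸ le_antisymm (H.htop _) (Nat.le_of_dvd (sz_pos _) hdvd)
  have hEh := cent_eq_of_le (a := e * h) (b := h) (ew ▸ inf_le_right) heq
  have hle : Subgroup.centralizer ({h} : Set G) ≤ Subgroup.centralizer ({e} : Set G) := by
    rw [← hEh, ew]; exact inf_le_left
  have hde : sz e ∣ m := hsh ▸ Subgroup.index_dvd_of_le hle
  rcases lt_or_eq_of_le (H.htop e) with hlt | hem
  · exact hqd (central_of_dvd H hde hlt)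
  have hCe := cent_eq_of_le (a := h) (b := e) hle (hsh.trans hem.symm)
  obtain ⟨N, x, -, -, hNπ, hxN, hx⟩ := exists_base H
  obtain ⟨R⟩ := (inferInstance : Nonempty (Sylow q (Subgroup.centralizer ({x} : Set G))))
  have hR : Nat.card ((R : Subgroup _).map (Subgroup.centralizer ({x} : Set G)).subtype) =
      q ^ (Nat.card G).factorization q := by
    rw [Subgroup.card_map_of_injective (Subgroup.subtype_injective _), R.card_eq_multiplicity]
    congr 1
    rw [← Subgroup.card_mul_index (Subgroup.centralizer ({x} : Set G)),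
      Nat.factorization_mul Nat.card_pos.ne' Subgroup.index_ne_zero_of_finite, Finsupp.add_apply,
      Nat.factorization_eq_zero_of_not_dvd (show ¬ q ∣ sz x from hx.symm ▸ pi_of_n H hq hqπ),
      add_zero]
  obtain ⟨k, hk⟩ := exists_pow_of_isPiElem_singleton (isPiElem_piPart {q} d)
  obtain ⟨Q, hQ⟩ := (IsPGroup.of_card (n := k) (by rw [Nat.card_zpowers, hk]) :
    IsPGroup q (Subgroup.zpowers (piPart {q} d))).exists_le_sylow
  obtain ⟨c, hcQ⟩ := MulAction.exists_smul_eq G Q (Sylow.ofCard _ hR)
  have hce : c * e * c⁻¹ ∈ Subgroup.centralizer ({x} : Set G) := by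
    have h1 : c * e * c⁻¹ ∈ ((c • Q : Sylow q G) : Subgroup G) := by
      rw [Sylow.coe_subgroup_smul]
      exact Subgroup.smul_mem_pointwise_smul _ (MulAut.conj c) _ (hQ (Subgroup.mem_zpowers _))
    rw [hcQ] at h1
    exact Subgroup.map_subtype_le _ h1
  have h2 : Commute (c⁻¹ * x * c) e := by
    have := ((mem_cent_iff.mp hce).map (MulAut.conj c⁻¹).toMonoidHom).symm
    simpa [mul_assoc] using this
  have h3 : Commute (c⁻¹ * x * c) h := mem_cent_iff.mp (hCe ▸ mem_cent_iff.mpr h2)
  have h4 : Commute x (c * h * c⁻¹) := by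
    have := h3.map (MulAut.conj c).toMonoidHom
    simpa [mul_assoc] using this
  have h5 := piPrime_central_of_commute H (hNπ x hxN) hx ((isPiElem_conj_iff c h).mpr hh) h4
  refine hZ ?_
  have : c⁻¹ * (c * h * c⁻¹) * c = c * h * c⁻¹ := by
    rw [Subgroup.mem_center_iff.mp h5 c⁻¹, inv_mul_cancel_right]
  rw [show c⁻¹ * (c * h * c⁻¹) * c = h by simp [mul_assoc]] at this
  exact this ▸ h5

/-- The order data: `|G : Z| = m n`, the `π'`-part being `n`. -/
theorem relIndex_center :
    ∃ x : G, IsPiElem (piOf m) x ∧ sz x = n ∧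
      (Subgroup.center G).relIndex (Subgroup.centralizer ({x} : Set G)) = m ∧
      (∀ h : G, IsPiElem (piOf m)ᶜ h → h ∉ Subgroup.center G →
        (Subgroup.center G).relIndex (Subgroup.centralizer ({h} : Set G)) = n) := by
  obtain ⟨N, x, -, -, hNπ, hxN, hx⟩ := exists_base H
  refine ⟨x, hNπ x hxN, hx, ?_⟩
  have hK : ∀ q : ℕ, q.Prime →
      q ∣ (Subgroup.center G).relIndex (Subgroup.centralizer ({x} : Set G)) → q ∈ piOf m := by
    intro q hq hd
    by_contra hqπ
    haveI := Fact.mk hq
    set C := Subgroup.centralizer ({x} : Set G)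
    set Z := (Subgroup.center G).subgroupOf C
    haveI : Z.Normal := inferInstance
    rw [Subgroup.relIndex, Subgroup.index_eq_card] at hd
    obtain ⟨a, ha⟩ := exists_prime_orderOf_dvd_card' q hd
    obtain ⟨a, rfl⟩ := QuotientGroup.mk'_surjective Z a
    have hu : IsPiElem (piOf m)ᶜ (piPart' (piOf m) (a : G)) := isPiElem_piPart' _ _
    have huc : Commute x (piPart' (piOf m) (a : G)) :=
      commute_piPart' _ _ (mem_cent_iff.mp a.2).symm
    have hz := piPrime_central_of_commute H (hNπ x hxN) hx hu huc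
    have e : QuotientGroup.mk' Z a = QuotientGroup.mk' Z
        ⟨piPart (piOf m) (a : G), piPart_mem _ _ a.2⟩ := by
      have h1 : QuotientGroup.mk' Z ⟨piPart' (piOf m) (a : G), piPart'_mem _ _ a.2⟩ = 1 :=
        (QuotientGroup.eq_one_iff _).mpr hz
      calc QuotientGroup.mk' Z a = QuotientGroup.mk' Z (⟨piPart (piOf m) (a : G), piPart_mem _ _ a.2⟩ *
            ⟨piPart' (piOf m) (a : G), piPart'_mem _ _ a.2⟩) :=
          congrArg _ (Subtype.ext (piPart_mul_piPart' _ _).symm)
        _ = _ := by rw [map_mul, h1, mul_one]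
    rw [e] at ha
    have hp : IsPiElem (piOf m)
        (⟨piPart (piOf m) (a : G), piPart_mem _ _ a.2⟩ : C) :=
      (isPiElem_piPart (piOf m) (a : G)).of_dvd (dvd_of_eq (Subgroup.orderOf_mk _ _))
    exact hqπ ((hp.map (QuotientGroup.mk' Z)) q hq (dvd_of_eq ha.symm))
  have hZle : ∀ g : G, Subgroup.center G ≤ Subgroup.centralizer ({g} : Set G) := fun g a ha =>
    Subgroup.mem_centralizer_singleton_iff.mpr (Subgroup.mem_center_iff.mp ha g).symm
  have hGx := Subgroup.relIndex_mul_index (hZle x)
  rw [show (Subgroup.centralizer ({x} : Set G)).index = n from hx] at hGx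
  set rK := (Subgroup.center G).relIndex (Subgroup.centralizer ({x} : Set G))
  have hHall : ∀ h : G, IsPiElem (piOf m)ᶜ h → h ∉ Subgroup.center G →
      (Subgroup.center G).relIndex (Subgroup.centralizer ({h} : Set G)) * m = rK * n ∧
      ∀ q : ℕ, q.Prime →
        q ∣ (Subgroup.center G).relIndex (Subgroup.centralizer ({h} : Set G)) → q ∉ piOf m := by
    intro h hh hZ
    refine ⟨?_, fun q hq hd hqπ => ?_⟩
    · have hGh := Subgroup.relIndex_mul_index (hZle h)
      rw [show (Subgroup.centralizer ({h} : Set G)).index = m from sz_piPrime H hh hZ] at hGh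
      rw [hGh, hGx]
    haveI := Fact.mk hq
    set C := Subgroup.centralizer ({h} : Set G)
    set Z := (Subgroup.center G).subgroupOf C
    haveI : Z.Normal := inferInstance
    rw [Subgroup.relIndex, Subgroup.index_eq_card] at hd
    obtain ⟨a, ha⟩ := exists_prime_orderOf_dvd_card' q hd
    obtain ⟨a, rfl⟩ := QuotientGroup.mk'_surjective Z a
    have hz := pi_central_of_commute H (isPiElem_piPart _ (a : G)) hh hZ
      (commute_piPart _ _ (mem_cent_iff.mp a.2).symm).symm
    have h1 : QuotientGroup.mk' Z ⟨piPart (piOf m) (a : G), piPart_mem _ _ a.2⟩ = 1 :=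
      (QuotientGroup.eq_one_iff _).mpr hz
    have e : QuotientGroup.mk' Z a = QuotientGroup.mk' Z
        ⟨piPart' (piOf m) (a : G), piPart'_mem _ _ a.2⟩ := by
      calc QuotientGroup.mk' Z a = QuotientGroup.mk' Z (⟨piPart (piOf m) (a : G), piPart_mem _ _ a.2⟩ *
            ⟨piPart' (piOf m) (a : G), piPart'_mem _ _ a.2⟩) :=
          congrArg _ (Subtype.ext (piPart_mul_piPart' _ _).symm)
        _ = _ := by rw [map_mul, h1, one_mul]
    rw [e] at ha
    have hp : IsPiElem (piOf m)ᶜ
        (⟨piPart' (piOf m) (a : G), piPart'_mem _ _ a.2⟩ : C) :=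
      (isPiElem_piPart' (piOf m) (a : G)).of_dvd (dvd_of_eq (Subgroup.orderOf_mk _ _))
    exact ((hp.map (QuotientGroup.mk' Z)) q hq (dvd_of_eq ha.symm)) hqπ
  have hval : ∀ h : G, IsPiElem (piOf m)ᶜ h → h ∉ Subgroup.center G →
      (Subgroup.center G).relIndex (Subgroup.centralizer ({h} : Set G)) = n ∧ rK = m := by
    intro h hh hZ
    obtain ⟨he, hq'⟩ := hHall h hh hZ
    set rH := (Subgroup.center G).relIndex (Subgroup.centralizer ({h} : Set G))
    have h1 : n ∣ rH := H.hcop.symm.dvd_of_dvd_mul_right (Dvd.intro_left rK he.symm)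
    have h2 : rH ∣ n := by
      have hco : rH.Coprime rK := Nat.coprime_of_dvd fun q hq a b => hq' q hq a (hK q hq b)
      exact hco.dvd_of_dvd_mul_left (Dvd.intro m he)
    have h3 := Nat.dvd_antisymm h2 h1
    refine ⟨h3, ?_⟩
    rw [h3, mul_comm n m] at he
    exact (Nat.eq_of_mul_eq_mul_right (by have := H.hn; omega) he).symm
  refine ⟨?_, fun h hh hZ => (hval h hh hZ).1⟩
  -- some non-central `π'`-element exists
  obtain ⟨q, hq, hqn⟩ := Nat.exists_prime_and_dvd (show n ≠ 1 by have := H.hn; omega)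
  haveI := Fact.mk hq
  have hqπ : q ∉ piOf m := fun h => pi_of_n H hq h hqn
  by_contra hne
  have hall : ∀ h : G, IsPiElem (piOf m)ᶜ h → h ∈ Subgroup.center G := fun h hh =>
    by_contra fun hZ => hne (hval h hh hZ).2
  have hd : q ∣ Nat.card (G ⧸ Subgroup.center G) := by
    rw [← Subgroup.index_eq_card, ← hGx]
    exact dvd_mul_of_dvd_right hqn _
  obtain ⟨a, ha⟩ := exists_prime_orderOf_dvd_card' q hd
  obtain ⟨a, rfl⟩ := QuotientGroup.mk'_surjective (Subgroup.center G) a
  have e : QuotientGroup.mk' (Subgroup.center G) a =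
      QuotientGroup.mk' (Subgroup.center G) (piPart (piOf m) a) := by
    conv_lhs => rw [← piPart_mul_piPart' (piOf m) a, map_mul,
      show QuotientGroup.mk' (Subgroup.center G) (piPart' (piOf m) a) = 1 from
        (QuotientGroup.eq_one_iff _).mpr (hall _ (isPiElem_piPart' _ _)), mul_one]
  rw [e] at ha
  exact hqπ (((isPiElem_piPart (piOf m) a).map _) q hq (dvd_of_eq ha.symm))

/-- Non-central `π`-elements have class size `n`. -/
theorem sz_pi {d : G} (hd : IsPiElem (piOf m) d) (hZ : d ∉ Subgroup.center G) : sz d = n := by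
  obtain ⟨x, hxπ, hx, hrK, -⟩ := relIndex_center H
  have hZle : ∀ g : G, Subgroup.center G ≤ Subgroup.centralizer ({g} : Set G) := fun g a ha =>
    Subgroup.mem_centralizer_singleton_iff.mpr (Subgroup.mem_center_iff.mp ha g).symm
  set C := Subgroup.centralizer ({d} : Set G)
  set Z := (Subgroup.center G).subgroupOf C
  have hq' : ∀ q : ℕ, q.Prime → q ∣ (Subgroup.center G).relIndex C → q ∈ piOf m := by
    intro q hq hdq
    by_contra hqπ
    haveI := Fact.mk hq
    haveI : Z.Normal := inferInstance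
    rw [Subgroup.relIndex, Subgroup.index_eq_card] at hdq
    obtain ⟨a, ha⟩ := exists_prime_orderOf_dvd_card' q hdq
    obtain ⟨a, rfl⟩ := QuotientGroup.mk'_surjective Z a
    have hu : piPart' (piOf m) (a : G) ∈ Subgroup.center G := by
      by_contra hZ'
      exact hZ (pi_central_of_commute H hd (isPiElem_piPart' _ _) hZ'
        (commute_piPart' _ _ (mem_cent_iff.mp a.2).symm))
    have h1 : QuotientGroup.mk' Z ⟨piPart' (piOf m) (a : G), piPart'_mem _ _ a.2⟩ = 1 :=
      (QuotientGroup.eq_one_iff _).mpr hu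
    have e : QuotientGroup.mk' Z a = QuotientGroup.mk' Z
        ⟨piPart (piOf m) (a : G), piPart_mem _ _ a.2⟩ := by
      calc QuotientGroup.mk' Z a = QuotientGroup.mk' Z (⟨piPart (piOf m) (a : G), piPart_mem _ _ a.2⟩ *
            ⟨piPart' (piOf m) (a : G), piPart'_mem _ _ a.2⟩) :=
          congrArg _ (Subtype.ext (piPart_mul_piPart' _ _).symm)
        _ = _ := by rw [map_mul, h1, mul_one]
    rw [e] at ha
    have hp : IsPiElem (piOf m)
        (⟨piPart (piOf m) (a : G), piPart_mem _ _ a.2⟩ : C) :=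
      (isPiElem_piPart (piOf m) (a : G)).of_dvd (dvd_of_eq (Subgroup.orderOf_mk _ _))
    exact hqπ ((hp.map (QuotientGroup.mk' Z)) q hq (dvd_of_eq ha.symm))
  have e1 := Subgroup.relIndex_mul_index (hZle d)
  have e2 := Subgroup.relIndex_mul_index (hZle x)
  rw [hrK, show (Subgroup.centralizer ({x} : Set G)).index = n from hx, ← e1] at e2
  have hco : n.Coprime ((Subgroup.center G).relIndex C) := Nat.coprime_of_dvd fun q hq a b =>
    pi_of_n H hq (hq' q hq b) a
  have hdvd : n ∣ sz d := hco.dvd_of_dvd_mul_left (Dvd.intro_left m e2)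
  refine le_antisymm (H.hsec d (lt_of_le_of_ne (H.htop d) fun e => ?_)) (Nat.le_of_dvd (sz_pos d) hdvd)
  have h1 : n ∣ 1 := H.hcop ▸ Nat.dvd_gcd (e ▸ hdvd) dvd_rfl
  rw [Nat.dvd_one] at h1
  exact absurd h1 (by have := H.hn; omega)

/-- `π`-elements commute. -/
theorem pi_commute {d e : G} (hd : IsPiElem (piOf m) d) (he : IsPiElem (piOf m) e) : Commute d e := by
  by_cases hdZ : d ∈ Subgroup.center G
  · exact (Subgroup.mem_center_iff.mp hdZ e).symm
  by_cases heZ : e ∈ Subgroup.center G
  · exact Subgroup.mem_center_iff.mp heZ d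
  obtain ⟨N, c, e', hNn, -, hNπ, -, hc, he', hee, -⟩ :=
    exists_abelian H e ((sz_pi H he heZ).symm ▸ H.hcop.symm)
  have h1 : (Subgroup.centralizer ({d} : Set G)).relIndex N = 1 := by
    refine Nat.eq_one_of_dvd_one ?_
    have hd1 : (Subgroup.centralizer ({d} : Set G)).relIndex N ∣ Nat.card N :=
      Subgroup.index_dvd_card _
    have hd2 : (Subgroup.centralizer ({d} : Set G)).relIndex N ∣ n :=
      sz_pi H hd hdZ ▸ CW_relIndex_dvd N _
    have hco : (Nat.card N).Coprime n := Nat.coprime_of_dvd fun q hq a b => by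
      haveI := Fact.mk hq
      obtain ⟨t, ht⟩ := exists_prime_orderOf_dvd_card' q a
      exact pi_of_n H hq (hNπ t t.2 q hq (by rw [Subgroup.orderOf_coe, ht])) b
    exact hco ▸ Nat.dvd_gcd hd1 hd2
  rw [hee]
  exact (Subgroup.mem_center_iff.mp hc d : d * c = c * d) |> fun h0 =>
    (show Commute d c from h0).mul_right (mem_cent_iff.mp (Subgroup.relIndex_eq_one.mp h1 he')).symm

theorem main (x y : G) (hx : sz x = n) (hy : sz y = m) :
    IsMulCommutative (Subgroup.centralizer ({x} : Set G)) ∧
      IsMulCommutative (Subgroup.centralizer ({y} : Set G)) ∧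
      Cfsg.IsFrobeniusComplement
        ((Subgroup.centralizer ({y} : Set G)).map (QuotientGroup.mk' (Subgroup.center G))) ∧
      Cfsg.frobeniusKernel
          ((Subgroup.centralizer ({y} : Set G)).map (QuotientGroup.mk' (Subgroup.center G))) =
        ((Subgroup.centralizer ({x} : Set G)).map (QuotientGroup.mk' (Subgroup.center G)) :
          Set (G ⧸ Subgroup.center G)) := by
  classical
  set π := piOf m with hπ
  set Z := Subgroup.center G with hZdef
  -- `C(x)` consists of the elements with central `π'`-part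
  have hxc : piPart' π x ∈ Z := by
    by_contra hZ'
    have h1 := sz_piPrime H (isPiElem_piPart' _ x) hZ'
    have h2 : sz (piPart' π x) ∣ n := hx ▸ Subgroup.index_dvd_of_le (fun a ha =>
      mem_cent_iff.mpr (commute_piPart' _ _ (mem_cent_iff.mp ha)))
    rw [h1] at h2
    have := Nat.le_of_dvd (by have := H.hn; omega) h2
    have := H.hmn
    omega
  have hCx1 : Subgroup.centralizer ({x} : Set G) = Subgroup.centralizer ({piPart π x} : Set G) := by
    conv_lhs => rw [← piPart_mul_piPart' π x]
    rw [(commute_piPart_piPart' π x).eq, centralizer_mul_center hxc]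
  have hx1 : sz (piPart π x) = n := by rw [← hx, sz, sz, hCx1]
  have hmemK : ∀ g : G, g ∈ Subgroup.centralizer ({x} : Set G) ↔ piPart' π g ∈ Z := by
    intro g
    rw [hCx1]
    constructor
    · intro hg
      exact piPrime_central_of_commute H (isPiElem_piPart _ x) hx1 (isPiElem_piPart' _ g)
        (commute_piPart' _ _ (mem_cent_iff.mp hg).symm)
    · intro hg
      rw [mem_cent_iff]
      nth_rewrite 1 [← piPart_mul_piPart' π g]
      exact (pi_commute H (isPiElem_piPart _ g) (isPiElem_piPart _ x)).mul_left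
        (Subgroup.mem_center_iff.mp hg _).symm
  set K := Subgroup.centralizer ({x} : Set G) with hKdef
  have hKcomm : ∀ a ∈ K, ∀ b ∈ K, Commute a b := by
    intro a ha b hb
    rw [← piPart_mul_piPart' π a, ← piPart_mul_piPart' π b]
    have ha' := (hmemK a).mp ha
    have hb' := (hmemK b).mp hb
    exact ((pi_commute H (isPiElem_piPart _ a) (isPiElem_piPart _ b)).mul_right
      (Subgroup.mem_center_iff.mp hb' _ : _ = _)).mul_left
      (Subgroup.mem_center_iff.mp ha' _).symm
  have hKn : K.Normal := ⟨fun k hk g => (hmemK _).mpr (by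
    have e : g * piPart' π k * g⁻¹ = piPart' π k := by
      rw [Subgroup.mem_center_iff.mp ((hmemK k).mp hk) g, mul_inv_cancel_right]
    have := (piPart_unique (π := π) (g := g * k * g⁻¹)
      (show Commute (g * piPart π k * g⁻¹) (g * piPart' π k * g⁻¹) from
        (commute_piPart_piPart' π k).map (MulAut.conj g).toMonoidHom)
      ((isPiElem_conj_iff g _).mpr (isPiElem_piPart π k))
      ((isPiElem_conj_iff g _).mpr (isPiElem_piPart' π k))
      (show g * piPart π k * g⁻¹ * (g * piPart' π k * g⁻¹) = g * k * g⁻¹ by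
        rw [conj_mul, piPart_mul_piPart'])).2
    rw [this]
    exact e.symm ▸ (hmemK k).mp hk)⟩
  -- `C(y) = C(h)` for a non-central `π'`-element `h`
  have hZle : ∀ g : G, Z ≤ Subgroup.centralizer ({g} : Set G) := fun g a ha =>
    Subgroup.mem_centralizer_singleton_iff.mpr (Subgroup.mem_center_iff.mp ha g).symm
  have hyh : piPart' π y ∉ Z := by
    intro hz
    have hCy : Subgroup.centralizer ({y} : Set G) = Subgroup.centralizer ({piPart π y} : Set G) := by
      conv_lhs => rw [← piPart_mul_piPart' π y]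
      rw [(commute_piPart_piPart' π y).eq, centralizer_mul_center hz]
    have h1 : sz (piPart π y) = m := by rw [← hy, sz, sz, hCy]
    by_cases hz1 : piPart π y ∈ Z
    · rw [sz_eq_one_iff.mpr hz1] at h1
      have := H.hn; have := H.hmn; omega
    · rw [sz_pi H (isPiElem_piPart _ y) hz1] at h1
      have := H.hmn; omega
  set h := piPart' π y with hh_def
  have hh : IsPiElem πᶜ h := isPiElem_piPart' _ _
  have hCy : Subgroup.centralizer ({y} : Set G) = Subgroup.centralizer ({h} : Set G) :=
    cent_eq_of_le (fun a ha => mem_cent_iff.mpr (commute_piPart' _ _ (mem_cent_iff.mp ha)))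
      (hy.trans (sz_piPrime H hh hyh).symm)
  rw [hCy]
  set L := Subgroup.centralizer ({h} : Set G) with hLdef
  have hLπ : ∀ g ∈ L, piPart π g ∈ Z := fun g hg =>
    pi_central_of_commute H (isPiElem_piPart _ g) hh hyh
      (commute_piPart _ _ (mem_cent_iff.mp hg).symm).symm
  have hKL : ∀ g ∈ K, g ∈ L → g ∈ Z := fun g hg hgL => by
    rw [← piPart_mul_piPart' π g]
    exact Z.mul_mem (hLπ g hgL) ((hmemK g).mp hg)
  -- the key non-commuting property
  have key : ∀ k ∈ K, ∀ u : G, IsPiElem πᶜ u → u ∈ L → u ∉ Z → k * u * k⁻¹ ∈ L → k ∈ Z := by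
    intro k hk u hu huL huZ hku
    set k1 := piPart π k
    have ek : k1 * u * k1⁻¹ = k * u * k⁻¹ := by
      calc k1 * u * k1⁻¹ = k1 * (piPart' π k * u * (piPart' π k)⁻¹) * k1⁻¹ := by
            rw [← Subgroup.mem_center_iff.mp ((hmemK k).mp hk) u, mul_inv_cancel_right]
        _ = (k1 * piPart' π k) * u * (k1 * piPart' π k)⁻¹ := by group
        _ = k * u * k⁻¹ := by rw [piPart_mul_piPart']
    have hk1K : k1 ∈ K := piPart_mem π k hk
    set c := k1 * u * k1⁻¹ * u⁻¹ with hc
    have hcL : c ∈ L := mul_mem (ek ▸ hku) (inv_mem huL)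
    have hcK : c ∈ K := by
      have : c = k1 * (u * k1⁻¹ * u⁻¹) := by rw [hc]; group
      rw [this]; exact K.mul_mem hk1K (hKn.conj_mem _ (K.inv_mem hk1K) u)
    have hcZ := hKL c hcK hcL
    have hcu : Commute u c := Subgroup.mem_center_iff.mp hcZ u
    -- `c` is a `π`-element
    have hcπ : IsPiElem π c := by
      have e : c = k1 * (u * k1⁻¹ * u⁻¹) := by rw [hc]; group
      rw [e]
      exact (isPiElem_piPart π k).mul ((isPiElem_conj_iff u _).mpr (isPiElem_piPart π k).inv)
        (hKcomm _ hk1K _ (hKn.conj_mem _ (K.inv_mem hk1K) u))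
    have hc1 : c = 1 := eq_one_of_twist hu hcπ hcu
      ((isPiElem_conj_iff k1 u).mpr hu)
      (by rw [hcu.eq, hc, inv_mul_cancel_right])
    have hcomm : Commute k1 u := mul_inv_eq_iff_eq_mul.mp (mul_inv_eq_one.mp hc1)
    have := pi_central_of_commute H (isPiElem_piPart π k) hu huZ hcomm
    rw [← piPart_mul_piPart' π k]
    exact Z.mul_mem this ((hmemK k).mp hk)
  obtain ⟨x0, -, hx0, hrK, hrH⟩ := relIndex_center H
  have hfac : ∀ g : G, ∃ k ∈ K, ∃ l ∈ L, g = k * l := exists_factor (by
    show (sz x).Coprime (sz h)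
    rw [hx, sz_piPrime H hh hyh]; exact H.hcop.symm)
  have hcent : ∀ u : G, IsPiElem πᶜ u → u ∈ L → u ∉ Z → Subgroup.centralizer ({u} : Set G) = L := by
    intro u hu huL huZ
    refine cent_eq_of_le ?_ ((sz_piPrime H hu huZ).trans (sz_piPrime H hh hyh).symm)
    intro g hg
    obtain ⟨k, hk, l, hl, rfl⟩ := hfac g
    have hlu : l * u * l⁻¹ ∈ L := L.mul_mem (L.mul_mem hl huL) (L.inv_mem hl)
    have e : k * (l * u * l⁻¹) * k⁻¹ = u := by
      have h1 : k * l * u * (k * l)⁻¹ = u := by
        rw [(mem_cent_iff.mp hg).eq, mul_inv_cancel_right]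
      calc k * (l * u * l⁻¹) * k⁻¹ = k * l * u * (k * l)⁻¹ := by group
        _ = u := h1

    have hkZ := key k hk _ ((isPiElem_conj_iff l u).mpr hu) hlu
      (fun hz => huZ (by
        have := (Subgroup.center G).mul_mem hz (one_mem _)
        have e2 : l⁻¹ * (l * u * l⁻¹) * l = l * u * l⁻¹ := by
          rw [Subgroup.mem_center_iff.mp hz l⁻¹, inv_mul_cancel_right]
        rw [show l⁻¹ * (l * u * l⁻¹) * l = u by group] at e2
        exact e2.symm ▸ hz)) (e.symm ▸ huL)
    exact L.mul_mem (hZle h hkZ) hl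
  have hLcomm : ∀ a ∈ L, ∀ b ∈ L, Commute a b := by
    intro a ha b hb
    by_cases ha2 : piPart' π a ∈ Z
    · have : a ∈ Z := by
        rw [← piPart_mul_piPart' π a]; exact Z.mul_mem (hLπ a ha) ha2
      exact (Subgroup.mem_center_iff.mp this b).symm
    · have h1 := hcent _ (isPiElem_piPart' π a) (piPart'_mem π a ha) ha2
      have h2 : Commute b (piPart' π a) := mem_cent_iff.mp (h1.symm ▸ hb)
      have h3 : Commute b (piPart π a) := Subgroup.mem_center_iff.mp (hLπ a ha) b
      have := h3.mul_right h2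
      rw [piPart_mul_piPart'] at this
      exact this.symm
  refine ⟨⟨⟨fun a b => Subtype.ext (hKcomm a a.2 b b.2).eq⟩⟩,
    ⟨⟨fun a b => Subtype.ext (hLcomm a a.2 b b.2).eq⟩⟩, ?_, ?_⟩
  · -- Frobenius complement
    set f := QuotientGroup.mk' Z
    have hlift : ∀ g : G, f g ∈ L.map f → g ∈ L := by
      rintro g ⟨a, ha, e⟩
      have hz : a⁻¹ * g ∈ Z := QuotientGroup.eq.mp e
      have := L.mul_mem ha (hZle h hz)
      rwa [mul_inv_cancel_left] at this
    refine ⟨?_, ?_, ?_⟩
    · intro hbot
      refine hyh ((QuotientGroup.eq_one_iff h).mp ?_)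
      exact Subgroup.mem_bot.mp (hbot ▸ Subgroup.mem_map_of_mem f
        (show h ∈ L from Subgroup.mem_centralizer_singleton_iff.mpr rfl))
    · intro htop
      have h1 : piPart π x ∈ L := hlift _ (htop ▸ Subgroup.mem_top _)
      have h2 : piPart π x ∈ Z := hKL _ (piPart_mem π x
        (Subgroup.mem_centralizer_singleton_iff.mpr rfl)) h1
      rw [sz_eq_one_iff.mpr h2] at hx1
      have := H.hn; omega
    intro gb hgb
    obtain ⟨g, rfl⟩ := QuotientGroup.mk'_surjective Z gb
    rw [Subgroup.eq_bot_iff_forall]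
    rintro ub ⟨hu1, hu2⟩
    obtain ⟨u, rfl⟩ := QuotientGroup.mk'_surjective Z ub
    replace hu2 : f u ∈ MulAut.conj (f g) • L.map f := hu2
    rw [Subgroup.mem_pointwise_smul_iff_inv_smul_mem, MulAut.smul_def,
      ← map_inv, MulAut.conj_apply, inv_inv, ← map_inv, ← map_mul, ← map_mul] at hu2
    have huL := hlift u hu1
    have hu'L := hlift _ hu2
    by_contra hne
    have hu2Z : piPart' π u ∉ Z := fun hz => hne ((QuotientGroup.eq_one_iff u).mpr (by
      rw [← piPart_mul_piPart' π u]; exact Z.mul_mem (hLπ u huL) hz))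
    obtain ⟨k, hk, l, hl, rfl⟩ := hfac g
    set v := (k * l)⁻¹ * u * (k * l)
    have hv : piPart' π v = (k * l)⁻¹ * piPart' π u * (k * l) := by
      refine (piPart_unique (π := π) (a := (k * l)⁻¹ * piPart π u * (k * l))
        (b := (k * l)⁻¹ * piPart' π u * (k * l)) ?_ ?_ ?_ ?_).2
      · have hmap : ∀ w : G, (MulAut.conj (k * l)⁻¹).toMonoidHom w = (k * l)⁻¹ * w * (k * l) :=
          fun w => by simp [mul_assoc]
        rw [← hmap, ← hmap]
        exact (commute_piPart_piPart' π u).map _
      · simpa using (isPiElem_conj_iff (k * l)⁻¹ _).mpr (isPiElem_piPart π u)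
      · simpa using (isPiElem_conj_iff (k * l)⁻¹ _).mpr (isPiElem_piPart' π u)
      · calc (k * l)⁻¹ * piPart π u * (k * l) * ((k * l)⁻¹ * piPart' π u * (k * l))
            = (k * l)⁻¹ * (piPart π u * piPart' π u) * (k * l) := by group
          _ = v := by rw [piPart_mul_piPart']
    have hkZ : k⁻¹ ∈ Z := by
      refine key k⁻¹ (K.inv_mem hk) _ (isPiElem_piPart' π u) (piPart'_mem π u huL) hu2Z ?_
      have h1 : l * piPart' π v * l⁻¹ ∈ L :=
        L.mul_mem (L.mul_mem hl (piPart'_mem π v hu'L)) (L.inv_mem hl)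
      rw [hv] at h1
      simpa [mul_assoc] using h1
    refine hgb ⟨k * l, L.mul_mem (hZle h ?_) hl, rfl⟩
    simpa using Z.inv_mem hkZ
  · -- the kernel
    set f := QuotientGroup.mk' Z
    ext gb
    obtain ⟨g, rfl⟩ := QuotientGroup.mk'_surjective Z gb
    constructor
    · intro hg
      rcases hg with hg | hg
      · rw [hg]; exact one_mem _
      obtain ⟨k, hk, l, hl, rfl⟩ := hfac g
      by_cases hlZ : piPart' π l ∈ Z
      · have : l ∈ Z := by rw [← piPart_mul_piPart' π l]; exact Z.mul_mem (hLπ l hl) hlZ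
        refine ⟨k * l, K.mul_mem hk (hZle x this), rfl⟩
      exfalso
      -- `k ↦ ⁅k,l⁆`
      let φ : K →* K := MonoidHom.mk' (fun a => ⟨a.1 * (l * a.1⁻¹ * l⁻¹),
          K.mul_mem a.2 (hKn.conj_mem _ (K.inv_mem a.2) l)⟩) (fun a b => Subtype.ext (by
        show a.1 * b.1 * (l * (a.1 * b.1)⁻¹ * l⁻¹) =
          a.1 * (l * a.1⁻¹ * l⁻¹) * (b.1 * (l * b.1⁻¹ * l⁻¹))
        have c := hKcomm _ (K.mul_mem b.2 (hKn.conj_mem _ (K.inv_mem b.2) l)) _
          (hKn.conj_mem _ (K.inv_mem a.2) l)
        calc a.1 * b.1 * (l * (a.1 * b.1)⁻¹ * l⁻¹)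
            = a.1 * ((b.1 * (l * b.1⁻¹ * l⁻¹)) * (l * a.1⁻¹ * l⁻¹)) := by group
          _ = a.1 * ((l * a.1⁻¹ * l⁻¹) * (b.1 * (l * b.1⁻¹ * l⁻¹))) := by rw [c.eq]
          _ = _ := by group))
      have hker : ∀ a : K, φ a = 1 → (a : G) ∈ Z := by
        intro a ha
        have h1 : Commute (a : G) l := by
          have := congrArg (fun z : K => (z : G)) ha
          have e : (a : G) * (l * (a : G)⁻¹ * l⁻¹) = 1 := this
          rw [← mul_assoc, ← mul_assoc, mul_inv_eq_one, mul_inv_eq_iff_eq_mul] at e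
          exact e
        have h2 : Commute (a : G) (piPart' π l) := commute_piPart' π l h1
        exact hKL _ a.2 (hcent _ (isPiElem_piPart' π l) (piPart'_mem π l hl) hlZ ▸
          mem_cent_iff.mpr h2)
      have hrange : Disjoint φ.range (Z.subgroupOf K) := by
        rw [Subgroup.disjoint_def]
        rintro _ ⟨a, rfl⟩ hz
        set c : G := (φ a : G) with hcdef
        have hcZ : c ∈ Z := hz
        set a1 := piPart π (a : G)
        have ha' := (hmemK _).mp a.2
        have ec : c = a1 * (l * a1⁻¹ * l⁻¹) := by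
          have hcm := Subgroup.mem_center_iff.mp ha'
          show (a : G) * (l * (a : G)⁻¹ * l⁻¹) = _
          conv_lhs => rw [← piPart_mul_piPart' π (a : G)]
          calc a1 * piPart' π (a : G) * (l * (a1 * piPart' π (a : G))⁻¹ * l⁻¹)
              = a1 * ((piPart' π (a : G) * l * (piPart' π (a : G))⁻¹) * a1⁻¹ * l⁻¹) := by group
            _ = a1 * (l * a1⁻¹ * l⁻¹) := by rw [← hcm l, mul_inv_cancel_right]
        have hcπ : IsPiElem π c := by
          rw [ec]
          exact (isPiElem_piPart π _).mul ((isPiElem_conj_iff l _).mpr (isPiElem_piPart π _).inv)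
            (hKcomm _ (piPart_mem π _ a.2) _
              (hKn.conj_mem _ (K.inv_mem (piPart_mem π _ a.2)) l))
        -- conjugating `l` by `a1` gives `c * l`
        set l2 := piPart' π l
        have el : a1 * l * a1⁻¹ = c * l := by rw [ec]; group
        have el2 : a1 * l2 * a1⁻¹ = l2 * piPart' π c := by
          have hcl : Commute (piPart π c) (piPart' π c) := commute_piPart_piPart' π c
          have h1 := (piPart_unique (π := π) (g := a1 * l * a1⁻¹)
            (show Commute (a1 * piPart π l * a1⁻¹) (a1 * piPart' π l * a1⁻¹) from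
              (commute_piPart_piPart' π l).map (MulAut.conj a1).toMonoidHom)
            ((isPiElem_conj_iff a1 _).mpr (isPiElem_piPart π l))
            ((isPiElem_conj_iff a1 _).mpr (isPiElem_piPart' π l))
            (show a1 * piPart π l * a1⁻¹ * (a1 * piPart' π l * a1⁻¹) = a1 * l * a1⁻¹ by
              rw [conj_mul, piPart_mul_piPart'])).2
          have h2 := (piPart_unique (π := π) (g := c * l) (a := c * piPart π l) (b := l2)
            ((show Commute c l2 from (Subgroup.mem_center_iff.mp hcZ l2).symm).mul_left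
              (commute_piPart_piPart' π l))
            (hcπ.mul (isPiElem_piPart π l) (Subgroup.mem_center_iff.mp hcZ _ : _ = _).symm)
            (isPiElem_piPart' π l) (by rw [mul_assoc, piPart_mul_piPart'])).2
          rw [el, h2] at h1
          rw [piPart'_of_pi hcπ, mul_one]
          exact h1.symm
        rw [piPart'_of_pi hcπ, mul_one, mul_inv_eq_iff_eq_mul] at el2
        have ha1Z := pi_central_of_commute H (isPiElem_piPart π (a : G)) (isPiElem_piPart' π l)
          hlZ el2
        refine Subtype.ext ?_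
        show c = 1
        rw [ec, Subgroup.mem_center_iff.mp (Z.inv_mem ha1Z) l, mul_inv_cancel_right,
          mul_inv_cancel]
      letI : CommGroup ↥K :=
        { (inferInstance : Group ↥K) with mul_comm := fun a b => Subtype.ext (hKcomm a a.2 b b.2).eq }
      have htop : φ.range ⊔ Z.subgroupOf K = ⊤ := by
        refine Subgroup.eq_top_of_le_card _ ?_
        rw [PiMany_card_sup hrange, ← Subgroup.index_ker]
        have hle : φ.ker ≤ Z.subgroupOf K := fun a ha => hker a ha
        calc Nat.card K = Nat.card φ.ker * φ.ker.index := (Subgroup.card_mul_index _).symm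
          _ ≤ Nat.card (Z.subgroupOf K) * φ.ker.index :=
            Nat.mul_le_mul_right _ (Subgroup.card_le_of_le hle)
          _ = _ := mul_comm _ _
      obtain ⟨r, ⟨a, rfl⟩, z, hz, e⟩ :=
        Subgroup.mem_sup.mp (htop ▸ Subgroup.mem_top (⟨k, hk⟩ : K))
      refine hg (f (a : G)) ?_
      rw [Subgroup.mem_pointwise_smul_iff_inv_smul_mem, MulAut.smul_def, ← map_inv,
        MulAut.conj_apply, inv_inv, ← map_inv, ← map_mul, ← map_mul]
      refine Subgroup.mem_map_of_mem f ?_
      have e' : (a : G) * (l * (a : G)⁻¹ * l⁻¹) * (z : G) = k := congrArg Subtype.val e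
      have : (a : G)⁻¹ * (k * l) * a = (z : G) * l := by
        have hzc := Subgroup.mem_center_iff.mp (show (z : G) ∈ Z from hz)
        rw [← e', mul_assoc ((a : G) * _) (z : G) l, ← hzc l]
        calc (a : G)⁻¹ * ((a : G) * (l * (a : G)⁻¹ * l⁻¹) * (l * (z : G))) * a
            = l * ((a : G)⁻¹ * (z : G) * a) := by group
          _ = l * (z : G) := by rw [hzc (a : G)⁻¹, inv_mul_cancel_right]
      rw [this]
      exact L.mul_mem (hZle h hz) hl
    · rintro ⟨k, hk, e⟩
      by_cases hkZ : k ∈ Z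
      · exact Or.inl (e ▸ (QuotientGroup.eq_one_iff k).mpr hkZ)
      refine Or.inr fun gb hmem => ?_
      obtain ⟨c, rfl⟩ := QuotientGroup.mk'_surjective Z gb
      rw [← e, Subgroup.mem_pointwise_smul_iff_inv_smul_mem, MulAut.smul_def, ← map_inv,
        MulAut.conj_apply, inv_inv, ← map_inv, ← map_mul, ← map_mul] at hmem
      obtain ⟨a, ha, ea⟩ := hmem
      have hz : a⁻¹ * (c⁻¹ * k * c) ∈ Z := QuotientGroup.eq.mp ea
      have hL' : c⁻¹ * k * c ∈ L := by
        have := L.mul_mem ha (hZle h hz)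
        rwa [mul_inv_cancel_left] at this
      have hK' : c⁻¹ * k * c ∈ K := by simpa using hKn.conj_mem k hk c⁻¹
      have h2 := hKL _ hK' hL'
      refine hkZ ?_
      have e2 : c * (c⁻¹ * k * c) * c⁻¹ = c⁻¹ * k * c := by
        rw [Subgroup.mem_center_iff.mp h2 c, mul_inv_cancel_right]
      rw [show c * (c⁻¹ * k * c) * c⁻¹ = k by group] at e2
      exact e2.symm ▸ h2

end Hyp

end Cfsg.Agent.FG78.CoMax
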