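import Cfsg.Agent.FG78.CoprimeMaxBasic
import Cfsg.Agent.FG78.CosseyWang
import Cfsg.Prelude.Def_Solvable

set_option autoImplicit false

/-!
Groups whose two largest class sizes are coprime: the centre quotient is a Frobenius group with
abelian kernel and complement (helper93).
-/

namespace Cfsg.Agent.FG78.CoMax

open scoped Pointwise

variable {G : Type*} [Group G] [Finite G]

/-- The hypothesis: the two largest class sizes are coprime. -/
structure Hyp (G : Type*) [Group G] (m n : ℕ) : Prop where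
  hmn : n < m
  hn : 1 < n
  hcop : m.Coprime n
  htop : ∀ z : G, sz z ≤ m
  hsec : ∀ z : G, sz z < m → sz z ≤ n
  hxe : ∃ x : G, sz x = n
  hye : ∃ y : G, sz y = m

/-- the primes of `m` -/
abbrev piOf (m : ℕ) : Set ℕ := {q | q.Prime ∧ q ∣ m}

variable {m n : ℕ}

theorem sz_eq_one_iff {z : G} : sz z = 1 ↔ z ∈ Subgroup.center G := by
  rw [sz, Subgroup.index_eq_one, Subgroup.eq_top_iff', Subgroup.mem_center_iff]
  exact forall_congr' fun g => Subgroup.mem_centralizer_singleton_iff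

theorem eq_one_of_pow_eq_one {π : Set ℕ} {t : G} {k : ℕ} (ht : IsPiElem π t)
    (hk : ∀ q : ℕ, q.Prime → q ∈ π → ¬ q ∣ k) (h : t ^ k = 1) : t = 1 := by
  rw [← orderOf_eq_one_iff]
  by_contra hne
  obtain ⟨q, hq, hd⟩ := Nat.exists_prime_and_dvd hne
  exact hk q hq (ht q hq hd) (hd.trans (orderOf_dvd_of_pow_eq_one h))

theorem eq_one_of_twist {π : Set ℕ} {z d v : G} (hz : IsPiElem πᶜ z) (hd : IsPiElem π d)
    (hc : Commute z d) (hv : IsPiElem πᶜ v) (e : v = z * d) : d = 1 := by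
  refine hd.eq_one ?_
  rw [show d = z⁻¹ * v by rw [e, inv_mul_cancel_left]]
  exact hz.inv.mul hv (by rw [e]; exact ((Commute.refl z).mul_right hc).inv_left)

/-- the differences of the class of `z` -/
def diffs (z : G) : Set G := Set.range fun a : G => z⁻¹ * (a * z * a⁻¹)

theorem closure_diffs_normal (z : G) : (Subgroup.closure (diffs z)).Normal := by
  rw [← Subgroup.normalizer_eq_top_iff, eq_top_iff]
  intro h _
  rw [Subgroup.mem_normalizer_iff]
  have key : ∀ h : G, ∀ k ∈ Subgroup.closure (diffs z), h * k * h⁻¹ ∈ Subgroup.closure (diffs z) := by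
    intro h k hk
    induction hk using Subgroup.closure_induction with
    | mem k hk =>
      obtain ⟨a, rfl⟩ := hk
      have e : h * (z⁻¹ * (a * z * a⁻¹)) * h⁻¹ =
          (z⁻¹ * (h * z * h⁻¹))⁻¹ * (z⁻¹ * (h * a * z * (h * a)⁻¹)) := by group
      rw [e]
      exact mul_mem (inv_mem (Subgroup.subset_closure ⟨h, rfl⟩))
        (Subgroup.subset_closure ⟨h * a, rfl⟩)
    | one => simp
    | mul a b _ _ ha hb => rw [← conj_mul]; exact mul_mem ha hb
    | inv a _ ha => rw [← conj_inv]; exact inv_mem ha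
  refine fun k => ⟨fun hk => key h k hk, fun hk => ?_⟩
  have := key h⁻¹ _ hk
  simpa [mul_assoc] using this

theorem CW_relIndex_dvd (N C : Subgroup G) [N.Normal] : C.relIndex N ∣ C.index := by
  exact CW.relIndex_dvd_of_normal N C

theorem PiMany_card_sup {N : Type*} [CommGroup N] [Finite N] {A B : Subgroup N}
    (h : Disjoint A B) : Nat.card ↥(A ⊔ B) = Nat.card A * Nat.card B := by
  have hinj : Function.Injective fun ab : A × B =>
      (⟨(ab.1 : N) * ab.2, Subgroup.mul_mem_sup ab.1.2 ab.2.2⟩ : ↥(A ⊔ B)) := fun u v e =>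
    Subgroup.mul_injective_of_disjoint h (congrArg Subtype.val e)
  rw [← Nat.card_prod]
  refine (Nat.card_eq_of_bijective _ ⟨hinj, fun z => ?_⟩).symm
  obtain ⟨a, ha, b, hb, e⟩ := Subgroup.mem_sup.mp z.2
  exact ⟨(⟨a, ha⟩, ⟨b, hb⟩), Subtype.ext e⟩

namespace Hyp

variable (H : Hyp G m n)
include H

theorem pi_of_n {q : ℕ} (hq : q.Prime) (hqπ : q ∈ piOf m) : ¬ q ∣ n := fun h =>
  hq.ne_one (Nat.dvd_one.mp (H.hcop ▸ Nat.dvd_gcd hqπ.2 h : q ∣ 1))

theorem pi_of_coprime {k q : ℕ} (hk : k.Coprime m) (hq : q.Prime) (hqπ : q ∈ piOf m) : ¬ q ∣ k :=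
  fun h => hq.ne_one (Nat.dvd_one.mp (hk ▸ Nat.dvd_gcd h hqπ.2 : q ∣ 1))

/-- An element of class size prime to `m` lies, modulo the centre, in a normal abelian `π`-group. -/
theorem exists_abelian (z : G) (hk : (sz z).Coprime m) :
    ∃ (N : Subgroup G) (c e : G), N.Normal ∧ (∀ a ∈ N, ∀ b ∈ N, a * b = b * a) ∧
      (∀ a ∈ N, IsPiElem (piOf m) a) ∧ (∀ a ∈ N, Commute z a) ∧ c ∈ Subgroup.center G ∧ e ∈ N ∧
      z = c * e ∧ (∀ a : G, z⁻¹ * (a * z * a⁻¹) ∈ N) := by
  classical
  obtain ⟨y, hy⟩ := H.hye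
  have hco : (sz z).Coprime (sz y) := hy ▸ hk
  have hzy : sz (z * y) = sz y := le_antisymm (hy ▸ H.htop _) (sz_le_sz_mul hco)
  set N := Subgroup.closure (diffs z) with hN
  haveI hNn : N.Normal := closure_diffs_normal z
  have hNT : N ≤ transl (cls y) := (Subgroup.closure_le _).mpr (by
    rintro _ ⟨a, rfl⟩
    exact fun v hv => translate_cls hco hzy a hv)
  have hNπ : ∀ a ∈ N, IsPiElem (piOf m) a := fun a ha q hq hd =>
    ⟨hq, by
      have := prime_dvd_ncard_of_translation (hNT ha) hq hd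
      rwa [ncard_cls, hy] at this⟩
  have hNz : ∀ a ∈ N, Commute z a := by
    set C := Subgroup.centralizer ({z} : Set G)
    have h1 : C.relIndex N = 1 := by
      refine Nat.eq_one_of_dvd_one ?_
      have hd1 : C.relIndex N ∣ Nat.card N := Subgroup.index_dvd_card _
      have hd2 : C.relIndex N ∣ sz z := by
        rw [show sz z = C.index from rfl]
        exact CW_relIndex_dvd N C
      have hco' : (Nat.card N).Coprime (sz z) := Nat.coprime_of_dvd fun q hq h1 h2 => by
        haveI := Fact.mk hq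
        obtain ⟨a, ha⟩ := exists_prime_orderOf_dvd_card' q h1
        refine pi_of_coprime H hk hq ?_ h2
        exact hNπ a a.2 q hq (by rw [Subgroup.orderOf_coe, ha])
      exact hco' ▸ Nat.dvd_gcd hd1 hd2
    intro a ha
    exact (mem_cent_iff.mp (Subgroup.relIndex_eq_one.mp h1 ha)).symm
  have hd : ∀ a : G, z⁻¹ * (a * z * a⁻¹) ∈ N := fun a => Subgroup.subset_closure ⟨a, rfl⟩
  have hNab : ∀ a ∈ N, ∀ b ∈ N, a * b = b * a := by
    have hgen : ∀ g : G, ∀ b ∈ N, Commute (g * z * g⁻¹) b := fun g b hb => by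
      have h := (hNz _ (hNn.conj_mem b hb g⁻¹)).map (MulAut.conj g).toMonoidHom
      simpa [mul_assoc] using h
    have hle : N ≤ Subgroup.centralizer (N : Set G) := (Subgroup.closure_le _).mpr (by
      rintro _ ⟨a, rfl⟩
      refine Subgroup.mem_centralizer_iff.mpr fun b hb => ?_
      exact ((hNz b hb).inv_left.mul_left (hgen a b hb)).eq.symm)
    exact fun a ha b hb => (Subgroup.mem_centralizer_iff.mp (hle ha) b hb).symm
  letI : CommGroup ↥N :=
    { (inferInstance : Group ↥N) with mul_comm := fun a b => Subtype.ext (hNab a a.2 b b.2) }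
  haveI : Fintype (cls z) := Fintype.ofFinite _
  let d : cls z → N := fun v => ⟨z⁻¹ * v.1, by obtain ⟨a, ha⟩ := v.2; rw [← ha]; exact hd a⟩
  let P : N := ∏ v, d v
  have hPinv : ∀ g : G, P = (⟨z⁻¹ * (g * z * g⁻¹), hd g⟩ : N) ^ (sz z) *
      ⟨g * (P : G) * g⁻¹, hNn.conj_mem _ P.2 g⟩ := by
    intro g
    let σ : cls z ≃ cls z :=
      { toFun := fun v => ⟨g * v.1 * g⁻¹, conj_mem_cls v.2 g⟩
        invFun := fun v => ⟨g⁻¹ * v.1 * g, by simpa using conj_mem_cls v.2 g⁻¹⟩
        left_inv := fun v => Subtype.ext (by simp [mul_assoc])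
        right_inv := fun v => Subtype.ext (by simp [mul_assoc]) }
    let κ : N →* N := MonoidHom.mk' (fun a => ⟨g * a.1 * g⁻¹, hNn.conj_mem _ a.2 g⟩)
      (fun a b => Subtype.ext (conj_mul).symm)
    have hσ : ∀ v, d (σ v) = ⟨z⁻¹ * (g * z * g⁻¹), hd g⟩ * κ (d v) := fun v => Subtype.ext (by
      show z⁻¹ * (g * v.1 * g⁻¹) = z⁻¹ * (g * z * g⁻¹) * (g * (z⁻¹ * v.1) * g⁻¹)
      group)
    calc P = ∏ v, d (σ v) := (σ.prod_comp d).symm
      _ = ∏ v, (⟨z⁻¹ * (g * z * g⁻¹), hd g⟩ * κ (d v)) := by simp only [hσ]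
      _ = (⟨z⁻¹ * (g * z * g⁻¹), hd g⟩ : N) ^ (sz z) * κ P := by
        rw [Finset.prod_mul_distrib, Finset.prod_const, Finset.card_univ, map_prod,
          ← Nat.card_eq_fintype_card, Nat.card_coe_set_eq, ncard_cls]
  have hcopN : (Nat.card N).Coprime (sz z) := Nat.coprime_of_dvd fun q hq h1 h2 => by
    haveI := Fact.mk hq
    obtain ⟨a, ha⟩ := exists_prime_orderOf_dvd_card' q h1
    exact pi_of_coprime H hk hq (hNπ a a.2 q hq (by rw [Subgroup.orderOf_coe, ha])) h2
  obtain ⟨E, hE⟩ := (powCoprime hcopN).surjective P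
  have hE' : E ^ (sz z) = P := hE
  refine ⟨N, z * (E : G), (E : G)⁻¹, hNn, hNab, hNπ, hNz, ?_, inv_mem E.2,
    (mul_inv_cancel_right _ _).symm, hd⟩
  refine Subgroup.mem_center_iff.mpr fun g => ?_
  have hEg : (⟨z⁻¹ * (g * z * g⁻¹), hd g⟩ : N) * ⟨g * (E : G) * g⁻¹, hNn.conj_mem _ E.2 g⟩ = E := by
    refine (powCoprime hcopN).injective ?_
    show (_ * _) ^ sz z = E ^ sz z
    rw [mul_pow]
    refine Eq.trans ?_ hE'.symm
    refine Eq.trans ?_ (hPinv g).symm
    congr 1
    refine Subtype.ext ?_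
    show ((⟨g * (E : G) * g⁻¹, _⟩ : N) ^ sz z : N).1 = g * (P : G) * g⁻¹
    rw [← hE']
    simp [conj_pow]
  have e : z⁻¹ * (g * z * g⁻¹) * (g * (E : G) * g⁻¹) = E := congrArg Subtype.val hEg
  have e' : g * (z * (E : G)) * g⁻¹ = z * E := by
    calc g * (z * (E : G)) * g⁻¹ = z * (z⁻¹ * (g * z * g⁻¹) * (g * (E : G) * g⁻¹)) := by group
      _ = z * E := by rw [e]
  exact mul_inv_eq_iff_eq_mul.mp e'

/-- A representative of class size `n` inside an abelian normal `π`-subgroup. -/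
theorem exists_base : ∃ (N : Subgroup G) (x : G), N.Normal ∧ (∀ a ∈ N, ∀ b ∈ N, a * b = b * a) ∧
    (∀ a ∈ N, IsPiElem (piOf m) a) ∧ x ∈ N ∧ sz x = n := by
  obtain ⟨x, hx⟩ := H.hxe
  obtain ⟨N, c, e, hNn, hNab, hNπ, -, hc, he, hxe, -⟩ := exists_abelian H x (hx ▸ H.hcop.symm)
  refine ⟨N, e, hNn, hNab, hNπ, he, ?_⟩
  rw [← hx, hxe, sz, sz]
  congr 1
  ext g
  rw [mem_cent_iff, mem_cent_iff]
  constructor
  · intro h
    have h0 : Commute g c := Subgroup.mem_center_iff.mp hc g
    exact h0.mul_right h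
  · intro h
    have h0 : Commute g c⁻¹ := Subgroup.mem_center_iff.mp (inv_mem hc) g
    have := h0.mul_right h
    rwa [inv_mul_cancel_left] at this

/-- No element has class size a proper divisor `> 1` of `m`. -/
theorem central_of_dvd {z : G} (hd : sz z ∣ m) (hlt : sz z < m) : z ∈ Subgroup.center G := by
  classical
  obtain ⟨N, x, hNn, hNab, hNπ, hxN, hx⟩ := exists_base H
  have hco : (sz z).Coprime (sz x) := hx ▸ H.hcop.coprime_dvd_left hd
  have hzx : sz (z * x) = sz x := by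
    refine le_antisymm (hx ▸ H.hsec _ ?_) (sz_le_sz_mul hco)
    refine lt_of_le_of_ne (H.htop _) fun e => ?_
    have h := sz_mul_dvd hco
    rw [e, hx] at h
    have := Nat.le_of_dvd (sz_pos z) ((H.hcop).dvd_of_dvd_mul_right h)
    omega
  letI : CommGroup ↥N :=
    { (inferInstance : Group ↥N) with mul_comm := fun a b => Subtype.ext (hNab a a.2 b b.2) }
  haveI : Fintype (cls x) := Fintype.ofFinite _
  have hclsN : ∀ v ∈ cls x, v ∈ N := by rintro _ ⟨a, rfl⟩; exact hNn.conj_mem _ hxN a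
  refine Subgroup.mem_center_iff.mpr fun a => ?_
  set t := z⁻¹ * (a * z * a⁻¹) with ht
  have htv : ∀ v ∈ cls x, t * v ∈ cls x := fun v hv => translate_cls hco hzx a hv
  have htN : t ∈ N := by
    have := N.mul_mem (hclsN _ (htv x (mem_cls_self x))) (inv_mem hxN)
    rwa [mul_inv_cancel_right] at this
  let σ : cls x → cls x := fun v => ⟨t * v.1, htv v v.2⟩
  have hσ : Function.Bijective σ := Finite.injective_iff_bijective.mp fun u v h =>
    Subtype.ext (mul_left_cancel (congrArg Subtype.val h : t * u.1 = t * v.1))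
  let f : cls x → N := fun v => ⟨v.1, hclsN _ v.2⟩
  have h : (⟨t, htN⟩ : N) ^ n * ∏ v, f v = ∏ v, f v := by
    calc (⟨t, htN⟩ : N) ^ n * ∏ v, f v = ∏ v, ((⟨t, htN⟩ : N) * f v) := by
          rw [Finset.prod_mul_distrib, Finset.prod_const, Finset.card_univ,
            ← Nat.card_eq_fintype_card, Nat.card_coe_set_eq, ncard_cls, hx]
      _ = ∏ v, f v := (Equiv.ofBijective σ hσ).prod_comp f
  have ht1 : t = 1 := by
    refine eq_one_of_pow_eq_one (hNπ t htN) (fun q hq hqπ => pi_of_n H hq hqπ) ?_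
    exact congrArg Subtype.val (mul_eq_right.mp h)
  exact mul_inv_eq_iff_eq_mul.mp (inv_mul_eq_one.mp ht1).symm

/-- A `π'`-element of class size prime to `m` is central. -/
theorem central_of_coprime {z : G} (hk : (sz z).Coprime m) (hz : IsPiElem (piOf m)ᶜ z) :
    z ∈ Subgroup.center G := by
  obtain ⟨N, c, e, -, -, hNπ, hNz, -, -, -, hd⟩ := exists_abelian H z hk
  refine Subgroup.mem_center_iff.mpr fun a => ?_
  have ht1 := eq_one_of_twist hz (hNπ _ (hd a)) (hNz _ (hd a))
    ((isPiElem_conj_iff a z).mpr hz) (mul_inv_cancel_left z (a * z * a⁻¹)).symm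
  exact mul_inv_eq_iff_eq_mul.mp (inv_mul_eq_one.mp ht1).symm

/-- `π'`-elements centralizing an element of class size `n` are central. -/
theorem piPrime_central_of_commute {x u : G} (hxπ : IsPiElem (piOf m) x) (hx : sz x = n)
    (hu : IsPiElem (piOf m)ᶜ u) (hc : Commute x u) : u ∈ Subgroup.center G := by
  have e := centralizer_mul_eq (piOf m) hc hxπ hu
  have hdvd : n ∣ sz (x * u) := by
    rw [← hx, sz, sz, e]; exact Subgroup.index_dvd_of_le inf_le_left
  have hne : sz (x * u) ≠ m := fun h => by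
    have := H.hn
    have h1 : n ∣ 1 := H.hcop ▸ Nat.dvd_gcd (h ▸ hdvd) dvd_rfl
    rw [Nat.dvd_one] at h1
    omega
  have heq : sz (x * u) = n := le_antisymm (H.hsec _ (lt_of_le_of_ne (H.htop _) hne))
    (Nat.le_of_dvd (sz_pos _) hdvd)
  have hle : Subgroup.centralizer ({x} : Set G) ≤ Subgroup.centralizer ({u} : Set G) := by
    have h1 : Subgroup.centralizer ({x * u} : Set G) = Subgroup.centralizer ({x} : Set G) := by
      refine Subgroup.eq_of_le_of_card_ge (e ▸ inf_le_left) (le_of_eq ?_)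
      have a1 := Subgroup.card_mul_index (Subgroup.centralizer ({x * u} : Set G))
      have a2 := Subgroup.card_mul_index (Subgroup.centralizer ({x} : Set G))
      rw [show (Subgroup.centralizer ({x * u} : Set G)).index = n from heq] at a1
      rw [show (Subgroup.centralizer ({x} : Set G)).index = n from hx] at a2
      exact Nat.eq_of_mul_eq_mul_right (by have := H.hn; omega) (a2.trans a1.symm)
    rw [← h1, e]; exact inf_le_right
  have hk : sz u ∣ n := hx ▸ Subgroup.index_dvd_of_le hle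
  exact central_of_coprime H (H.hcop.symm.coprime_dvd_left hk) hu

/-- Non-central `π'`-elements have class size `m`. -/
theorem sz_piPrime {h : G} (hh : IsPiElem (piOf m)ᶜ h) (hZ : h ∉ Subgroup.center G) : sz h = m := by
  classical
  obtain ⟨N, x, hNn, hNab, hNπ, hxN, hx⟩ := exists_base H
  have hxh : ¬ Commute x h := fun hc => hZ (piPrime_central_of_commute H (hNπ x hxN) hx hh hc)
  -- `φ a = [h,a]` on `N`
  let φ : N →* N := MonoidHom.mk' (fun a => ⟨h * a.1 * h⁻¹ * a.1⁻¹,
      N.mul_mem (hNn.conj_mem _ a.2 h) (inv_mem a.2)⟩) (fun a b => Subtype.ext (by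
    show h * (a.1 * b.1) * h⁻¹ * (a.1 * b.1)⁻¹ = h * a.1 * h⁻¹ * a.1⁻¹ * (h * b.1 * h⁻¹ * b.1⁻¹)
    have c := hNab _ (N.mul_mem (hNn.conj_mem _ b.2 h) (inv_mem b.2)) _ (inv_mem a.2)
    calc h * (a.1 * b.1) * h⁻¹ * (a.1 * b.1)⁻¹
        = h * a.1 * h⁻¹ * ((h * b.1 * h⁻¹ * b.1⁻¹) * a.1⁻¹) := by group
      _ = h * a.1 * h⁻¹ * (a.1⁻¹ * (h * b.1 * h⁻¹ * b.1⁻¹)) := by rw [c]
      _ = _ := by group))
  have hφ : ∀ a : N, φ a = 1 ↔ Commute h (a : G) := fun a => by
    rw [Subtype.ext_iff]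
    show h * a.1 * h⁻¹ * a.1⁻¹ = 1 ↔ _
    rw [mul_inv_eq_one, mul_inv_eq_iff_eq_mul]
    rfl
  have hdisj : Disjoint φ.ker φ.range := by
    rw [Subgroup.disjoint_def]
    rintro _ hd ⟨a, rfl⟩
    have hc := (hφ _).mp hd
    refine Subtype.ext (eq_one_of_twist (π := piOf m) (z := h⁻¹) (v := (a : G) * h⁻¹ * (a : G)⁻¹)
      hh.inv (hNπ _ (φ a).2) hc.inv_left ((isPiElem_conj_iff _ _).mpr hh.inv) ?_)
    show (a : G) * h⁻¹ * (a : G)⁻¹ = h⁻¹ * (h * (a : G) * h⁻¹ * (a : G)⁻¹)
    group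
  have htop : φ.ker ⊔ φ.range = ⊤ := by
    letI : CommGroup ↥N :=
      { (inferInstance : Group ↥N) with mul_comm := fun a b => Subtype.ext (hNab a a.2 b b.2) }
    refine Subgroup.eq_top_of_le_card _ (le_of_eq ?_)
    rw [PiMany_card_sup hdisj, ← Subgroup.index_ker, Subgroup.card_mul_index]
  letI : CommGroup ↥N :=
    { (inferInstance : Group ↥N) with mul_comm := fun a b => Subtype.ext (hNab a a.2 b b.2) }
  obtain ⟨x0, hx0, x1, hx1, e⟩ :=
    Subgroup.mem_sup.mp (htop ▸ Subgroup.mem_top (⟨x, hxN⟩ : N))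
  have hx1ne : x1 ≠ 1 := by
    rintro rfl
    rw [mul_one] at e
    exact hxh (by have := (hφ _).mp hx0; rw [e] at this; exact this.symm)
  have hc0 : Commute (x0 : G) h := ((hφ _).mp hx0).symm
  have hx0π := hNπ _ x0.2
  have ew := centralizer_mul_eq (piOf m) hc0 hx0π hh
  set S := Subgroup.centralizer ({(x0 : G) * h} : Set G) with hS
  set Cx := Subgroup.centralizer ({x} : Set G) with hCx
  set Ch := Subgroup.centralizer ({h} : Set G) with hCh
  -- the orbit of `x` under `S`
  have horb : Cx.relIndex S < Nat.card φ.range := by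
    have hmove : ∀ s ∈ S, ∃ r : φ.range, s * x * s⁻¹ = (x0 : G) * ((r : N) : G) ∧ (r : N) ≠ 1 := by
      intro s hs
      rw [ew] at hs
      obtain ⟨hs0, hsh⟩ := hs
      obtain ⟨a, ha⟩ := hx1
      have hs0' : s * (x0 : G) * s⁻¹ = x0 := by
        rw [(mem_cent_iff.mp hs0).eq, mul_inv_cancel_right]
      have hsh' : s * h * s⁻¹ = h := by rw [(mem_cent_iff.mp hsh).eq, mul_inv_cancel_right]
      refine ⟨⟨φ ⟨s * a.1 * s⁻¹, hNn.conj_mem _ a.2 s⟩, _, rfl⟩, ?_, ?_⟩
      · have ex : x = (x0 : G) * (φ a : G) := by rw [ha]; exact (congrArg Subtype.val e).symm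
        show s * x * s⁻¹ = (x0 : G) * (h * (s * a.1 * s⁻¹) * h⁻¹ * (s * a.1 * s⁻¹)⁻¹)
        calc s * x * s⁻¹ = (s * (x0 : G) * s⁻¹) * (s * (φ a : G) * s⁻¹) := by rw [ex, conj_mul]
          _ = (x0 : G) * ((s * h * s⁻¹) * (s * a.1 * s⁻¹) * (s * h * s⁻¹)⁻¹ * (s * a.1 * s⁻¹)⁻¹) := by
            rw [hs0']
            show (x0 : G) * (s * (h * a.1 * h⁻¹ * a.1⁻¹) * s⁻¹) = _
            group
          _ = _ := by rw [hsh']
      · intro h1
        refine hx1ne (ha ▸ ?_)
        have h2 : Commute h (s * a.1 * s⁻¹) := (hφ _).mp h1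
        refine (hφ a).mpr ?_
        rw [← hsh'] at h2
        have := h2.map (MulAut.conj s⁻¹).toMonoidHom
        simpa [mul_assoc] using this
    choose r hr1 hr2 using hmove
    let f : S ⧸ Cx.subgroupOf S → {r : φ.range // (r : N) ≠ 1} := fun q =>
      ⟨r q.out (q.out : S).2, hr2 _ _⟩
    have hinj : Function.Injective f := fun q q' hq => by
      have h1 := congrArg (fun r : {r : φ.range // (r : N) ≠ 1} => (x0 : G) * ((r.1 : N) : G)) hq
      simp only [f, ← hr1] at h1
      rw [← QuotientGroup.out_eq' q, ← QuotientGroup.out_eq' q', QuotientGroup.eq,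
        Subgroup.mem_subgroupOf]
      refine Subgroup.mem_centralizer_singleton_iff.mpr ?_
      have h2 := congrArg (fun z => ((q.out : S) : G)⁻¹ * z * ((q'.out : S) : G)) h1
      simpa [mul_assoc] using h2.symm
    calc Cx.relIndex S = Nat.card (S ⧸ Cx.subgroupOf S) := Subgroup.index_eq_card _
      _ ≤ Nat.card {r : φ.range // (r : N) ≠ 1} := Nat.card_le_card_of_injective f hinj
      _ < Nat.card φ.range := by
        haveI := Fintype.ofFinite φ.range
        rw [Nat.card_eq_fintype_card, Nat.card_eq_fintype_card]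
        exact Fintype.card_subtype_lt (x := (1 : φ.range)) (by simp)
  have hNx : N ≤ Cx := fun a ha => mem_cent_iff.mpr (hNab a ha x hxN)
  have hM : Nat.card φ.range ≤ Ch.relIndex Cx := by
    rw [← Subgroup.index_ker]
    have e' : φ.ker = Ch.subgroupOf N := by
      ext a
      rw [MonoidHom.mem_ker, hφ, Subgroup.mem_subgroupOf, hCh, mem_cent_iff]
      exact ⟨Commute.symm, Commute.symm⟩
    rw [e']
    exact Subgroup.relIndex_le_of_le_right hNx Subgroup.index_ne_zero_of_finite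
  have hbig : n < sz ((x0 : G) * h) := by
    have h1 : (Cx ⊓ S).index = Cx.relIndex S * S.index := by
      rw [← Subgroup.inf_relIndex_right, Subgroup.relIndex_mul_index inf_le_right]
    have h2 : Ch.relIndex Cx * Cx.index = (Cx ⊓ Ch).index := by
      rw [← Subgroup.inf_relIndex_left, Subgroup.relIndex_mul_index inf_le_left]
    have h3 : (Cx ⊓ Ch).index ≤ (Cx ⊓ S).index := by
      refine Nat.le_of_dvd (Nat.pos_of_ne_zero Subgroup.index_ne_zero_of_finite)
        (Subgroup.index_dvd_of_le (inf_le_inf_left _ ?_))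
      rw [ew]; exact inf_le_right
    show n < S.index
    have hCxn : Cx.index = n := hx
    have hSpos : 0 < S.index := Nat.pos_of_ne_zero Subgroup.index_ne_zero_of_finite
    have h4 : Nat.card φ.range * n ≤ Cx.relIndex S * S.index := by
      rw [← h1, ← hCxn]
      exact ((Nat.mul_le_mul_right _ hM).trans h2.le).trans h3
    by_contra hle
    push Not at hle
    have h5 : Cx.relIndex S * S.index < Nat.card φ.range * n :=
      (Nat.mul_lt_mul_of_pos_right horb hSpos).trans_le (Nat.mul_le_mul_left _ hle)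
    omega
  have hw : sz ((x0 : G) * h) = m := by
    by_contra hne
    exact absurd (H.hsec _ (lt_of_le_of_ne (H.htop _) hne)) (not_le.mpr hbig)
  have hle0 : S ≤ Subgroup.centralizer ({(x0 : G)} : Set G) := by rw [ew]; exact inf_le_left
  have hd0 : sz (x0 : G) ∣ m := hw ▸ Subgroup.index_dvd_of_le hle0
  rcases lt_or_eq_of_le (H.htop (x0 : G)) with hlt | heq
  · have hz := central_of_dvd H hd0 hlt
    have : S = Ch := by
      rw [ew]
      refine inf_eq_right.mpr fun g _ => mem_cent_iff.mpr (Subgroup.mem_center_iff.mp hz g)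
    rw [← hw]
    show Ch.index = S.index
    rw [this]
  · exfalso
    have : S = Subgroup.centralizer ({(x0 : G)} : Set G) := by
      refine Subgroup.eq_of_le_of_card_ge hle0 (le_of_eq ?_)
      have a1 := Subgroup.card_mul_index S
      have a2 := Subgroup.card_mul_index (Subgroup.centralizer ({(x0 : G)} : Set G))
      rw [show S.index = m from hw] at a1
      rw [show (Subgroup.centralizer ({(x0 : G)} : Set G)).index = m from heq] at a2
      exact Nat.eq_of_mul_eq_mul_right (by have := H.hmn; omega) (a2.trans a1.symm)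
    have hxS : x ∈ S := this ▸ mem_cent_iff.mpr (hNab x hxN _ x0.2)
    rw [ew] at hxS
    exact hxh (mem_cent_iff.mp hxS.2)

end Hyp

end Cfsg.Agent.FG78.CoMax
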