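import Mathlib
import Cfsg.Prelude.Def_Local
import Cfsg.Prelude.Def_Transfer

set_option autoImplicit false

/-! Normal subgroups of groups with a cyclic Sylow subgroup. -/

namespace Cfsg.Agent.FG78

open scoped Pointwise

universe u

variable {p : ℕ} [Fact p.Prime] {X : Type u} [Group X] [Finite X]

theorem dvd_of_zpow_eq {g : X} (hg : g ≠ 1) (hpg : ∃ k, orderOf g = p ^ k) {a b : ℤ}
    (h : g ^ a = g ^ b) : (p : ℤ) ∣ a - b := by
  obtain ⟨k, hk⟩ := hpg
  have hk0 : k ≠ 0 := fun e => hg (by rw [← orderOf_eq_one_iff, hk, e, pow_zero])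
  have h1 : (orderOf g : ℤ) ∣ b - a := Int.modEq_iff_dvd.mp (zpow_eq_zpow_iff_modEq.mp h)
  have h2 : (p : ℤ) ∣ (orderOf g : ℤ) := by
    exact_mod_cast hk ▸ dvd_pow_self p hk0
  exact dvd_sub_comm.mp (h2.trans h1)

/-- An element acting on a `p`-element as an exponent congruent to `1` mod `p`. -/
theorem pow_commute_of_sub_one_dvd {y g : X} (hpg : ∃ k, orderOf g = p ^ k) {b : ℤ}
    (hy : y * g * y⁻¹ = g ^ b) (hb : (p : ℤ) ∣ b - 1) :
    ∃ n : ℕ, Commute (y ^ p ^ n) g := by
  obtain ⟨k, hk⟩ := hpg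
  refine ⟨k, ?_⟩
  have hpow : ∀ m : ℕ, y ^ m * g * (y ^ m)⁻¹ = g ^ (b ^ m) := by
    intro m
    induction m with
    | zero => simp
    | succ m ih =>
      calc y ^ (m + 1) * g * (y ^ (m + 1))⁻¹ = y ^ m * (y * g * y⁻¹) * (y ^ m)⁻¹ := by
            rw [pow_succ]; group
        _ = (y ^ m * g * (y ^ m)⁻¹) ^ b := by rw [hy]; exact (conj_zpow).symm
        _ = _ := by rw [ih, ← zpow_mul, ← pow_succ]
  have h1 : (orderOf g : ℤ) ∣ b ^ p ^ k - 1 := by
    have := dvd_sub_pow_of_dvd_sub (R := ℤ) hb k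
    rw [one_pow, pow_succ] at this
    rw [hk]
    push_cast
    exact (dvd_mul_right _ _).trans this
  have h2 : g ^ (b ^ p ^ k) = g := by
    conv_rhs => rw [← zpow_one g]
    exact zpow_eq_zpow_iff_modEq.mpr (Int.modEq_iff_dvd.mpr h1).symm
  have h3 := hpow (p ^ k)
  rw [h2, mul_inv_eq_iff_eq_mul] at h3
  exact h3

theorem hasNormalPComplement_of_residue (P : Sylow p X) (hP : IsCyclic (P : Subgroup X))
    (h : ∀ y ∈ Subgroup.normalizer ((P : Subgroup X) : Set X), ∀ g ∈ (P : Subgroup X), ∀ b : ℤ,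
      Subgroup.zpowers g = (P : Subgroup X) → y * g * y⁻¹ = g ^ b → g ≠ 1 → (p : ℤ) ∣ b - 1) :
    ∃ N : Subgroup X, N.Normal ∧ N.IsComplement' (P : Subgroup X) := by
  have hN : Subgroup.normalizer ((P : Subgroup X) : Set X) ≤
      Subgroup.centralizer ((P : Subgroup X) : Set X) := by
    obtain ⟨⟨g, hgP⟩, hg⟩ := hP.exists_zpow_surjective
    have hgen : Subgroup.zpowers g = (P : Subgroup X) := by
      refine le_antisymm (Subgroup.zpowers_le.mpr hgP) fun x hx => ?_
      obtain ⟨i, hi⟩ := hg ⟨x, hx⟩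
      exact ⟨i, congrArg Subtype.val hi⟩
    have hpg : ∃ k, orderOf g = p ^ k := by
      obtain ⟨k, hk⟩ := IsPGroup.iff_orderOf.mp P.2 ⟨g, hgP⟩
      exact ⟨k, (Subgroup.orderOf_mk g hgP).symm.trans hk⟩
    intro y hy
    have hcomm : Commute y g := by
      by_cases hg1 : g = 1
      · rw [hg1]; exact Commute.one_right y
      obtain ⟨b, hb⟩ := Subgroup.mem_zpowers_iff.mp
        (hgen.symm ▸ (Subgroup.mem_normalizer_iff.mp hy g).mp hgP : y * g * y⁻¹ ∈ Subgroup.zpowers g)
      obtain ⟨n, hn⟩ := pow_commute_of_sub_one_dvd hpg hb.symm (h y hy g hgP b hgen hb.symm hg1)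
      let N := Subgroup.normalizer ((P : Subgroup X) : Set X)
      let C := (Subgroup.centralizer ((P : Subgroup X) : Set X)).subgroupOf N
      have hCg : ∀ z : X, Commute z g → z ∈ Subgroup.centralizer ((P : Subgroup X) : Set X) := by
        intro z hz
        rw [Subgroup.mem_centralizer_iff]
        intro x hx
        obtain ⟨i, rfl⟩ := Subgroup.mem_zpowers_iff.mp (hgen.symm ▸ hx : x ∈ Subgroup.zpowers g)
        exact (hz.zpow_right i).symm
      haveI : C.Normal := inferInstance
      have h1 : p.Coprime C.index := by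
        refine (Fact.out : p.Prime).coprime_iff_not_dvd.mpr fun hd => P.not_dvd_index (hd.trans ?_)
        have hPC : (P : Subgroup X) ≤ Subgroup.centralizer ((P : Subgroup X) : Set X) ⊓ N := by
          intro x hx
          refine ⟨hCg x ?_, Subgroup.le_normalizer hx⟩
          obtain ⟨i, rfl⟩ := Subgroup.mem_zpowers_iff.mp (hgen.symm ▸ hx : x ∈ Subgroup.zpowers g)
          exact (Commute.refl g).zpow_left i
        refine dvd_trans ?_ (Subgroup.index_dvd_of_le hPC)
        rw [← Subgroup.relIndex_mul_index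
          (inf_le_right : Subgroup.centralizer ((P : Subgroup X) : Set X) ⊓ N ≤ N),
          Subgroup.inf_relIndex_right]
        exact dvd_mul_right _ _
      have h2 : ((⟨y, hy⟩ : N) : N ⧸ C) = 1 := by
        rw [← orderOf_eq_one_iff]
        refine Nat.eq_one_of_dvd_coprimes (h1.pow_left n) ?_
          ((orderOf_dvd_natCard _).trans (dvd_of_eq (Subgroup.index_eq_card C).symm))
        refine orderOf_dvd_of_pow_eq_one ?_
        rw [← QuotientGroup.mk_pow, QuotientGroup.eq_one_iff]
        exact hCg _ hn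
      exact (Subgroup.mem_centralizer_iff.mp
        (Subgroup.mem_subgroupOf.mp ((QuotientGroup.eq_one_iff _).mp h2)) g hgP).symm
    rw [Subgroup.mem_centralizer_iff]
    intro x hx
    obtain ⟨i, rfl⟩ := Subgroup.mem_zpowers_iff.mp (hgen.symm ▸ hx : x ∈ Subgroup.zpowers g)
    exact (hcomm.zpow_right i).symm
  exact ⟨_, inferInstance, MonoidHom.ker_transferSylow_isComplement' P hN⟩

theorem characteristic_of_coprime_card_index (N : Subgroup X) [N.Normal]
    (h : (Nat.card N).Coprime N.index) : N.Characteristic := by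
  refine Subgroup.characteristic_iff_le_map.mpr fun φ => ?_
  have hcard : Nat.card (N.map φ.toMonoidHom) = Nat.card N :=
    Subgroup.card_map_of_injective φ.injective
  refine (Subgroup.eq_of_le_of_card_ge ?_ hcard.ge).ge
  intro x hx
  rw [← QuotientGroup.eq_one_iff, ← orderOf_eq_one_iff]
  refine Nat.eq_one_of_dvd_coprimes h ?_
    ((orderOf_dvd_natCard _).trans (dvd_of_eq (Subgroup.index_eq_card N).symm))
  refine (orderOf_map_dvd (QuotientGroup.mk' N) x).trans ((?_ : orderOf x ∣ _).trans (dvd_of_eq hcard))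
  exact (dvd_of_eq (Subgroup.orderOf_mk x hx).symm).trans (orderOf_dvd_natCard _)

/-- In `C = C(V)`, `V` a nontrivial subgroup of a cyclic Sylow subgroup, there is a normal
`p`-complement, and the residue criterion holds for any normal subgroup meeting both sides. -/
theorem cyclic_sylow_structure (P : Sylow p X) (hP : IsCyclic (P : Subgroup X)) (H : Subgroup X)
    [H.Normal] (h1 : p ∣ Nat.card H) (h2 : p ∣ H.index) :
    Cfsg.HasNormalPComplement p H ∧ Cfsg.IsPSolvable p X := by
  have hp := (Fact.out : p.Prime)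
  haveI := hP
  obtain ⟨⟨g, hgP⟩, hg⟩ := hP.exists_zpow_surjective
  have hgen : Subgroup.zpowers g = (P : Subgroup X) := by
    refine le_antisymm (Subgroup.zpowers_le.mpr hgP) fun x hx => ?_
    obtain ⟨i, hi⟩ := hg ⟨x, hx⟩
    exact ⟨i, congrArg Subtype.val hi⟩
  have hpP : ∀ x ∈ (P : Subgroup X), ∃ k, orderOf x = p ^ k := fun x hx => by
    obtain ⟨k, hk⟩ := IsPGroup.iff_orderOf.mp P.2 ⟨x, hx⟩
    exact ⟨k, (Subgroup.orderOf_mk x hx).symm.trans hk⟩
  have hgH : g ∉ H := by
    intro e
    have : (P : Subgroup X) ≤ H := hgen ▸ Subgroup.zpowers_le.mpr e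
    exact P.not_dvd_index (h2.trans (Subgroup.index_dvd_of_le this))
  have hindex : ¬ p ∣ ((P : Subgroup X).subgroupOf H).index := by
    obtain ⟨Q⟩ := (inferInstance : Nonempty (Sylow p H))
    intro hd
    obtain ⟨R, hR⟩ := (Q.2.map H.subtype).exists_le_sylow
    obtain ⟨c, hc⟩ := MulAction.exists_smul_eq X R P
    have hle : (Q : Subgroup H).map (MulAut.conjNormal c : MulAut H).toMonoidHom ≤
        (P : Subgroup X).subgroupOf H := by
      rintro x ⟨z, hz, rfl⟩
      rw [Subgroup.mem_subgroupOf]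
      show ((MulAut.conjNormal c z : H) : X) ∈ _
      rw [MulAut.conjNormal_apply, ← hc, Sylow.coe_subgroup_smul]
      exact Subgroup.smul_mem_pointwise_smul _ (MulAut.conj c) _
        (hR (Subgroup.mem_map_of_mem H.subtype hz))
    have := hd.trans (Subgroup.index_dvd_of_le hle)
    rw [MulEquiv.toMonoidHom_eq_coe, Subgroup.index_map_equiv] at this
    exact Q.not_dvd_index this
  let P0 : Sylow p H := (P.2.comap_of_injective H.subtype H.subtype_injective).toSylow hindex
  have hP0cyc : IsCyclic (P0 : Subgroup H) := by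
    show IsCyclic ↥((P : Subgroup X).subgroupOf H)
    exact isCyclic_of_injective ((H.subtype.comp ((P : Subgroup X).subgroupOf H).subtype).codRestrict
      (P : Subgroup X) fun z => z.2) fun a b h =>
        Subtype.ext (Subtype.ext (congrArg (fun z : ↥(P : Subgroup X) => (z : X)) h))
  obtain ⟨K, hK, hKP⟩ := hasNormalPComplement_of_residue P0 hP0cyc (by
    intro y hy g0 hg0 b hgen0 hb hg01
    have hg0P : (g0 : X) ∈ (P : Subgroup X) := hg0
    have hg0X : (g0 : X) ≠ 1 := fun e => hg01 (Subtype.ext e)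
    have hpg0 := hpP _ hg0P
    have hbX : (y : X) * g0 * (y : X)⁻¹ = (g0 : X) ^ b := by
      rw [← SubgroupClass.coe_zpow, ← hb]; rfl
    set C0 := Subgroup.centralizer ({(g0 : X)} : Set X) with hC0
    have hPC0 : (P : Subgroup X) ≤ C0 := by
      intro x hx
      obtain ⟨i, hi⟩ := Subgroup.mem_zpowers_iff.mp (hgen.symm ▸ hx : x ∈ Subgroup.zpowers g)
      obtain ⟨j, hj⟩ := Subgroup.mem_zpowers_iff.mp (hgen.symm ▸ hg0P : (g0 : X) ∈ Subgroup.zpowers g)
      rw [Subgroup.mem_centralizer_singleton_iff, ← hi, ← hj]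
      exact ((Commute.refl g).zpow_zpow i j).eq
    have hb0 : ∃ j : ℤ, (y : X)⁻¹ * g0 * y = (g0 : X) ^ j := by
      obtain ⟨j, hj⟩ := Subgroup.mem_zpowers_iff.mp
        (hgen0.symm ▸ (Subgroup.mem_normalizer_iff'.mp hy (y⁻¹ * g0)).mpr
          (by simpa using hg0) : y⁻¹ * g0 * y ∈ Subgroup.zpowers g0)
      exact ⟨j, by rw [← SubgroupClass.coe_zpow, hj]; rfl⟩
    -- adjust `y` by `c ∈ C0` to normalise `P`
    have hyC0 : ∀ x ∈ C0, (y : X) * x * (y : X)⁻¹ ∈ C0 := by
      intro x hx
      rw [Subgroup.mem_centralizer_singleton_iff] at hx ⊢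
      obtain ⟨j, hj⟩ := hb0
      have e : x * ((y : X)⁻¹ * g0 * y) = ((y : X)⁻¹ * g0 * y) * x := by
        rw [hj]; exact ((show Commute x (g0 : X) from hx).zpow_right j).eq
      calc (y : X) * x * (y : X)⁻¹ * g0 = (y : X) * (x * ((y : X)⁻¹ * g0 * y)) * (y : X)⁻¹ := by group
        _ = (y : X) * (((y : X)⁻¹ * g0 * y) * x) * (y : X)⁻¹ := by rw [e]
        _ = _ := by group
    let Py : Sylow p X := (y : X) • P
    have hPy : (Py : Subgroup X) ≤ C0 := by
      intro x hx
      rw [Sylow.coe_subgroup_smul, Subgroup.mem_pointwise_smul_iff_inv_smul_mem] at hx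
      have := hyC0 _ (hPC0 hx)
      simpa [MulAut.smul_def, mul_assoc] using this
    obtain ⟨c, hc⟩ := MulAction.exists_smul_eq C0 (Py.subtype hPy) (P.subtype hPC0)
    rw [Sylow.smul_subtype] at hc
    have hc' : ((c : X) * y) • P = P := by
      rw [mul_smul]
      exact Sylow.subtype_injective hc
    have hcy : (c : X) * y ∈ Subgroup.normalizer ((P : Subgroup X) : Set X) :=
      Sylow.smul_eq_iff_mem_normalizer.mp hc'
    obtain ⟨a, ha⟩ := Subgroup.mem_zpowers_iff.mp
      (hgen.symm ▸ (Subgroup.mem_normalizer_iff.mp hcy g).mp hgP :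
        (c : X) * y * g * ((c : X) * y)⁻¹ ∈ Subgroup.zpowers g)
    have hab : (p : ℤ) ∣ b - a := by
      obtain ⟨j, hj⟩ := Subgroup.mem_zpowers_iff.mp (hgen.symm ▸ hg0P : (g0 : X) ∈ Subgroup.zpowers g)
      refine dvd_of_zpow_eq hg0X hpg0 ?_
      have e1 : (c : X) * y * g0 * ((c : X) * y)⁻¹ = (g0 : X) ^ b := by
        have e2 : Commute (c : X) ((g0 : X) ^ b) :=
          (show Commute (c : X) g0 from Subgroup.mem_centralizer_singleton_iff.mp c.2).zpow_right b
        calc (c : X) * y * g0 * ((c : X) * y)⁻¹ = (c : X) * ((y : X) * g0 * (y : X)⁻¹) * (c : X)⁻¹ := by group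
          _ = (g0 : X) ^ b := by rw [hbX, e2.eq, mul_inv_cancel_right]
      rw [← e1]
      conv_lhs => rw [← hj]
      rw [← conj_zpow, ← ha, ← zpow_mul, mul_comm a j, zpow_mul, hj]
    have hKH : ∀ x : H, (QuotientGroup.mk' H) (x : X) = 1 := fun x => (QuotientGroup.eq_one_iff _).mpr x.2
    -- `c` normalises `D = C0 ⊓ (P ⊔ H)`
    set PH := (P : Subgroup X) ⊔ H with hPH
    have hcPH : (c : X) ∈ Subgroup.normalizer (PH : Set X) := by
      have h3 : (c : X) * y ∈ Subgroup.normalizer (PH : Set X) := by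
        rw [Subgroup.mem_normalizer_iff_map_conj_eq] at hcy ⊢
        rw [hPH, Subgroup.map_sup, hcy]
        congr 1
        ext x
        constructor
        · rintro ⟨z, hz, rfl⟩; exact Subgroup.Normal.conj_mem ‹H.Normal› z hz _
        · intro hx
          refine ⟨((c : X) * y)⁻¹ * x * ((c : X) * y), Subgroup.Normal.conj_mem' ‹H.Normal› x hx _, ?_⟩
          simp [mul_assoc]
      have h4 : (y : X) ∈ Subgroup.normalizer (PH : Set X) :=
        Subgroup.le_normalizer ((le_sup_right : H ≤ PH) y.2)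
      simpa using Subgroup.mul_mem _ h3 (Subgroup.inv_mem _ h4)
    set D := C0 ⊓ PH with hD
    have hPD : (P : Subgroup X) ≤ D := le_inf hPC0 le_sup_left
    have hcD : ∀ x ∈ D, (c : X) * x * (c : X)⁻¹ ∈ D := fun x hx =>
      ⟨C0.mul_mem (C0.mul_mem c.2 hx.1) (C0.inv_mem c.2), (Subgroup.mem_normalizer_iff.mp hcPH x).mp hx.2⟩
    let Pc : Sylow p X := (c : X) • P
    have hPc : (Pc : Subgroup X) ≤ D := by
      intro x hx
      rw [Sylow.coe_subgroup_smul, Subgroup.mem_pointwise_smul_iff_inv_smul_mem] at hx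
      have := hcD _ (hPD hx)
      simpa [MulAut.smul_def, mul_assoc] using this
    obtain ⟨d, hd⟩ := MulAction.exists_smul_eq D (Pc.subtype hPc) (P.subtype hPD)
    rw [Sylow.smul_subtype] at hd
    have hd' : ((d : X) * c) • P = P := by rw [mul_smul]; exact Sylow.subtype_injective hd
    have hdc : (d : X) * c ∈ Subgroup.normalizer ((P : Subgroup X) : Set X) :=
      Sylow.smul_eq_iff_mem_normalizer.mp hd'
    obtain ⟨e, he⟩ := Subgroup.mem_zpowers_iff.mp
      (hgen.symm ▸ (Subgroup.mem_normalizer_iff.mp hdc g).mp hgP :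
        (d : X) * c * g * ((d : X) * c)⁻¹ ∈ Subgroup.zpowers g)
    have he1 : (p : ℤ) ∣ e - 1 := by
      obtain ⟨j, hj⟩ := Subgroup.mem_zpowers_iff.mp (hgen.symm ▸ hg0P : (g0 : X) ∈ Subgroup.zpowers g)
      refine dvd_of_zpow_eq hg0X hpg0 ?_
      have e2 : Commute ((d : X) * c) (g0 : X) :=
        (show Commute (d : X) g0 from Subgroup.mem_centralizer_singleton_iff.mp d.2.1).mul_left
          (Subgroup.mem_centralizer_singleton_iff.mp c.2)
      rw [zpow_one]
      conv_rhs => rw [← mul_inv_cancel_right (g0 : X) ((d : X) * c), ← e2.eq]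
      rw [← hj, ← conj_zpow, ← he, ← zpow_mul, ← zpow_mul, mul_comm]
    let f := QuotientGroup.mk' H
    have hfd : Commute (f d) (f g) := by
      have hmem : f d ∈ (P : Subgroup X).map f := by
        have : (d : X) ∈ ((H ⊔ (P : Subgroup X) : Subgroup X) : Set X) := by
          rw [sup_comm]; exact d.2.2
        rw [Subgroup.normal_mul] at this
        obtain ⟨z, hz, w, hw, hzw⟩ := this
        refine ⟨w, hw, ?_⟩
        rw [← hzw, map_mul, show f z = 1 from (QuotientGroup.eq_one_iff _).mpr hz, one_mul]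
      rw [← hgen, MonoidHom.map_zpowers, Subgroup.mem_zpowers_iff] at hmem
      obtain ⟨i, hi⟩ := hmem
      rw [← hi]
      exact (Commute.refl _).zpow_left i
    have hae : (p : ℤ) ∣ a - e := by
      refine dvd_of_zpow_eq (g := f g) ?_ ?_ ?_
      · exact fun h => hgH ((QuotientGroup.eq_one_iff g).mp h)
      · obtain ⟨k, hk⟩ := hpP g hgP
        obtain ⟨i, -, hi⟩ := (Nat.dvd_prime_pow hp).mp (hk ▸ orderOf_map_dvd f g)
        exact ⟨i, hi⟩
      · have ey : f (y : X) = 1 := hKH y
        have e1 : f ((c : X) * y * g * ((c : X) * y)⁻¹) = f g ^ a := by rw [← ha, map_zpow]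
        have e2 : f ((d : X) * c * g * ((d : X) * c)⁻¹) = f g ^ e := by rw [← he, map_zpow]
        simp only [map_mul, map_inv, ey, mul_one] at e1 e2
        have e3 : f d * (f g ^ a) * (f d)⁻¹ = f g ^ e := by
          rw [← e1, ← e2]; group
        rw [(hfd.zpow_right a).eq, mul_inv_cancel_right] at e3
        exact e3
    have := dvd_add (dvd_add hab hae) he1
    simpa using this)
  refine ⟨⟨P0, K, hK, hKP⟩, ?_⟩
  haveI := hK
  have hKcop : (Nat.card K).Coprime p := by
    rw [Nat.coprime_comm, hp.coprime_iff_not_dvd]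
    intro hd
    rw [← hKP.index_eq_card] at hd
    exact P0.not_dvd_index hd
  haveI : K.Characteristic := by
    refine characteristic_of_coprime_card_index K ?_
    rw [hKP.symm.index_eq_card, P0.card_eq_multiplicity]
    exact hKcop.pow_right _
  set K' := K.map H.subtype with hK'
  haveI : K'.Normal := inferInstance
  set f := QuotientGroup.mk' K' with hf
  have hfs : Function.Surjective f := QuotientGroup.mk'_surjective K'
  set Q := X ⧸ K'
  let PQ : Sylow p Q := Sylow.mapSurjective hfs P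
  have hPQ : (PQ : Subgroup Q) = (P : Subgroup X).map f := Sylow.coe_mapSurjective hfs P
  set V := H.map f with hV
  have hVgen : ∃ v ∈ V, v ≠ 1 := by
    by_contra hne
    simp only [not_exists, not_and, not_not] at hne
    have hle : H ≤ K' := fun x hx => (QuotientGroup.eq_one_iff x).mp (hne _ (Subgroup.mem_map_of_mem f hx))
    have : p ∣ Nat.card K' := h1.trans (Subgroup.card_dvd_of_le hle)
    rw [hK', Subgroup.card_map_of_injective H.subtype_injective] at this
    exact hp.not_dvd_one (hKcop.symm ▸ Nat.dvd_gcd dvd_rfl this)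
  have hVP : V ≤ (PQ : Subgroup Q) := by
    rintro _ ⟨x, hx, rfl⟩
    have : (⟨x, hx⟩ : H) ∈ ((K ⊔ (P0 : Subgroup H) : Subgroup H) : Set H) := by
      rw [hKP.sup_eq_top]; trivial
    rw [Subgroup.normal_mul] at this
    obtain ⟨k, hk, w, hw, hkw⟩ := this
    rw [hPQ]
    refine ⟨(w : X), hw, ?_⟩
    rw [show x = (k : X) * w from (congrArg Subtype.val hkw).symm, map_mul,
      show f (k : X) = 1 from (QuotientGroup.eq_one_iff _).mpr ⟨k, hk, rfl⟩, one_mul]
  set C := Subgroup.centralizer (V : Set Q) with hC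
  haveI : V.Normal := Subgroup.Normal.map inferInstance f hfs
  haveI : C.Normal := inferInstance
  have hPcomm : ∀ a ∈ (PQ : Subgroup Q), ∀ b ∈ (PQ : Subgroup Q), a * b = b * a := by
    rw [hPQ, ← hgen, MonoidHom.map_zpowers]
    intro a ha b hb
    obtain ⟨i, rfl⟩ := Subgroup.mem_zpowers_iff.mp ha
    obtain ⟨j, rfl⟩ := Subgroup.mem_zpowers_iff.mp hb
    exact ((Commute.refl (f g)).zpow_zpow i j).eq
  have hPC : (PQ : Subgroup Q) ≤ C := fun a ha => Subgroup.mem_centralizer_iff.mpr fun v hv =>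
    hPcomm v (hVP hv) a ha
  let PC : Sylow p C := PQ.subtype hPC
  have hPCcyc : IsCyclic (PC : Subgroup C) := by
    have hPQc : IsCyclic (PQ : Subgroup Q) := by
      rw [hPQ]
      exact isCyclic_of_surjective (f.subgroupMap (P : Subgroup X)) (f.subgroupMap_surjective _)
    exact (Subgroup.subgroupOfEquivOfLe hPC).isCyclic.mpr hPQc
  obtain ⟨L, hL, hLP⟩ := hasNormalPComplement_of_residue PC hPCcyc (by
    intro y _ g1 hg1 b hgen1 hb hg11
    obtain ⟨v, hvV, hv1⟩ := hVgen
    have hvC : v ∈ C := hPC (hVP hvV)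
    obtain ⟨j, hj⟩ := Subgroup.mem_zpowers_iff.mp
      (hgen1.symm ▸ (show (⟨v, hvC⟩ : C) ∈ (PC : Subgroup C) from hVP hvV) :
        (⟨v, hvC⟩ : C) ∈ Subgroup.zpowers g1)
    refine dvd_of_zpow_eq (g := (g1 : C) ^ j) ?_ ?_ ?_
    · rw [hj]; exact fun e => hv1 (congrArg Subtype.val e)
    · obtain ⟨k, hk⟩ := IsPGroup.iff_orderOf.mp PC.2 ⟨_, zpow_mem hg1 j⟩
      exact ⟨k, (Subgroup.orderOf_mk _ _).symm.trans hk⟩
    · have hcv : Commute y (g1 ^ j) := by
        rw [hj]
        exact Subtype.ext ((Subgroup.mem_centralizer_iff.mp y.2 v hvV).symm)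
      rw [zpow_one]
      conv_rhs => rw [← mul_inv_cancel_right (g1 ^ j) y, ← hcv.eq]
      rw [← conj_zpow, hb, ← zpow_mul, ← zpow_mul, mul_comm])
  haveI := hL
  have hLcop : (Nat.card L).Coprime p := by
    rw [Nat.coprime_comm, hp.coprime_iff_not_dvd]
    intro hd
    rw [← hLP.index_eq_card] at hd
    exact PC.not_dvd_index hd
  haveI : L.Characteristic := by
    refine characteristic_of_coprime_card_index L ?_
    rw [hLP.symm.index_eq_card, PC.card_eq_multiplicity]
    exact hLcop.pow_right _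
  set L' := L.map C.subtype with hL'
  haveI : L'.Normal := inferInstance
  refine ⟨4, ![⊥, K', L'.comap f, C.comap f, ⊤], rfl, rfl, ?_, ?_, ?_⟩
  · have e1 : K' ≤ L'.comap f := by
      intro x hx
      rw [Subgroup.mem_comap, show f x = 1 from (QuotientGroup.eq_one_iff _).mpr hx]
      exact one_mem _
    have e2 : L'.comap f ≤ C.comap f := Subgroup.comap_mono (Subgroup.map_subtype_le L)
    refine Fin.monotone_iff_le_succ.mpr fun i => ?_
    fin_cases i
    exacts [bot_le, e1, e2, le_top]
  · intro i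
    fin_cases i
    exacts [inferInstanceAs (⊥ : Subgroup X).Normal, inferInstanceAs K'.Normal,
      Subgroup.Normal.comap inferInstance f, Subgroup.Normal.comap inferInstance f,
      inferInstanceAs (⊤ : Subgroup X).Normal]
  · intro i
    fin_cases i
    · refine Or.inr ?_
      show ((⊥ : Subgroup X).relIndex K').Coprime p
      rw [Subgroup.relIndex_bot_left, hK', Subgroup.card_map_of_injective H.subtype_injective]
      exact hKcop
    · refine Or.inr ?_
      show (K'.relIndex (L'.comap f)).Coprime p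
      have e : K'.relIndex (L'.comap f) = Nat.card L' := by
        have h' : ((⊥ : Subgroup Q).comap f).relIndex (L'.comap f) = Nat.card L' := by
          rw [Subgroup.relIndex_comap, Subgroup.map_comap_eq_self_of_surjective hfs,
            Subgroup.relIndex_bot_left]
        rwa [MonoidHom.comap_bot, QuotientGroup.ker_mk'] at h'
      rw [e, hL', Subgroup.card_map_of_injective C.subtype_injective]
      exact hLcop
    · refine Or.inl ⟨(Nat.card C).factorization p, ?_⟩
      show (L'.comap f).relIndex (C.comap f) = _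
      rw [Subgroup.relIndex_comap, Subgroup.map_comap_eq_self_of_surjective hfs,
        ← PC.card_eq_multiplicity, ← hLP.symm.index_eq_card, hL']
      show ((L.map C.subtype).subgroupOf C).index = _
      rw [Subgroup.subgroupOf, Subgroup.comap_map_eq_self_of_injective C.subtype_injective]
    · refine Or.inr ?_
      show ((C.comap f).relIndex ⊤).Coprime p
      rw [Subgroup.relIndex_top_right, Subgroup.index_comap_of_surjective C hfs, Nat.coprime_comm,
        hp.coprime_iff_not_dvd]
      exact fun hd => PQ.not_dvd_index (hd.trans (Subgroup.index_dvd_of_le hPC))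

end Cfsg.Agent.FG78
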