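import Mathlib
import Cfsg.Agent.Lib.Frobenius.Complement
import Cfsg.Agent.FG78.Basic

set_option autoImplicit false

/-! Cosets of constant element order over a nilpotent normal subgroup. -/

namespace Cfsg.Agent.FG78.EqualOrder

variable {G : Type*} [Group G] [Finite G] {N : Subgroup G} [N.Normal]

theorem sylow_shape (heq : ∀ x : G, x ∉ N → ∀ n ∈ N, orderOf (x * n) = orderOf x)
    (hnil : Group.IsNilpotent N) {q r : ℕ} [hq : Fact q.Prime] [hr : Fact r.Prime] (hrq : r ≠ q)
    (hrN : r ∣ Nat.card N) (Q : Sylow q (G ⧸ N)) :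
    IsCyclic (Q : Subgroup (G ⧸ N)) ∨
      ∃ n : ℕ, Nonempty ((Q : Subgroup (G ⧸ N)) ≃* QuaternionGroup (2 ^ n)) := by
  classical
  haveI := hnil
  obtain ⟨R0⟩ := (inferInstance : Nonempty (Sylow r N))
  haveI hR0n : (R0 : Subgroup N).Normal :=
    Sylow.normal_of_normalizerCondition (fun H => Group.normalizerCondition_of_isNilpotent H) R0
  haveI := Sylow.characteristic_of_normal R0 hR0n
  set R := (R0 : Subgroup N).map N.subtype with hRdef
  have hR : R.Normal := inferInstance
  have hRr : IsPGroup r R := R0.2.map _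
  have hR1 : R ≠ ⊥ := by
    rw [hRdef, Ne, Subgroup.map_eq_bot_iff_of_injective _ N.subtype_injective]
    exact R0.ne_bot_of_dvd_card hrN
  obtain ⟨T, hT⟩ := Sylow.mapSurjective_surjective (QuotientGroup.mk'_surjective N) q Q
  have hTq : (Q : Subgroup (G ⧸ N)) = (T : Subgroup G).map (QuotientGroup.mk' N) := by
    rw [← hT, Sylow.coe_mapSurjective]
  let φ : (T : Subgroup G) →* MulAut R :=
    R.normalizerMonoidHom.comp (Subgroup.inclusion (fun g _ => by
      rw [Subgroup.normalizer_eq_top]; exact Subgroup.mem_top g))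
  have happ : ∀ (t : (T : Subgroup G)) (v : R), ((φ t v : R) : G) = (t : G) * v * (t : G)⁻¹ :=
    fun _ _ => rfl
  have hord : ∀ t : (T : Subgroup G), ∃ k : ℕ, orderOf (t : G) = q ^ k := fun t => by
    obtain ⟨k, hk⟩ := IsPGroup.iff_orderOf.mp T.2 t
    exact ⟨k, by rw [← hk, Subgroup.orderOf_coe]⟩
  have hfix : ∀ t : (T : Subgroup G), (t : G) ∉ N → ∀ v : R, φ t v = v → v = 1 := by
    intro t ht v hv
    have hc : Commute (t : G) (v : G) := by
      have := congrArg Subtype.val hv
      rw [happ, mul_inv_eq_iff_eq_mul] at this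
      exact this
    obtain ⟨k, hk⟩ := hord t
    obtain ⟨j, hj⟩ := IsPGroup.iff_orderOf.mp hRr v
    have hcop : (orderOf (t : G)).Coprime (orderOf (v : G)) := by
      rw [hk, Subgroup.orderOf_coe, hj]
      exact Nat.Coprime.pow k j ((Nat.coprime_primes hq.out hr.out).mpr hrq.symm)
    have h1 := heq t ht v (Subgroup.map_subtype_le _ v.2)
    rw [hc.orderOf_mul_eq_mul_orderOf_of_coprime hcop] at h1
    exact Subtype.ext (orderOf_eq_one_iff.mp ((mul_eq_left₀ (orderOf_pos _).ne').mp h1))
  have hin : ∀ t : (T : Subgroup G), (t : G) ∈ N → φ t = 1 := by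
    intro t ht
    refine MulEquiv.ext fun v => Subtype.ext ?_
    rw [happ, MulAut.one_apply]
    obtain ⟨u, hu, huv⟩ := v.2
    obtain ⟨k, hk⟩ := hord t
    have hqS : IsPGroup q (Subgroup.zpowers (⟨t, ht⟩ : N)) :=
      IsPGroup.of_card (n := k) (by rw [Nat.card_zpowers, Subgroup.orderOf_mk, hk])
    obtain ⟨S, hS⟩ := hqS.exists_le_sylow
    haveI hSn : (S : Subgroup N).Normal :=
      Sylow.normal_of_normalizerCondition (fun H => Group.normalizerCondition_of_isNilpotent H) S
    have hc : Commute (⟨t, ht⟩ : N) u :=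
      Subgroup.commute_of_normal_of_disjoint _ _ hSn hR0n
        (IsPGroup.disjoint_of_ne q r hrq.symm _ _ S.2 R0.2) _ _ (hS (Subgroup.mem_zpowers _)) hu
    rw [← huv]
    have h1 : (t : G) * (u : G) = (u : G) * t := congrArg Subtype.val hc.eq
    show (t : G) * (u : G) * (t : G)⁻¹ = u
    rw [h1, mul_inv_cancel_right]
  let X := SemidirectProduct R φ.range φ.range.subtype
  haveI : Finite X := Finite.of_equiv _ SemidirectProduct.equivProd.symm
  let AX : Subgroup X := (SemidirectProduct.inr : φ.range →* X).range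
  let VX : Subgroup X := (SemidirectProduct.inl : R →* X).range
  haveI : VX.Normal := by
    show (SemidirectProduct.inl : R →* X).range.Normal
    rw [SemidirectProduct.range_inl_eq_ker_rightHom]
    exact MonoidHom.normal_ker _
  have hfpf : Cfsg.Agent.Frobenius.IsFPF AX VX := by
    refine Cfsg.Agent.Frobenius.isFPF_of_normal ?_
    rintro _ ⟨⟨_, t, rfl⟩, rfl⟩ hne
    have ht : (t : G) ∉ N := fun h => hne (by
      rw [show (⟨φ t, t, rfl⟩ : φ.range) = 1 from Subtype.ext (hin t h), map_one])
    rw [Subgroup.eq_bot_iff_forall]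
    rintro _ ⟨⟨l, rfl⟩, hc⟩
    have hc' := congrArg SemidirectProduct.left (Subgroup.mem_centralizer_singleton_iff.mp hc)
    simp only [SemidirectProduct.mul_left, SemidirectProduct.left_inl, SemidirectProduct.left_inr,
      SemidirectProduct.right_inl, SemidirectProduct.right_inr, map_one, one_mul, mul_one] at hc'
    rw [hfix t ht l hc'.symm, map_one]
  have hVX : VX ≠ ⊥ := by
    intro h
    refine hR1 ((Subgroup.eq_bot_iff_forall _).mpr fun v hv => ?_)
    have h' := SemidirectProduct.inl_injective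
      ((Subgroup.eq_bot_iff_forall _).mp h (SemidirectProduct.inl (⟨v, hv⟩ : R)) ⟨_, rfl⟩ |>.trans
        (map_one _).symm)
    exact congrArg Subtype.val h'
  -- `Q` is isomorphic to the group acting
  let f : (T : Subgroup G) →* X := SemidirectProduct.inr.comp φ.rangeRestrict
  let g : (T : Subgroup G) →* G ⧸ N := (QuotientGroup.mk' N).comp (T : Subgroup G).subtype
  have hker : f.ker = g.ker := by
    ext t
    rw [MonoidHom.mem_ker, MonoidHom.mem_ker]
    show SemidirectProduct.inr (φ.rangeRestrict t) = 1 ↔ QuotientGroup.mk' N (t : G) = 1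
    rw [← map_one (SemidirectProduct.inr : φ.range →* X), SemidirectProduct.inr_injective.eq_iff,
      QuotientGroup.mk'_apply, QuotientGroup.eq_one_iff]
    refine ⟨fun h => by_contra fun ht => ?_, fun h => Subtype.ext (hin t h)⟩
    obtain ⟨v, hv, hv1⟩ := (Subgroup.bot_or_exists_ne_one R).resolve_left hR1
    exact hv1 (congrArg Subtype.val (hfix t ht ⟨v, hv⟩ (by
      rw [show φ t = 1 from congrArg Subtype.val h]; rfl)))
  have hgr : g.range = (Q : Subgroup (G ⧸ N)) := by
    rw [hTq]; show ((QuotientGroup.mk' N).comp (T : Subgroup G).subtype).range = _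
    rw [MonoidHom.range_comp, Subgroup.range_subtype]
  have hfr : f.range = AX := by
    refine le_antisymm ?_ ?_
    · rintro _ ⟨t, rfl⟩
      exact ⟨_, rfl⟩
    · rintro _ ⟨⟨_, t, rfl⟩, rfl⟩
      exact ⟨t, rfl⟩
  let e : AX ≃* (Q : Subgroup (G ⧸ N)) :=
    (MulEquiv.subgroupCongr hfr).symm.trans <|
      (QuotientGroup.quotientKerEquivRange f).symm.trans <|
        (QuotientGroup.quotientMulEquivOfEq hker).trans <|
          (QuotientGroup.quotientKerEquivRange g).trans (MulEquiv.subgroupCongr hgr)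
  have hA : IsPGroup q AX := IsPGroup.of_equiv Q.2 e.symm
  rcases S0016.result (G := AX) q hA (hfpf.eq_of_card_prime hVX hA) with hc | ⟨-, n, ⟨h⟩⟩
  · exact Or.inl (isCyclic_of_surjective e e.surjective)
  · exact Or.inr ⟨n, ⟨e.symm.trans h⟩⟩

end Cfsg.Agent.FG78.EqualOrder
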