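import Cfsg.Agent.FG78.IndexLemmas
import Mathlib.GroupTheory.GroupAction.Quotient
import Mathlib.GroupTheory.QuotientGroup.Basic

set_option autoImplicit false

/-!
The common-divisor graph on class sizes of `p`-singular elements: any two elements of order `p`
have class sizes which share a prime or are joined by an edge.
-/

namespace Cfsg.Agent.FG78

variable {G : Type*} [Group G] [Finite G]

/-- The class size of `x`. -/
noncomputable abbrev clSize (x : G) : ℕ := (Subgroup.centralizer ({x} : Set G)).index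

theorem card_carrier_mk_eq (x : G) : Nat.card (ConjClasses.mk x).carrier = clSize x := by
  rw [clSize, Subgroup.centralizer_eq_comap_stabilizer]
  erw [Subgroup.index_comap_of_surjective _ ConjAct.toConjAct.surjective, MulAction.index_stabilizer,
    ConjAct.orbit_eq_carrier_conjClasses]
  rw [Nat.card_coe_set_eq]

/-- If the class sizes of `a` and `b` are coprime, `C(a)` is transitive on the class of `b`. -/
theorem exists_conj_of_coprime_clSize {a b : G} (h : (clSize a).Coprime (clSize b)) (g : G) :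
    ∃ c : G, Commute c a ∧ c * b * c⁻¹ = g * b * g⁻¹ := by
  set A := Subgroup.centralizer ({a} : Set G)
  set B := Subgroup.centralizer ({b} : Set G)
  have h1 : A.index * B.relIndex A = (A ⊓ B).index := by
    rw [mul_comm, ← Subgroup.inf_relIndex_right B A, inf_comm B A,
      Subgroup.relIndex_mul_index inf_le_left]
  have h2 : A.index * B.index ∣ (A ⊓ B).index :=
    h.mul_dvd_of_dvd_of_dvd (Subgroup.index_dvd_of_le inf_le_left)
      (Subgroup.index_dvd_of_le inf_le_right)
  have h3 : B.index ≤ B.relIndex A := by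
    rw [← h1] at h2
    exact Nat.le_of_dvd (Nat.pos_of_ne_zero Subgroup.index_ne_zero_of_finite)
      (Nat.dvd_of_mul_dvd_mul_left (Nat.pos_of_ne_zero Subgroup.index_ne_zero_of_finite) h2)
  let f : A ⧸ B.subgroupOf A → G ⧸ B := Quotient.map' Subtype.val (fun x y hxy => by
    rw [QuotientGroup.leftRel_apply] at hxy ⊢
    exact hxy)
  have hf : Function.Injective f := by
    rintro ⟨x⟩ ⟨y⟩ e
    exact QuotientGroup.eq.mpr (QuotientGroup.eq.mp (show (QuotientGroup.mk (x : G) : G ⧸ B) =
      QuotientGroup.mk (y : G) from e) :)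
  obtain ⟨q, hq⟩ := (hf.bijective_of_nat_card_le h3).2 (g : G ⧸ B)
  induction q using QuotientGroup.induction_on with
  | _ c =>
  refine ⟨c, mem_cent_iff.mp c.2, ?_⟩
  have h4 : Commute ((c : G)⁻¹ * g) b := mem_cent_iff.mp (QuotientGroup.eq.mp hq)
  calc (c : G) * b * (c : G)⁻¹ = c * (b * ((c : G)⁻¹ * g)) * g⁻¹ := by group
    _ = c * (((c : G)⁻¹ * g) * b) * g⁻¹ := by rw [h4.eq]
    _ = g * b * g⁻¹ := by group

theorem commute_conj_of_coprime_clSize {a b : G} (h : (clSize a).Coprime (clSize b))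
    (hab : Commute a b) (g : G) : Commute a (g * b * g⁻¹) := by
  obtain ⟨c, hca, hc⟩ := exists_conj_of_coprime_clSize h g
  rw [← hc]
  exact (hca.symm.mul_right hab).mul_right hca.symm.inv_right

/-- The subgroup generated by the quotients of conjugates of `b`. -/
abbrev translateGroup (b : G) : Subgroup G :=
  Subgroup.closure (Set.range fun g : G => g * b * g⁻¹ * b⁻¹)

theorem normal_translateGroup (b : G) : (translateGroup b).Normal := by
  refine ⟨fun m hm h => ?_⟩
  induction hm using Subgroup.closure_induction with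
  | mem x hx =>
    obtain ⟨g, rfl⟩ := hx
    have e : h * (g * b * g⁻¹ * b⁻¹) * h⁻¹ =
        (h * g * b * (h * g)⁻¹ * b⁻¹) * (h * b * h⁻¹ * b⁻¹)⁻¹ := by group
    show h * (g * b * g⁻¹ * b⁻¹) * h⁻¹ ∈ translateGroup b
    rw [e]
    exact mul_mem (Subgroup.subset_closure ⟨h * g, rfl⟩)
      (inv_mem (Subgroup.subset_closure ⟨h, rfl⟩))
  | one => simp
  | mul x y _ _ hx hy =>
    rw [show h * (x * y) * h⁻¹ = h * x * h⁻¹ * (h * y * h⁻¹) by group]
    exact mul_mem hx hy
  | inv x _ hx =>
    rw [show h * x⁻¹ * h⁻¹ = (h * x * h⁻¹)⁻¹ by group]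
    exact inv_mem hx

/-- Right translations by quotients of conjugates of `b` fix the class of `a`. -/
theorem translates {p : ℕ} [Fact p.Prime] {a b : G} (ha : orderOf a = p) (hab : Commute a b)
    (h1 : (clSize a).Coprime (clSize b)) (h2 : (clSize (a * b)).Coprime (clSize b)) :
    IsPGroup p (translateGroup b) ∧
      (¬ p ∣ clSize a → ∀ g : G, g * b * g⁻¹ = b) := by
  set M := translateGroup b
  set K := (ConjClasses.mk a).carrier
  have hK : ∀ c : G, c ∈ K ↔ IsConj a c := fun c => by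
    rw [ConjClasses.mem_carrier_iff_mk_eq, ConjClasses.mk_eq_mk_iff_isConj]
    exact isConj_comm
  have core : ∀ k l : G, IsConj a (a * (k * b * k⁻¹) * (l * b * l⁻¹)⁻¹) := by
    intro k l
    obtain ⟨c, hca, hc⟩ := exists_conj_of_coprime_clSize h1 k
    obtain ⟨d, hd, hd'⟩ := exists_conj_of_coprime_clSize h2 (c⁻¹ * l)
    refine isConj_iff.mpr ⟨c * d, ?_⟩
    have e1 : a * (k * b * k⁻¹) = c * (a * b) * c⁻¹ := by
      rw [← hc]
      calc a * (c * b * c⁻¹) = (a * c) * b * c⁻¹ := by group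
        _ = (c * a) * b * c⁻¹ := by rw [hca.eq]
        _ = c * (a * b) * c⁻¹ := by group
    have e2 : l * b * l⁻¹ = c * (d * b * d⁻¹) * c⁻¹ := by rw [hd']; group
    rw [e1, e2]
    calc c * d * a * (c * d)⁻¹ = c * (d * (a * b)) * b⁻¹ * d⁻¹ * c⁻¹ := by group
      _ = c * ((a * b) * d) * b⁻¹ * d⁻¹ * c⁻¹ := by rw [hd.eq]
      _ = c * (a * b) * c⁻¹ * (c * (d * b * d⁻¹) * c⁻¹)⁻¹ := by group
  have hstab : ∀ m ∈ M, ∀ c ∈ K, c * m ∈ K := by
    intro m hm
    induction hm using Subgroup.closure_induction with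
    | mem x hx =>
      obtain ⟨g, rfl⟩ := hx
      intro c hc
      obtain ⟨h, rfl⟩ := isConj_iff.mp ((hK c).mp hc)
      refine (hK _).mpr ((core (h⁻¹ * g) h⁻¹).trans (isConj_iff.mpr ⟨h, ?_⟩))
      group
    | one => simp
    | mul x y _ _ hx hy =>
      intro c hc
      rw [← mul_assoc]
      exact hy _ (hx c hc)
    | inv x _ hx =>
      have hpow : ∀ n : ℕ, ∀ c ∈ K, c * x ^ n ∈ K := by
        intro n
        induction n with
        | zero => simp
        | succ n ih => intro c hc; rw [pow_succ, ← mul_assoc]; exact hx _ (ih c hc)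
      intro c hc
      have : x⁻¹ = x ^ (orderOf x - 1) := by
        refine inv_eq_of_mul_eq_one_right ?_
        rw [← pow_succ', Nat.sub_add_cancel (orderOf_pos x), pow_orderOf_eq_one]
      rw [this]
      exact hpow _ c hc
  have hMa : M ≤ Subgroup.centralizer ({a} : Set G) := by
    refine (Subgroup.closure_le _).mpr ?_
    rintro _ ⟨g, rfl⟩
    exact mem_cent_iff.mpr
      ((commute_conj_of_coprime_clSize h1 hab g).mul_right hab.inv_right).symm
  have haK : a ∈ K := (hK a).mpr (IsConj.refl a)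
  have hMp : IsPGroup p M := fun m => by
    refine ⟨1, Subtype.ext ?_⟩
    show (m : G) ^ p ^ 1 = 1
    obtain ⟨c, hc⟩ := isConj_iff.mp ((hK _).mp (hstab _ m.2 a haK))
    have h3 : (a * (m : G)) ^ p = 1 := by
      rw [← hc, conj_pow, ← ha, pow_orderOf_eq_one]
      group
    rw [(mem_cent_iff.mp (hMa m.2)).symm.mul_pow, ← ha, pow_orderOf_eq_one, one_mul, ha] at h3
    rwa [pow_one]
  refine ⟨hMp, fun hpa g => ?_⟩
  set s : Set (G ⧸ M) := QuotientGroup.mk '' K
  have h4 : QuotientGroup.mk ⁻¹' s = K := by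
    refine Set.Subset.antisymm ?_ (Set.subset_preimage_image _ _)
    rintro y ⟨c, hc, hcy⟩
    have : y = c * (c⁻¹ * y) := by group
    rw [this]
    exact hstab _ (QuotientGroup.eq.mp hcy) c hc
  have h5 : Nat.card M ∣ clSize a := by
    rw [← card_carrier_mk_eq]
    show Nat.card M ∣ Nat.card K
    rw [← h4, Nat.card_congr (QuotientGroup.preimageMkEquivSubgroupProdSet _ _), Nat.card_prod]
    exact dvd_mul_right _ _
  obtain ⟨k, hk⟩ := IsPGroup.iff_card.mp hMp
  have hM : M = ⊥ := by
    rw [← Subgroup.card_eq_one, hk]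
    rcases Nat.eq_zero_or_pos k with rfl | hk0
    · exact pow_zero p
    · exact absurd ((dvd_pow_self p hk0.ne').trans (hk ▸ h5)) hpa
  have h6 : g * b * g⁻¹ * b⁻¹ ∈ M := Subgroup.subset_closure ⟨g, rfl⟩
  rw [hM, Subgroup.mem_bot] at h6
  exact mul_inv_eq_one.mp h6

section

variable {p : ℕ} [hp : Fact p.Prime]

theorem exists_prime_of_not_coprime {m n : ℕ} (h : ¬ m.Coprime n) :
    ∃ t : ℕ, t.Prime ∧ t ∣ m ∧ t ∣ n := Nat.Prime.not_coprime_iff_dvd.mp h

theorem mem_of_commute_sylow {b : G} {k : ℕ} (hb : orderOf b = p ^ k) (P : Sylow p G)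
    (hc : b ∈ Subgroup.centralizer ((P : Subgroup G) : Set G)) : b ∈ (P : Subgroup G) := by
  have hQ : IsPGroup p (Subgroup.zpowers b) := IsPGroup.of_card (n := k) (by rw [Nat.card_zpowers, hb])
  have : b ∈ Subgroup.zpowers b ⊓ Subgroup.normalizer ((P : Subgroup G) : Set G) :=
    ⟨Subgroup.mem_zpowers b, Subgroup.centralizer_le_normalizer _ hc⟩
  exact ((hQ.inf_normalizer_sylow P).le this).2

theorem exists_sylow_mem {a : G} {k : ℕ} (ha : orderOf a = p ^ k) :
    ∃ P : Sylow p G, a ∈ (P : Subgroup G) := by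
  obtain ⟨P, hP⟩ := IsPGroup.exists_le_sylow
    (IsPGroup.of_card (n := k) (by rw [Nat.card_zpowers, ha]) : IsPGroup p (Subgroup.zpowers a))
  exact ⟨P, hP (Subgroup.mem_zpowers a)⟩

/-- The hard case. -/
theorem central_of_no_edge {a b : G} (ha : orderOf a = p) (hb : orderOf b = p)
    (hab : Commute a b) (hib : ¬ p ∣ clSize b) (hia : p ∣ clSize a)
    (hbne : clSize b ≠ 1)
    (h1 : (clSize a).Coprime (clSize b)) (h2 : (clSize (a * b)).Coprime (clSize b))
    (hno : ∀ x : G, p ∣ orderOf x → p ∣ clSize x → (clSize x).Coprime (clSize b)) : False := by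
  obtain ⟨hMp, -⟩ := translates ha hab h1 h2
  set M := translateGroup b
  haveI hMn : M.Normal := normal_translateGroup b
  -- every conjugate of `b` is in every Sylow subgroup
  have hM : ∀ P : Sylow p G, M ≤ (P : Subgroup G) := by
    intro P
    obtain ⟨Q, hQ⟩ := hMp.exists_le_sylow
    obtain ⟨t, ht⟩ := MulAction.exists_smul_eq G Q P
    intro m hm
    rw [← ht]
    refine ⟨t⁻¹ * m * t, hQ (hMn.conj_mem' m hm t), ?_⟩
    simp [mul_assoc]
  obtain ⟨P₀, hP₀⟩ := exists_sylow_mem (k := 1) (by rw [hb, pow_one])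
  obtain ⟨t, ht⟩ := exists_conj_mem_centralizer_sylow P₀ hib
  have hall : ∀ (P : Sylow p G) (g : G), g * b * g⁻¹ ∈ (P : Subgroup G) := by
    intro P g
    obtain ⟨c, hc⟩ := exists_conj_mem_centralizer_sylow P hib
    have hcb : c * b * c⁻¹ ∈ (P : Subgroup G) := mem_of_commute_sylow (k := 1)
      (by rw [← MulAut.conj_apply, MulEquiv.orderOf_eq, hb, pow_one]) P hc
    have h3 : g * b * g⁻¹ = (g * b * g⁻¹ * b⁻¹) * (c * b * c⁻¹ * b⁻¹)⁻¹ * (c * b * c⁻¹) := by
      group
    rw [h3]
    exact mul_mem (mul_mem (hM P (Subgroup.subset_closure ⟨g, rfl⟩))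
      (inv_mem (hM P (Subgroup.subset_closure ⟨c, rfl⟩)))) hcb
  -- all `p`-elements commute with all conjugates of `b`
  have hpel : ∀ y : G, (∃ k : ℕ, orderOf y = p ^ k) → ∀ g : G, Commute y (g * b * g⁻¹) := by
    rintro y ⟨k, hk⟩ g
    by_cases hy : p ∣ clSize y
    · have hk0 : k ≠ 0 := by
        rintro rfl
        rw [pow_zero, orderOf_eq_one_iff] at hk
        subst hk
        exact hp.out.not_dvd_one (by
          simpa [clSize, Subgroup.centralizer_eq_top_iff_subset.mpr] using hy)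
      have hcop := hno y (hk ▸ dvd_pow_self p hk0) hy
      obtain ⟨Q, hQ⟩ := exists_sylow_mem hk
      obtain ⟨c, hc⟩ := exists_conj_mem_centralizer_sylow Q hib
      have hyb : Commute y (c * b * c⁻¹) := Subgroup.mem_centralizer_iff.mp hc y hQ
      have hcop' : (clSize y).Coprime (clSize (c * b * c⁻¹)) := by
        rw [clSize, clSize, index_centralizer_conj]; exact hcop
      have h3 := commute_conj_of_coprime_clSize hcop' hyb (g * c⁻¹)
      rwa [show g * c⁻¹ * (c * b * c⁻¹) * (g * c⁻¹)⁻¹ = g * b * g⁻¹ by group] at h3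
    · obtain ⟨Q⟩ := (inferInstance : Nonempty (Sylow p G))
      obtain ⟨c, hc⟩ := exists_conj_mem_centralizer_sylow Q hy
      have h3 : Commute (c * g * b * (c * g)⁻¹) (c * y * c⁻¹) :=
        Subgroup.mem_centralizer_iff.mp hc _ (hall Q _)
      have h4 := (h3.map (MulAut.conj c⁻¹).toMonoidHom).symm
      simpa [mul_assoc] using h4
  have hpb : ∀ y : G, (∃ k : ℕ, orderOf y = p ^ k) →
      y ∈ Subgroup.centralizer ({b} : Set G) := fun y hy => mem_cent_iff.mpr (by
    simpa using hpel y hy 1)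
  -- the structure of the centralizer of `b`
  obtain ⟨P, haP⟩ := exists_sylow_mem (k := 1) (by rw [ha, pow_one] : orderOf a = p ^ 1)
  set H := Subgroup.centralizer ({b} : Set G) with hH
  have hPH : (P : Subgroup G) ≤ H := fun y hy => hpb y (by
    obtain ⟨k, hk⟩ := IsPGroup.iff_orderOf.mp P.2 ⟨y, hy⟩
    exact ⟨k, by rw [← hk, Subgroup.orderOf_mk]⟩)
  have hreg : ∀ v : H, ¬ p ∣ orderOf v →
      ¬ p ∣ (Subgroup.centralizer ({v} : Set H)).index := by
    intro v hv hd
    rw [← Subgroup.orderOf_coe] at hv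
    have hbv : Commute b (v : G) := (mem_cent_iff.mp v.2).symm
    have hC : Subgroup.centralizer ({b * (v : G)} : Set G) =
        H ⊓ Subgroup.centralizer ({(v : G)} : Set G) :=
      centralizer_mul_eq {p} hbv (isPiElem_singleton_of_pow hp.out (k := 1) (by rw [hb, pow_one]))
        (isPiElem_compl_singleton_iff.mpr hv)
    have ho : p ∣ orderOf (b * (v : G)) := by
      rw [hbv.orderOf_mul_eq_mul_orderOf_of_coprime
        (hb.symm ▸ (hp.out.coprime_iff_not_dvd.mpr hv)), hb]
      exact dvd_mul_right _ _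
    have h3 : clSize b ∣ clSize (b * (v : G)) :=
      Subgroup.index_dvd_of_le (by rw [hC]; exact inf_le_left)
    have h4 : ¬ p ∣ clSize (b * (v : G)) := fun h5 =>
      hbne (Nat.dvd_one.mp ((hno _ ho h5) ▸ Nat.dvd_gcd h3 dvd_rfl))
    refine h4 (hd.trans ?_)
    have e : Subgroup.centralizer ({v} : Set H) =
        (Subgroup.centralizer ({(v : G)} : Set G)).subgroupOf H := by
      ext w
      rw [mem_cent_iff, Subgroup.mem_subgroupOf, mem_cent_iff]
      exact ⟨fun h => congrArg Subtype.val h.eq, fun h => Subtype.ext h.eq⟩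
    rw [clSize, hC, e]
    show (Subgroup.centralizer ({(v : G)} : Set G)).relIndex H ∣ _
    rw [← Subgroup.inf_relIndex_right, inf_comm]
    exact Subgroup.relIndex_dvd_index_of_le inf_le_left
  obtain ⟨hPHn, A, -, -, hAC, hAall⟩ := direct_factor_of_p_regular_index hreg (P.subtype hPH)
  haveI := hPHn
  have hpmem : ∀ y : G, (∃ k : ℕ, orderOf y = p ^ k) → y ∈ (P : Subgroup G) := by
    rintro y ⟨k, hk⟩
    have hyH : y ∈ H := hpb y ⟨k, hk⟩
    obtain ⟨Q, hQ⟩ := exists_sylow_mem (G := H) (a := ⟨y, hyH⟩) (k := k)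
      (by rw [Subgroup.orderOf_mk, hk])
    letI := Sylow.unique_of_normal (P.subtype hPH) hPHn
    rw [Subsingleton.elim Q (P.subtype hPH)] at hQ
    exact hQ
  haveI hPn : (P : Subgroup G).Normal := ⟨fun y hy g => hpmem _ (by
    obtain ⟨k, hk⟩ := IsPGroup.iff_orderOf.mp P.2 ⟨y, hy⟩
    exact ⟨k, by rw [← MulAut.conj_apply, MulEquiv.orderOf_eq, ← hk, Subgroup.orderOf_mk]⟩)⟩
  -- prime-power elements for other primes centralize `P`
  have hq : ∀ g : G, ∀ r k : ℕ, r.Prime → r ≠ p → orderOf g = r ^ k →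
      g ∈ Subgroup.centralizer ((P : Subgroup G) : Set G) := by
    intro g r k hr hrp hk
    haveI : Fact r.Prime := ⟨hr⟩
    set F := (Subgroup.centralizer ({g} : Set G)).subgroupOf (P : Subgroup G) with hF
    have hmeet : ∀ y : (P : Subgroup G), y ∉ Subgroup.center (P : Subgroup G) →
        ∃ q : (P : Subgroup G), q * y * q⁻¹ ∈ F := by
      intro y hy
      have hyi : p ∣ clSize (y : G) := by
        by_contra hd
        obtain ⟨c, hc⟩ := exists_conj_mem_centralizer_sylow P hd
        haveI : (Subgroup.centralizer ((P : Subgroup G) : Set G)).Normal := inferInstance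
        have h3 : (y : G) ∈ Subgroup.centralizer ((P : Subgroup G) : Set G) := by
          simpa [mul_assoc] using Subgroup.Normal.conj_mem' inferInstance _ hc c
        exact hy (Subgroup.mem_center_iff.mpr fun w =>
          Subtype.ext (Subgroup.mem_centralizer_iff.mp h3 w w.2))
      obtain ⟨k', hk'⟩ := IsPGroup.iff_orderOf.mp P.2 y
      rw [← Subgroup.orderOf_coe] at hk'
      have hk0 : k' ≠ 0 := by
        rintro rfl
        rw [pow_zero, orderOf_eq_one_iff] at hk'
        exact hy (by rw [show y = 1 from Subtype.ext hk']; exact one_mem _)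
      have hcop := hno (y : G) (hk' ▸ dvd_pow_self p hk0) hyi
      set C := (ConjClasses.mk y).carrier
      have hmemC : ∀ z : (P : Subgroup G), z ∈ C ↔ ∃ q, q * y * q⁻¹ = z := fun z => by
        rw [ConjClasses.mem_carrier_iff_mk_eq, ConjClasses.mk_eq_mk_iff_isConj, isConj_comm,
          isConj_iff]
      have hinv : ∀ t ∈ Subgroup.zpowers g, ∀ z ∈ C, MulAut.conjNormal t z ∈ C := by
        intro t _ z hz
        obtain ⟨q, rfl⟩ := (hmemC z).mp hz
        obtain ⟨c, hcy, hc⟩ := exists_conj_of_coprime_clSize hcop (t * (q : G))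
        set h := c⁻¹ * (t * (q : G)) with hh
        have hhH : h ∈ H := mem_cent_iff.mpr (by
          show h * b = b * h
          rw [hh]
          calc c⁻¹ * (t * (q : G)) * b
              = c⁻¹ * (t * (q : G) * b * (t * (q : G))⁻¹) * (t * (q : G)) := by group
            _ = c⁻¹ * (c * b * c⁻¹) * (t * (q : G)) := by rw [hc]
            _ = b * (c⁻¹ * (t * (q : G))) := by group)
        set u := piPart {p} h
        have huP : u ∈ (P : Subgroup G) :=
          hpmem u (exists_pow_of_isPiElem_singleton (isPiElem_piPart {p} h))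
        have hw : Commute (piPart' {p} h) (y : G) := by
          have h5 : (⟨piPart' {p} h, piPart'_mem {p} h hhH⟩ : H) ∈ A := hAall _ (by
            rw [Subgroup.orderOf_mk]; exact not_dvd_piPart' (p := p) h)
          have h6 := Subgroup.mem_centralizer_iff.mp (hAC h5) ⟨(y : G), hPH y.2⟩ y.2
          exact (congrArg Subtype.val h6).symm
        refine (hmemC _).mpr ⟨⟨c * u * c⁻¹, hPn.conj_mem u huP c⟩, Subtype.ext ?_⟩
        show c * u * c⁻¹ * (y : G) * (c * u * c⁻¹)⁻¹ =
          ((MulAut.conjNormal t (q * y * q⁻¹) : (P : Subgroup G)) : G)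
        rw [MulAut.conjNormal_apply]
        push_cast
        have e : t * (q : G) = c * (u * piPart' {p} h) := by
          rw [piPart_mul_piPart', hh]; group
        calc c * u * c⁻¹ * (y : G) * (c * u * c⁻¹)⁻¹
            = c * u * (c⁻¹ * (y : G)) * c * u⁻¹ * c⁻¹ := by group
          _ = c * u * ((y : G) * c⁻¹) * c * u⁻¹ * c⁻¹ := by rw [hcy.inv_left.eq]
          _ = c * u * (y : G) * u⁻¹ * c⁻¹ := by group
          _ = c * (u * ((y : G) * piPart' {p} h) * (u * piPart' {p} h)⁻¹) * c⁻¹ := by group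
          _ = c * (u * (piPart' {p} h * (y : G)) * (u * piPart' {p} h)⁻¹) * c⁻¹ := by rw [hw.eq]
          _ = (c * (u * piPart' {p} h)) * (y : G) * (c * (u * piPart' {p} h))⁻¹ := by group
          _ = t * ((q : G) * (y : G) * (q : G)⁻¹) * t⁻¹ := by rw [← e]; group
      letI : MulAction (Subgroup.zpowers g) C :=
        { smul := fun t z => ⟨MulAut.conjNormal (t : G) z.1, hinv t t.2 z.1 z.2⟩
          one_smul := fun z => Subtype.ext (by
            show MulAut.conjNormal ((1 : Subgroup.zpowers g) : G) z.1 = z.1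
            simp)
          mul_smul := fun s t z => Subtype.ext (by
            show MulAut.conjNormal ((s * t : Subgroup.zpowers g) : G) z.1 =
              MulAut.conjNormal (s : G) (MulAut.conjNormal (t : G) z.1)
            rw [Subgroup.coe_mul, map_mul]; rfl) }
      have hrC : ¬ r ∣ Nat.card C := by
        rw [card_carrier_mk_eq]
        intro hd
        obtain ⟨e, he⟩ := IsPGroup.iff_card.mp P.2
        exact hrp ((Nat.prime_dvd_prime_iff_eq hr hp.out).mp
          (hr.dvd_of_dvd_pow (he ▸ hd.trans (Subgroup.index_dvd_card _))))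
      obtain ⟨z, hz⟩ := (IsPGroup.of_card (n := k) (by rw [Nat.card_zpowers, hk]) :
        IsPGroup r (Subgroup.zpowers g)).nonempty_fixed_point_of_prime_not_dvd_card C hrC
      obtain ⟨q, hq⟩ := (hmemC z.1).mp z.2
      refine ⟨q, ?_⟩
      rw [hq, hF, Subgroup.mem_subgroupOf, mem_cent_iff]
      have h3 : MulAut.conjNormal g z.1 = z.1 :=
        congrArg Subtype.val (hz ⟨g, Subgroup.mem_zpowers g⟩)
      have h4 := congrArg Subtype.val h3
      rw [MulAut.conjNormal_apply, mul_inv_eq_iff_eq_mul] at h4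
      exact h4.symm
    have hW : F ⊔ Subgroup.center (P : Subgroup G) = ⊤ := by
      refine eq_top_of_conjugates_cover _ fun y => ?_
      by_cases hy : y ∈ Subgroup.center (P : Subgroup G)
      · exact ⟨1, Subgroup.mem_sup_right (by simpa using hy)⟩
      · obtain ⟨q, hq⟩ := hmeet y hy
        exact ⟨q, Subgroup.mem_sup_left hq⟩
    have hcomm : ∀ q y : (P : Subgroup G), q * y * q⁻¹ * y⁻¹ ∈ F := by
      intro q y
      obtain ⟨f, hf, z, hz, rfl⟩ := Subgroup.mem_sup_of_normal_right.mp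
        (hW ▸ Subgroup.mem_top q : q ∈ F ⊔ Subgroup.center (P : Subgroup G))
      obtain ⟨f', hf', z', hz', rfl⟩ := Subgroup.mem_sup_of_normal_right.mp
        (hW ▸ Subgroup.mem_top y : y ∈ F ⊔ Subgroup.center (P : Subgroup G))
      have e1 := Subgroup.mem_center_iff.mp hz
      have e2 := Subgroup.mem_center_iff.mp hz'
      have : f * z * (f' * z') * (f * z)⁻¹ * (f' * z')⁻¹ = f * f' * f⁻¹ * f'⁻¹ := by
        calc f * z * (f' * z') * (f * z)⁻¹ * (f' * z')⁻¹
            = f * (z * (f' * z')) * z⁻¹ * f⁻¹ * z'⁻¹ * f'⁻¹ := by group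
          _ = f * ((f' * z') * z) * z⁻¹ * f⁻¹ * z'⁻¹ * f'⁻¹ := by rw [e1 (f' * z')]
          _ = f * f' * (z' * f⁻¹) * z'⁻¹ * f'⁻¹ := by group
          _ = f * f' * (f⁻¹ * z') * z'⁻¹ * f'⁻¹ := by rw [e2 f⁻¹]
          _ = f * f' * f⁻¹ * f'⁻¹ := by group
      rw [this]
      exact mul_mem (mul_mem (mul_mem hf hf') (inv_mem hf)) (inv_mem hf')
    have hnc : ∀ y : (P : Subgroup G), y ∉ Subgroup.center (P : Subgroup G) → y ∈ F := by
      intro y hy
      obtain ⟨q, hq⟩ := hmeet y hy
      have : y = (q * y * q⁻¹ * y⁻¹)⁻¹ * (q * y * q⁻¹) := by group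
      rw [this]
      exact mul_mem (inv_mem (hcomm q y)) hq
    have hex : (⟨a, haP⟩ : (P : Subgroup G)) ∉ Subgroup.center (P : Subgroup G) := fun hc => by
      refine P.not_dvd_index (hia.trans (Subgroup.index_dvd_of_le fun w hw => ?_))
      exact mem_cent_iff.mpr (congrArg Subtype.val (Subgroup.mem_center_iff.mp hc ⟨w, hw⟩))
    have htop : ∀ y : (P : Subgroup G), y ∈ F := by
      intro y
      by_cases hy : y ∈ Subgroup.center (P : Subgroup G)
      · have h3 : y * ⟨a, haP⟩ ∉ Subgroup.center (P : Subgroup G) := fun h4 =>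
          hex ((Subgroup.mul_mem_cancel_left _ hy).mp h4)
        exact (Subgroup.mul_mem_cancel_right _ (hnc _ hex)).mp (hnc _ h3)
      · exact hnc y hy
    exact Subgroup.mem_centralizer_iff.mpr fun y hy =>
      (mem_cent_iff.mp (Subgroup.mem_subgroupOf.mp (htop ⟨y, hy⟩))).eq
  -- `b` is central
  apply hbne
  rw [clSize, Nat.eq_one_iff_not_exists_prime_dvd]
  intro r hr hd
  by_cases hrp : r = p
  · exact hib (hrp ▸ hd)
  haveI : Fact r.Prime := ⟨hr⟩
  obtain ⟨R⟩ := (inferInstance : Nonempty (Sylow r G))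
  refine R.not_dvd_index (hd.trans (Subgroup.index_dvd_of_le fun g hg => ?_))
  obtain ⟨k, hk⟩ := IsPGroup.iff_orderOf.mp R.2 ⟨g, hg⟩
  rw [Subgroup.orderOf_mk] at hk
  exact mem_cent_iff.mpr
    (Subgroup.mem_centralizer_iff.mp (hq g r k hr hrp hk) b (hpmem b ⟨1, by rw [hb, pow_one]⟩)).symm

/-- Two elements of order `p` have class sizes sharing a prime or joined by a singular class. -/
theorem shared_or_edge (hZ : ¬ p ∣ Nat.card (Subgroup.center G)) {a b : G}
    (ha : orderOf a = p) (hb : orderOf b = p) :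
    ∃ t u : ℕ, t.Prime ∧ t ∣ clSize a ∧ u.Prime ∧ u ∣ clSize b ∧
      (t = u ∨ ∃ x : G, p ∣ orderOf x ∧ t * u ∣ clSize x) := by
  have hne : ∀ c : G, orderOf c = p → clSize c ≠ 1 := fun c hc h1 => by
    refine hZ ?_
    rw [clSize, Subgroup.index_eq_one, Subgroup.centralizer_eq_top_iff_subset] at h1
    have h2 := h1 (Set.mem_singleton c)
    exact hc ▸ (Subgroup.orderOf_mk c h2) ▸ orderOf_dvd_natCard _
  by_cases hcop : (clSize a).Coprime (clSize b)
  swap
  · obtain ⟨t, ht, h1, h2⟩ := exists_prime_of_not_coprime hcop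
    exact ⟨t, t, ht, h1, ht, h2, Or.inl rfl⟩
  suffices key : ∀ a b : G, orderOf a = p → orderOf b = p → (clSize a).Coprime (clSize b) →
      ¬ p ∣ clSize b → ∃ t u : ℕ, t.Prime ∧ t ∣ clSize a ∧ u.Prime ∧ u ∣ clSize b ∧
        ∃ x : G, p ∣ orderOf x ∧ t * u ∣ clSize x by
    by_cases hpb : p ∣ clSize b
    · obtain ⟨t, u, ht, hta, hu, hub, x, hx, hd⟩ := key b a hb ha hcop.symm fun hpa =>
        hp.out.not_dvd_one (hcop ▸ Nat.dvd_gcd hpa hpb)
      exact ⟨u, t, hu, hub, ht, hta, Or.inr ⟨x, hx, by rwa [mul_comm]⟩⟩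
    · obtain ⟨t, u, h⟩ := key a b ha hb hcop hpb
      exact ⟨t, u, h.1, h.2.1, h.2.2.1, h.2.2.2.1, Or.inr h.2.2.2.2⟩
  clear hcop ha hb a b
  intro a b ha hb hcop hpb
  obtain ⟨P, haP⟩ := exists_sylow_mem (k := 1) (by rw [ha, pow_one] : orderOf a = p ^ 1)
  obtain ⟨c, hc⟩ := exists_conj_mem_centralizer_sylow P hpb
  set b' := c * b * c⁻¹
  have hab : Commute a b' := Subgroup.mem_centralizer_iff.mp hc a haP
  have hb' : orderOf b' = p := by
    show orderOf (c * b * c⁻¹) = p
    rw [← MulAut.conj_apply, MulEquiv.orderOf_eq, hb]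
  have hib : clSize b' = clSize b := index_centralizer_conj c b
  rw [← hib] at hcop hpb ⊢
  have hx : orderOf (a * b') = p := by
    refine orderOf_eq_prime (by rw [hab.mul_pow, ← ha, pow_orderOf_eq_one, ha, ← hb',
      pow_orderOf_eq_one, one_mul]) fun h1 => hne a ha ?_
    have h2 : clSize a = clSize b' := by
      rw [eq_inv_of_mul_eq_one_left h1, clSize, clSize]
      congr 1
      ext y
      rw [mem_cent_iff, mem_cent_iff]
      exact ⟨fun h => by simpa using h.inv_right, fun h => h.inv_right⟩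
    rw [← h2, Nat.coprime_self] at hcop
    exact hcop
  by_cases hxa : (clSize (a * b')).Coprime (clSize a)
  · exfalso
    obtain ⟨-, hfix⟩ := translates hb' hab.symm hcop.symm (hab.eq ▸ hxa)
    refine hne a ha ?_
    rw [clSize, Subgroup.index_eq_one, eq_top_iff]
    intro g _
    exact mem_cent_iff.mpr (mul_inv_eq_iff_eq_mul.mp (hfix hpb g))
  by_cases hxb : (clSize (a * b')).Coprime (clSize b')
  swap
  · obtain ⟨t, ht, htx, hta⟩ := exists_prime_of_not_coprime hxa
    obtain ⟨u, hu, hux, hub⟩ := exists_prime_of_not_coprime hxb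
    exact ⟨t, u, ht, hta, hu, hub, a * b', hx ▸ dvd_rfl,
      (Nat.Coprime.coprime_dvd_left hta (hcop.coprime_dvd_right hub)).mul_dvd_of_dvd_of_dvd htx hux⟩
  by_cases hpa : p ∣ clSize a
  swap
  · exfalso
    obtain ⟨-, hfix⟩ := translates ha hab hcop hxb
    refine hne b' hb' ?_
    rw [clSize, Subgroup.index_eq_one, eq_top_iff]
    intro g _
    exact mem_cent_iff.mpr (mul_inv_eq_iff_eq_mul.mp (hfix hpa g))
  by_cases hno : ∀ x : G, p ∣ orderOf x → p ∣ clSize x → (clSize x).Coprime (clSize b')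
  · exact (central_of_no_edge ha hb' hab hpb hpa (hne b' hb') hcop hxb hno).elim
  push Not at hno
  obtain ⟨x, hxo, hxp, hxb'⟩ := hno
  obtain ⟨u, hu, hux, hub⟩ := exists_prime_of_not_coprime hxb'
  refine ⟨p, u, hp.out, hpa, hu, hub, x, hxo, ?_⟩
  exact ((Nat.coprime_primes hp.out hu).mpr fun e => hpb (e ▸ hub)).mul_dvd_of_dvd_of_dvd hxp hux

end

end Cfsg.Agent.FG78
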