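import Cfsg.Agent.BC86.Core
import Cfsg.Agent.Lib.BlocksCore.DefectZero
import Cfsg.Agent.Lib.CharCore.Linear
import Cfsg.Agent.Lib.Coprime.Action
import Cfsg.Agent.Lib.Zassenhaus.Cyclic

/-!
Groups whose irreducible characters are multiplicative on products of coprime prime power
elements.
-/

set_option autoImplicit false
set_option linter.unusedSectionVars false

namespace Cfsg.Agent.FG78.MultChar

open scoped ComplexConjugate
open scoped commutatorElement Pointwise

variable {G : Type*} [Group G] [Finite G]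

/-- `χ` is non-linear. -/
def NonLin (χ : Cfsg.IrrCharacter G) : Prop := (χ : G → ℂ) 1 ≠ 1

theorem not_nonLin (χ : Cfsg.IrrCharacter G) (h : ¬ NonLin χ) :
    ∃ f : G →* ℂˣ, (χ : G → ℂ) = fun g => (f g : ℂ) :=
  CharCore.IsCharacter.exists_hom_of_degree_one (CharCore.irr_isCharacter χ) (not_not.mp h)

theorem mul_conj_self_eq (χ : Cfsg.IrrCharacter G) (g : G) :
    (χ : G → ℂ) g * conj ((χ : G → ℂ) g) = ((Complex.normSq ((χ : G → ℂ) g) : ℝ) : ℂ) :=
  Complex.mul_conj _

theorem normSq_linear (χ : Cfsg.IrrCharacter G) (h : ¬ NonLin χ) (g : G) :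
    Complex.normSq ((χ : G → ℂ) g) = 1 := by
  obtain ⟨f, hf⟩ := not_nonLin χ h
  rw [hf, Complex.normSq_eq_norm_sq, CharCore.norm_hom_apply]
  norm_num

open scoped Classical in
/-- Column orthogonality split into linear and non-linear characters. -/
theorem card_centralizer_eq (g : G) [Fintype (Cfsg.IrrCharacter G)] :
    (Nat.card (Subgroup.centralizer ({g} : Set G)) : ℝ) = (commutator G).index +
      ∑ χ ∈ Finset.univ.filter (fun χ : Cfsg.IrrCharacter G => NonLin χ),
        Complex.normSq ((χ : G → ℂ) g) := by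
  have h : ∑ χ : Cfsg.IrrCharacter G, ((Complex.normSq ((χ : G → ℂ) g) : ℝ) : ℂ) =
      (Nat.card (Subgroup.centralizer ({g} : Set G)) : ℂ) := by
    have h0 := BC86.col_orth g g
    rw [if_pos (IsConj.refl g)] at h0
    rw [← h0]
    refine Finset.sum_congr ?_ fun χ _ => (mul_conj_self_eq χ g).symm
    ext; simp
  rw [← Complex.ofReal_sum] at h
  have h' : ∑ χ : Cfsg.IrrCharacter G, Complex.normSq ((χ : G → ℂ) g) =
      (Nat.card (Subgroup.centralizer ({g} : Set G)) : ℝ) := by
    exact_mod_cast h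
  rw [← h', ← Finset.sum_filter_add_sum_filter_not Finset.univ
    (fun χ : Cfsg.IrrCharacter G => NonLin χ), add_comm]
  congr 1
  rw [← CharCore.card_linearCharacters, Finset.sum_congr rfl fun χ hχ =>
    normSq_linear χ (Finset.mem_filter.mp hχ).2 g, Finset.sum_const, nsmul_eq_mul, mul_one,
    Nat.card_eq_fintype_card, Fintype.card_subtype]
  congr 2
  ext χ
  simp [NonLin]

/-- If the centralizer is not bigger than `|G : G'|`, all non-linear characters vanish. -/
theorem vanish_of_card_le (g : G)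
    (h : Nat.card (Subgroup.centralizer ({g} : Set G)) ≤ (commutator G).index)
    (χ : Cfsg.IrrCharacter G) (hχ : NonLin χ) : (χ : G → ℂ) g = 0 := by
  classical
  have := Fintype.ofFinite (Cfsg.IrrCharacter G)
  have h1 := card_centralizer_eq g
  have h2 : (Nat.card (Subgroup.centralizer ({g} : Set G)) : ℝ) ≤ (commutator G).index := by
    exact_mod_cast h
  have h3 := Finset.single_le_sum
    (f := fun χ : Cfsg.IrrCharacter G => Complex.normSq ((χ : G → ℂ) g))
    (fun χ _ => Complex.normSq_nonneg _)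
    (Finset.mem_filter.mpr ⟨Finset.mem_univ χ, hχ⟩ :
      χ ∈ Finset.univ.filter (fun χ : Cfsg.IrrCharacter G => NonLin χ))
  exact Complex.normSq_eq_zero.mp (le_antisymm (by linarith) (Complex.normSq_nonneg _))

/-- If all non-linear characters vanish at `g` then `|C(g)| = |G : G'|`. -/
theorem card_eq_of_vanish (g : G)
    (h : ∀ χ : Cfsg.IrrCharacter G, NonLin χ → (χ : G → ℂ) g = 0) :
    Nat.card (Subgroup.centralizer ({g} : Set G)) = (commutator G).index := by
  classical
  have := Fintype.ofFinite (Cfsg.IrrCharacter G)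
  have h1 := card_centralizer_eq g
  rw [Finset.sum_eq_zero fun χ hχ => by rw [h χ (Finset.mem_filter.mp hχ).2, map_zero],
    add_zero] at h1
  exact_mod_cast h1

theorem card_centralizer_one : Nat.card (Subgroup.centralizer ({(1 : G)} : Set G)) = Nat.card G := by
  rw [show Subgroup.centralizer ({(1 : G)} : Set G) = ⊤ by
    ext x; simp [Subgroup.mem_centralizer_iff], Subgroup.card_top]

theorem isMulCommutative_linear (hc : IsMulCommutative G) (χ : Cfsg.IrrCharacter G) :
    ¬ NonLin χ := by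
  intro hχ
  have hbot : commutator G = ⊥ := by
    rw [commutator_eq_bot_iff_center_eq_top, eq_top_iff]
    exact fun x _ => Subgroup.mem_center_iff.mpr fun y => hc.is_comm.comm y x
  have h := vanish_of_card_le (1 : G) (by rw [card_centralizer_one, hbot, Subgroup.index_bot]) χ hχ
  have := Fintype.ofFinite G
  exact BlocksCore.irr_one_ne_zero χ h

theorem exists_nonLin (hna : ¬ IsMulCommutative G) : ∃ χ : Cfsg.IrrCharacter G, NonLin χ := by
  by_contra h
  push Not at h
  have h1 := card_eq_of_vanish (1 : G) fun χ hχ => absurd hχ (h χ)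
  rw [card_centralizer_one] at h1
  have hbot : commutator G = ⊥ := by
    have := Subgroup.card_mul_index (commutator G)
    rw [← h1] at this
    exact Subgroup.card_eq_one.mp (Nat.eq_of_mul_eq_mul_right Nat.card_pos (by rw [this, one_mul]))
  apply hna
  rw [commutator_eq_bot_iff_center_eq_top] at hbot
  exact ⟨⟨fun x y => Subgroup.mem_center_iff.mp (hbot ▸ Subgroup.mem_top y) x⟩⟩

/-- The multiplicativity hypothesis. -/
def Mult (G : Type*) [Group G] : Prop :=
  ∀ (x y : G) (χ : Cfsg.IrrCharacter G), x ≠ 1 → y ≠ 1 →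
    (∃ p q a b : ℕ, p.Prime ∧ q.Prime ∧ p ≠ q ∧ orderOf x = p ^ a ∧ orderOf y = q ^ b) →
      (χ : G → ℂ) (x * y) = (χ : G → ℂ) x * (χ : G → ℂ) y

variable (hG : Mult G)
include hG

theorem value_mul_eq_zero (χ : Cfsg.IrrCharacter G) (hχ : NonLin χ) {p q a b : ℕ} (hp : p.Prime)
    (hq : q.Prime) (hpq : p ≠ q) {x y : G} (hx : x ≠ 1) (hy : y ≠ 1) (hxo : orderOf x = p ^ a)
    (hyo : orderOf y = q ^ b) : (χ : G → ℂ) x * (χ : G → ℂ) y = 0 := by
  have := Fintype.ofFinite G
  have h := BC86.sum_conj_mul χ x y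
  have hc : ∀ g : G, (χ : G → ℂ) (g * x * g⁻¹ * y) = (χ : G → ℂ) x * (χ : G → ℂ) y := by
    intro g
    have hne : g * x * g⁻¹ ≠ 1 := fun e => hx (by simpa [mul_assoc] using congrArg (fun z => g⁻¹ * z * g) e)
    have ho : orderOf (g * x * g⁻¹) = p ^ a := by
      rw [← hxo]
      exact orderOf_injective (MulAut.conj g).toMonoidHom (MulAut.conj g).injective x
    rw [hG _ y χ hne hy ⟨p, q, a, b, hp, hq, hpq, ho, hyo⟩,
      CharCore.irr_isClassFunction χ x g]
  rw [Finset.sum_congr rfl fun g _ => hc g, Finset.sum_const, Finset.card_univ,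
    ← Nat.card_eq_fintype_card, nsmul_eq_mul] at h
  have h2 : ((χ : G → ℂ) 1 - 1) *
      ((Nat.card G : ℂ) * ((χ : G → ℂ) x * (χ : G → ℂ) y)) = 0 := by
    rw [sub_mul, h, one_mul, sub_self]
  rcases mul_eq_zero.mp h2 with h3 | h3
  · exact absurd (sub_eq_zero.mp h3) hχ
  · exact (mul_eq_zero.mp h3).resolve_left (Nat.cast_ne_zero.mpr Nat.card_pos.ne')

/-- Primes where the character does not vanish on the non-trivial `p`-elements. -/
theorem live_unique (χ : Cfsg.IrrCharacter G) (hχ : NonLin χ) {p q a b : ℕ} (hp : p.Prime)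
    (hq : q.Prime) {x y : G} (hx : x ≠ 1) (hy : y ≠ 1) (hxo : orderOf x = p ^ a)
    (hyo : orderOf y = q ^ b) (hx0 : (χ : G → ℂ) x ≠ 0) (hy0 : (χ : G → ℂ) y ≠ 0) : p = q := by
  by_contra hpq
  exact mul_ne_zero hx0 hy0 (value_mul_eq_zero hG χ hχ hp hq hpq hx hy hxo hyo)

omit hG in
theorem factorization_le_of_dead {q : ℕ} (hq : q.Prime) (χ : Cfsg.IrrCharacter G)
    (h : ∀ g : G, g ≠ 1 → (∃ k, orderOf g = q ^ k) → (χ : G → ℂ) g = 0) :
    (Nat.card G).factorization q ≤ (Cfsg.charDegree (χ : G → ℂ)).factorization q := by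
  have := Fintype.ofFinite G
  have := Fact.mk hq
  have h1 := BlocksCore.not_dvd_of_vanishes χ h
  have hd := BlocksCore.charDegree_dvd_card χ
  obtain ⟨e, he⟩ := hd
  have hd0 : Cfsg.charDegree (χ : G → ℂ) ≠ 0 := (BlocksCore.charDegree_pos χ).ne'
  rw [he, Nat.mul_div_cancel_left _ (Nat.pos_of_ne_zero hd0)] at h1
  have he0 : e ≠ 0 := fun e0 => h1 (e0 ▸ dvd_zero q)
  rw [he, Nat.factorization_mul hd0 he0, Finsupp.add_apply,
    Nat.factorization_eq_zero_of_not_dvd h1, add_zero]

omit hG in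
theorem degree_sq_lt (χ : Cfsg.IrrCharacter G) (hχ : NonLin χ) :
    Cfsg.charDegree (χ : G → ℂ) * Cfsg.charDegree (χ : G → ℂ) < Nat.card G := by
  classical
  have := Fintype.ofFinite (Cfsg.IrrCharacter G)
  have := Fintype.ofFinite G
  have h1 := card_centralizer_eq (1 : G)
  rw [card_centralizer_one] at h1
  have h3 := Finset.single_le_sum
    (f := fun χ : Cfsg.IrrCharacter G => Complex.normSq ((χ : G → ℂ) 1))
    (fun χ _ => Complex.normSq_nonneg _)
    (Finset.mem_filter.mpr ⟨Finset.mem_univ χ, hχ⟩ :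
      χ ∈ Finset.univ.filter (fun χ : Cfsg.IrrCharacter G => NonLin χ))
  have hL : (1 : ℝ) ≤ ((commutator G).index : ℝ) := by
    exact_mod_cast Nat.one_le_iff_ne_zero.mpr Subgroup.FiniteIndex.index_ne_zero
  simp only [BlocksCore.irr_one_eq χ, Complex.normSq_natCast] at h3
  have : ((Cfsg.charDegree (χ : G → ℂ) * Cfsg.charDegree (χ : G → ℂ) : ℕ) : ℝ) <
      (Nat.card G : ℝ) := by
    push_cast
    linarith
  exact_mod_cast this

/-- Some prime is live. -/
theorem exists_live (χ : Cfsg.IrrCharacter G) (hχ : NonLin χ) :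
    ∃ p : ℕ, p.Prime ∧ ∃ g : G, g ≠ 1 ∧ (∃ k, orderOf g = p ^ k) ∧ (χ : G → ℂ) g ≠ 0 := by
  by_contra h
  push Not at h
  have hd0 : Cfsg.charDegree (χ : G → ℂ) ≠ 0 := by
    have := Fintype.ofFinite G
    exact (BlocksCore.charDegree_pos χ).ne'
  have hdvd : Nat.card G ∣ Cfsg.charDegree (χ : G → ℂ) := by
    rw [← Nat.factorization_le_iff_dvd Nat.card_pos.ne' hd0]
    intro q
    by_cases hq : q.Prime
    · exact factorization_le_of_dead hq χ fun g hg hk => h q hq g hg hk
    · simp [Nat.factorization_eq_zero_of_not_prime _ hq]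
  have h1 := degree_sq_lt χ hχ
  have h2 := Nat.le_of_dvd (Nat.pos_of_ne_zero hd0) hdvd
  have h3 : Cfsg.charDegree (χ : G → ℂ) ≤
      Cfsg.charDegree (χ : G → ℂ) * Cfsg.charDegree (χ : G → ℂ) := Nat.le_mul_self _
  omega

/-- The degree is divisible by the part of the order prime to the live prime. -/
theorem dvd_degree (χ : Cfsg.IrrCharacter G) (hχ : NonLin χ) {p : ℕ} (hp : p.Prime)
    (hlive : ∃ g : G, g ≠ 1 ∧ (∃ k, orderOf g = p ^ k) ∧ (χ : G → ℂ) g ≠ 0) :
    Nat.card G / p ^ (Nat.card G).factorization p ∣ Cfsg.charDegree (χ : G → ℂ) := by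
  have := Fintype.ofFinite G
  have hd0 : Cfsg.charDegree (χ : G → ℂ) ≠ 0 := (BlocksCore.charDegree_pos χ).ne'
  obtain ⟨x, hx, ⟨a, hxo⟩, hx0⟩ := hlive
  rw [← Nat.factorization_le_iff_dvd (Nat.ordCompl_pos p Nat.card_pos.ne').ne' hd0,
    Nat.factorization_ordCompl]
  intro q
  by_cases hqp : q = p
  · subst hqp; simp
  · rw [Finsupp.erase_ne hqp]
    by_cases hq : q.Prime
    · refine factorization_le_of_dead hq χ fun g hg ⟨b, hgo⟩ => ?_
      by_contra hg0
      exact hqp (live_unique hG χ hχ hp hq hx hg hxo hgo hx0 hg0).symm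
    · simp [Nat.factorization_eq_zero_of_not_prime _ hq]

omit hG in
theorem ordProj_le {p q : ℕ} (hp : p.Prime) (hq : q.Prime) (hpq : p ≠ q) {n d : ℕ} (hn : 0 < n)
    (hd : n / p ^ n.factorization p ∣ d) (hd0 : 0 < d) (hsq : d * d < n) :
    q ^ n.factorization q < p ^ n.factorization p := by
  have hm : q ^ n.factorization q ∣ n / p ^ n.factorization p := by
    refine (Nat.Coprime.dvd_of_dvd_mul_left ?_
      ((Nat.ordProj_mul_ordCompl_eq_self n p).symm ▸ Nat.ordProj_dvd n q :
        q ^ n.factorization q ∣ p ^ n.factorization p * (n / p ^ n.factorization p)))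
    exact Nat.Coprime.pow _ _ ((Nat.coprime_primes hq hp).mpr (Ne.symm hpq))
  have hmpos := Nat.ordCompl_pos p hn.ne'
  have h1 := Nat.le_of_dvd hd0 hd
  have h2 := Nat.le_of_dvd hmpos hm
  have h3 : (n / p ^ n.factorization p) * (n / p ^ n.factorization p) <
      p ^ n.factorization p * (n / p ^ n.factorization p) := by
    rw [Nat.ordProj_mul_ordCompl_eq_self]
    exact lt_of_le_of_lt (Nat.mul_le_mul h1 h1) hsq
  exact lt_of_le_of_lt h2 (Nat.lt_of_mul_lt_mul_right h3)

/-- A single prime is live for all non-linear characters. -/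
theorem exists_prime (hna : ¬ IsMulCommutative G) :
    ∃ p : ℕ, p.Prime ∧ ∀ χ : Cfsg.IrrCharacter G, NonLin χ →
      Nat.card G / p ^ (Nat.card G).factorization p ∣ Cfsg.charDegree (χ : G → ℂ) ∧
      ∀ q : ℕ, q.Prime → q ≠ p → ∀ g : G, g ≠ 1 → (∃ k, orderOf g = q ^ k) →
        (χ : G → ℂ) g = 0 := by
  have := Fintype.ofFinite G
  obtain ⟨χ₀, hχ₀⟩ := exists_nonLin hna
  obtain ⟨p, hp, hl₀⟩ := exists_live hG χ₀ hχ₀
  refine ⟨p, hp, fun χ hχ => ?_⟩
  obtain ⟨r, hr, hl⟩ := exists_live hG χ hχ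
  have hrp : r = p := by
    by_contra hne
    have h1 := ordProj_le hp hr (Ne.symm hne) Nat.card_pos (dvd_degree hG χ₀ hχ₀ hp hl₀)
      (BlocksCore.charDegree_pos χ₀) (degree_sq_lt χ₀ hχ₀)
    have h2 := ordProj_le hr hp hne Nat.card_pos (dvd_degree hG χ hχ hr hl)
      (BlocksCore.charDegree_pos χ) (degree_sq_lt χ hχ)
    omega
  subst hrp
  obtain ⟨x, hx, ⟨a, hxo⟩, hx0⟩ := hl
  refine ⟨dvd_degree hG χ hχ hp ⟨x, hx, ⟨a, hxo⟩, hx0⟩, fun q hq hqp g hg ⟨b, hgo⟩ => ?_⟩
  by_contra hg0
  exact hqp (live_unique hG χ hχ hp hq hx hg hxo hgo hx0 hg0).symm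

/-- The derived subgroup is a `p`-group. -/
theorem commutator_isPGroup {p : ℕ} (hp : p.Prime)
    (hdeg : ∀ χ : Cfsg.IrrCharacter G, NonLin χ →
      Nat.card G / p ^ (Nat.card G).factorization p ∣ Cfsg.charDegree (χ : G → ℂ)) :
    IsPGroup p (commutator G) := by
  classical
  have := Fintype.ofFinite G
  have := Fintype.ofFinite (Cfsg.IrrCharacter G)
  have := Fact.mk hp
  set n := Nat.card G with hn
  set m := n / p ^ n.factorization p with hm
  have h1 := card_centralizer_eq (1 : G)
  rw [card_centralizer_one, ← hn] at h1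
  simp only [BlocksCore.irr_one_eq, Complex.normSq_natCast] at h1
  have h2 : n = (commutator G).index +
      ∑ χ ∈ Finset.univ.filter (fun χ : Cfsg.IrrCharacter G => NonLin χ),
        Cfsg.charDegree (χ : G → ℂ) * Cfsg.charDegree (χ : G → ℂ) := by
    exact_mod_cast h1
  have h3 : m ∣ (commutator G).index := by
    have hs : m ∣ ∑ χ ∈ Finset.univ.filter (fun χ : Cfsg.IrrCharacter G => NonLin χ),
        Cfsg.charDegree (χ : G → ℂ) * Cfsg.charDegree (χ : G → ℂ) :=
      Finset.dvd_sum fun χ hχ => (hdeg χ (Finset.mem_filter.mp hχ).2).mul_right _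
    have hmn : m ∣ n := Nat.ordCompl_dvd n p
    rw [h2] at hmn
    exact (Nat.dvd_add_left hs).mp hmn
  obtain ⟨t, ht⟩ := h3
  have h4 : Nat.card (commutator G) * t = p ^ n.factorization p := by
    refine Nat.eq_of_mul_eq_mul_right (Nat.ordCompl_pos p (Nat.card_pos (α := G)).ne') ?_
    rw [Nat.ordProj_mul_ordCompl_eq_self, ← hn, ← hm, mul_assoc, mul_comm t m, ← ht,
      Subgroup.card_mul_index]
  obtain ⟨k, -, hk⟩ := (Nat.dvd_prime_pow hp).mp (Dvd.intro t h4)
  exact IsPGroup.of_card hk

/-- The non-trivial structure. -/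
theorem structure_of (hna : ¬ IsMulCommutative G) (hnp : ¬ ∃ p : ℕ, p.Prime ∧ IsPGroup p G) :
    ∃ (p : ℕ) (_ : Fact p.Prime) (P : Sylow p G) (A : Subgroup G), (P : Subgroup G).Normal ∧
      IsCyclic ↥A ∧ A ≠ ⊥ ∧ (Nat.card ↥A).Coprime p ∧ A ⊔ (P : Subgroup G) = ⊤ ∧
      IsMulCommutative ↥((P : Subgroup G) ⊓ Subgroup.centralizer (A : Set G)) ∧
      (⁅A, (P : Subgroup G)⁆).Normal ∧
      ((P : Subgroup G) ⊓ Subgroup.centralizer (A : Set G)) ⊔ ⁅A, (P : Subgroup G)⁆ =
        (P : Subgroup G) ∧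
      ((P : Subgroup G) ⊓ Subgroup.centralizer (A : Set G)) ⊓ ⁅A, (P : Subgroup G)⁆ = ⊥ ∧
      ∀ a ∈ A, a ≠ 1 → ∀ d ∈ ⁅A, (P : Subgroup G)⁆, a * d = d * a → d = 1 := by
  classical
  have := Fintype.ofFinite G
  obtain ⟨p, hp, hχ⟩ := exists_prime hG hna
  have := Fact.mk hp
  obtain ⟨P⟩ : Nonempty (Sylow p G) := inferInstance
  have hGp := commutator_isPGroup hG hp fun χ h => (hχ χ h).1
  have hG'P : commutator G ≤ (P : Subgroup G) := by
    obtain ⟨Q, hQ⟩ := hGp.exists_le_sylow
    obtain ⟨g, rfl⟩ := MulAction.exists_smul_eq G Q P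
    intro x hx
    show x ∈ MulAut.conj g • (Q : Subgroup G)
    refine Subgroup.mem_pointwise_smul_iff_inv_smul_mem.mpr (hQ ?_)
    simp only [MulAut.smul_def, MulAut.inv_def, map_inv, MulAut.conj_symm_apply]
    simpa [mul_assoc] using (inferInstance : (commutator G).Normal).conj_mem x hx g⁻¹
  have hcomm_mem : ∀ x y : G, ⁅x, y⁆ ∈ commutator G := fun x y => by
    rw [commutator_def]; exact Subgroup.commutator_mem_commutator (Subgroup.mem_top x) (Subgroup.mem_top y)
  have hPn : (P : Subgroup G).Normal := ⟨fun x hx g => by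
    have : g * x * g⁻¹ = ⁅g, x⁆ * x := by simp [commutatorElement_def, mul_assoc]
    rw [this]
    exact mul_mem (hG'P (hcomm_mem g x)) hx⟩
  obtain ⟨A, hA⟩ := Subgroup.exists_right_complement'_of_coprime (N := (P : Subgroup G))
    P.card_coprime_index
  have hPA : (P : Subgroup G) ⊓ A = ⊥ := hA.disjoint.eq_bot
  have hsup : A ⊔ (P : Subgroup G) = ⊤ := by rw [sup_comm]; exact hA.sup_eq_top
  have hAcard : Nat.card A = (P : Subgroup G).index := by rw [hA.symm.index_eq_card]
  have hAcop : (Nat.card A).Coprime p := by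
    rw [hAcard]; exact (hp.coprime_iff_not_dvd.mpr P.not_dvd_index).symm
  have hAab : ∀ a ∈ A, ∀ b ∈ A, a * b = b * a := fun a ha b hb => by
    have h1 : ⁅a, b⁆ ∈ A := by
      rw [commutatorElement_def]; exact mul_mem (mul_mem (mul_mem ha hb) (inv_mem ha)) (inv_mem hb)
    have h2 : ⁅a, b⁆ ∈ (P : Subgroup G) ⊓ A := ⟨hG'P (hcomm_mem a b), h1⟩
    rw [hPA, Subgroup.mem_bot] at h2
    exact commutatorElement_eq_one_iff_mul_comm.mp h2
  have hAne : A ≠ ⊥ := by
    rintro rfl
    apply hnp
    refine ⟨p, hp, ?_⟩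
    rw [bot_sup_eq] at hsup
    exact (hsup ▸ P.isPGroup').of_equiv Subgroup.topEquiv
  have hAN : A ≤ Subgroup.normalizer ((P : Subgroup G) : Set G) := by
    rw [Subgroup.normalizer_eq_top]; exact le_top
  have hPcard : Nat.card (P : Subgroup G) * Nat.card A = Nat.card G := by
    rw [hAcard, Subgroup.card_mul_index]
  have hPdvd : ∀ H : Subgroup G, H ≤ (P : Subgroup G) → ∀ a ∈ A, (orderOf a).Coprime (Nat.card H) := by
    intro H hH a ha
    have h1 : (Nat.card A).Coprime (Nat.card (P : Subgroup G)) := by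
      rw [hAcard]; exact P.card_coprime_index.symm
    exact (h1.coprime_dvd_left (by
      rw [← Nat.card_zpowers]; exact Subgroup.card_dvd_of_le (Subgroup.zpowers_le.mpr ha))).coprime_dvd_right
      (Subgroup.card_dvd_of_le hH)
  set C := (P : Subgroup G) ⊓ Subgroup.centralizer (A : Set G) with hC
  -- elements of prime order
  have hprime : ∀ a ∈ A, (orderOf a).Prime →
      (P : Subgroup G) ⊓ Subgroup.centralizer ({a} : Set G) ⊓ commutator G = ⊥ ∧
        (P : Subgroup G) ⊓ Subgroup.centralizer ({a} : Set G) ≤ C := by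
    intro a ha hq
    set Ca := (P : Subgroup G) ⊓ Subgroup.centralizer ({a} : Set G) with hCa
    set Cg := Subgroup.centralizer ({a} : Set G) with hCg
    have hqp : orderOf a ≠ p := fun e => hp.not_dvd_one (by
      have h1 : p ∣ Nat.card A := e ▸ (Nat.card_zpowers a ▸
        Subgroup.card_dvd_of_le (Subgroup.zpowers_le.mpr ha))
      exact hAcop ▸ Nat.dvd_gcd h1 dvd_rfl)
    have ha1 : a ≠ 1 := fun e => hq.ne_one (by rw [e, orderOf_one])
    have hL := card_eq_of_vanish a fun χ h =>
      (hχ χ h).2 _ hq hqp a ha1 ⟨1, by rw [pow_one]⟩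
    rw [← hCg] at hL
    have hAle : A ≤ Cg := fun b hb => Subgroup.mem_centralizer_singleton_iff.mpr (hAab b hb a ha)
    have hcardC : Nat.card Cg = Nat.card Ca * Nat.card A := by
      apply Nat.dvd_antisymm
      · have h1 : Nat.card Cg = Nat.card Ca * (P : Subgroup G).relIndex Cg := by
          have e := Subgroup.card_mul_index ((P : Subgroup G).subgroupOf Cg)
          rw [Nat.card_congr (Subgroup.subgroupOfEquivOfLe (inf_le_right : Ca ≤ Cg)).toEquiv.symm]
          rw [← e]
          congr 2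
          show _ = ↥(((P : Subgroup G) ⊓ Cg).subgroupOf Cg)
          rw [Subgroup.inf_subgroupOf_right]
        rw [h1, hAcard]
        exact mul_dvd_mul_left _ ((P : Subgroup G).relIndex_dvd_index_of_normal Cg)
      · have hco : (Nat.card Ca).Coprime (Nat.card A) := by
          rw [hAcard]; exact P.card_coprime_index.coprime_dvd_left (Subgroup.card_dvd_of_le inf_le_left)
        exact hco.mul_dvd_of_dvd_of_dvd (Subgroup.card_dvd_of_le inf_le_right)
          (Subgroup.card_dvd_of_le hAle)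
    have hprod : Nat.card Ca * Nat.card (commutator G) = Nat.card (P : Subgroup G) := by
      refine Nat.eq_of_mul_eq_mul_right (Nat.card_pos (α := A)) ?_
      rw [hPcard, mul_right_comm, ← hcardC, hL, mul_comm, Subgroup.card_mul_index]
    have hsupC : commutator G ⊔ Ca = (P : Subgroup G) := by
      refine le_antisymm (sup_le hG'P inf_le_left) ?_
      have hzN : Subgroup.zpowers a ≤ Subgroup.normalizer ((P : Subgroup G) : Set G) :=
        (Subgroup.zpowers_le.mpr ha).trans hAN
      have h := Coprime.commutator_sup_centralizer (Subgroup.zpowers a) (P : Subgroup G) hzN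
        (by rw [Nat.card_zpowers]; exact hPdvd _ le_rfl a ha)
        (Or.inl (Group.isSolvable_of_comm fun x y => by
          obtain ⟨i, hi⟩ := x.2
          obtain ⟨j, hj⟩ := y.2
          apply Subtype.ext
          simp only [Subgroup.coe_mul, ← hi, ← hj]
          exact (Commute.refl a).zpow_zpow i j))
      nth_rewrite 1 [← h]
      refine sup_le_sup ?_ (le_inf inf_le_left ?_)
      · rw [commutator_def]; exact Subgroup.commutator_mono le_top le_top
      · intro x hx
        refine Subgroup.mem_centralizer_singleton_iff.mpr ?_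
        exact (Subgroup.mem_centralizer_iff.mp hx.2 a (Subgroup.mem_zpowers a)).symm
    have hinf : Ca ⊓ commutator G = ⊥ := by
      have h1 : Nat.card ↥(commutator G ⊔ Ca) =
          Nat.card (commutator G) * (commutator G).relIndex Ca := by
        have e := Subgroup.card_mul_index ((commutator G).subgroupOf (commutator G ⊔ Ca))
        rw [Nat.card_congr (Subgroup.subgroupOfEquivOfLe le_sup_left).toEquiv] at e
        rw [← e, ← Subgroup.relIndex_sup_left (H := Ca) (K := commutator G), sup_comm]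
        rfl
      have h2 : Nat.card Ca = Nat.card ↥(Ca ⊓ commutator G) * (commutator G).relIndex Ca := by
        have e := Subgroup.card_mul_index ((commutator G).subgroupOf Ca)
        rw [Nat.card_congr (Subgroup.subgroupOfEquivOfLe (inf_le_left : Ca ⊓ commutator G ≤ Ca)).toEquiv.symm]
        rw [← e]
        congr 2
        rw [Subgroup.inf_subgroupOf_left]
      rw [hsupC, ← hprod, h2] at h1
      apply Subgroup.card_eq_one.mp
      have hpos : 0 < Nat.card (commutator G) * (commutator G).relIndex Ca :=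
        Nat.mul_pos Nat.card_pos (Nat.pos_of_ne_zero fun e => by
          rw [e, mul_zero] at h2; exact Nat.card_pos.ne' h2)
      nlinarith
    refine ⟨hinf, fun c hc => ⟨hc.1, ?_⟩⟩
    refine Subgroup.mem_centralizer_iff.mpr fun b hb => ?_
    have hca : c * a = a * c := Subgroup.mem_centralizer_singleton_iff.mp hc.2
    have hb' : b * c * b⁻¹ ∈ Ca := by
      refine ⟨hPn.conj_mem c hc.1 b, Subgroup.mem_centralizer_singleton_iff.mpr ?_⟩
      calc b * c * b⁻¹ * a = b * c * (b⁻¹ * a) := by group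
        _ = b * c * (a * b⁻¹) := by rw [hAab _ (inv_mem hb) a ha]
        _ = b * (c * a) * b⁻¹ := by group
        _ = (b * a) * c * b⁻¹ := by rw [hca]; group
        _ = a * (b * c * b⁻¹) := by rw [hAab b hb a ha]; group
    have : ⁅b, c⁆ ∈ Ca ⊓ commutator G := ⟨by
      have := mul_mem hb' (inv_mem hc); simpa [commutatorElement_def] using this, hcomm_mem b c⟩
    rw [hinf, Subgroup.mem_bot] at this
    exact commutatorElement_eq_one_iff_mul_comm.mp this
  have hfix : ∀ b ∈ A, b ≠ 1 → ∀ x ∈ (P : Subgroup G), b * x = x * b → x ∈ C := by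
    intro b hb hb1 x hx hbx
    have hne : orderOf b ≠ 1 := fun e => hb1 (orderOf_eq_one_iff.mp e)
    have hq : (orderOf b).minFac.Prime := Nat.minFac_prime hne
    set k := orderOf b / (orderOf b).minFac with hk
    have ho : orderOf (b ^ k) = (orderOf b).minFac :=
      orderOf_pow_orderOf_div (orderOf_pos b).ne' (Nat.minFac_dvd _)
    refine (hprime (b ^ k) (pow_mem hb k) (ho ▸ hq)).2 ⟨hx, ?_⟩
    exact Subgroup.mem_centralizer_singleton_iff.mpr ((show Commute b x from hbx).pow_left k).eq.symm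
  obtain ⟨a₀, ha₀, hq₀⟩ : ∃ a ∈ A, (orderOf a).Prime := by
    obtain ⟨⟨b, hb⟩, hb1⟩ : ∃ b : A, b ≠ 1 := by
      have := (Subgroup.nontrivial_iff_ne_bot A).mpr hAne
      exact exists_ne 1
    have hb1' : b ≠ 1 := fun e => hb1 (Subtype.ext e)
    have hne : orderOf b ≠ 1 := fun e => hb1' (orderOf_eq_one_iff.mp e)
    exact ⟨b ^ (orderOf b / (orderOf b).minFac), pow_mem hb _, by
      rw [orderOf_pow_orderOf_div (orderOf_pos b).ne' (Nat.minFac_dvd _)]
      exact Nat.minFac_prime hne⟩
  have hCa₀ : C ≤ (P : Subgroup G) ⊓ Subgroup.centralizer ({a₀} : Set G) := fun x hx =>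
    ⟨hx.1, Subgroup.mem_centralizer_singleton_iff.mpr
      (Subgroup.mem_centralizer_iff.mp hx.2 a₀ ha₀).symm⟩
  have hCG' : C ⊓ commutator G = ⊥ :=
    le_bot_iff.mp ((inf_le_inf_right _ hCa₀).trans (hprime a₀ ha₀ hq₀).1.le)
  have hCab : ∀ x ∈ C, ∀ y ∈ C, x * y = y * x := fun x hx y hy => by
    have h1 : ⁅x, y⁆ ∈ C := by
      rw [commutatorElement_def]; exact mul_mem (mul_mem (mul_mem hx hy) (inv_mem hx)) (inv_mem hy)
    have h2 : ⁅x, y⁆ ∈ C ⊓ commutator G := ⟨h1, hcomm_mem x y⟩
    rw [hCG', Subgroup.mem_bot] at h2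
    exact commutatorElement_eq_one_iff_mul_comm.mp h2
  set N := ⁅A, (P : Subgroup G)⁆ with hN
  have hNG' : N ≤ commutator G := by
    rw [commutator_def]; exact Subgroup.commutator_mono le_top le_top
  have hsolA : Group.IsSolvable A :=
    Group.isSolvable_of_comm fun x y => Subtype.ext (hAab _ x.2 _ y.2)
  have hCN : C ⊔ N = (P : Subgroup G) := by
    rw [sup_comm, hN, Subgroup.commutator_comm]
    exact Coprime.commutator_sup_centralizer A (P : Subgroup G) hAN
      (by rw [hAcard]; exact P.card_coprime_index.symm) (Or.inl hsolA)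
  have hCNbot : C ⊓ N = ⊥ := le_bot_iff.mp ((inf_le_inf_left C hNG').trans hCG'.le)
  have hNn : N.Normal := by
    rw [← Subgroup.normalizer_eq_top_iff, eq_top_iff, ← hsup]
    refine sup_le (Coprime.le_normalizer_commutator_left (P : Subgroup G) A)
      (Coprime.le_normalizer_commutator_right (P : Subgroup G) A)
  refine ⟨p, ⟨hp⟩, P, A, hPn, ?_, hAne, hAcop, hsup,
    ⟨⟨fun x y => Subtype.ext (hCab _ x.2 _ y.2)⟩⟩, hNn, hCN, hCNbot, ?_⟩
  · -- cyclicity
    have hNP : N ≤ (P : Subgroup G) := hNG'.trans hG'P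
    have hNne : N ≠ ⊥ := by
      intro hbot
      rw [hbot, sup_bot_eq] at hCN
      apply hna
      have hc : (⊤ : Subgroup G) ≤ Subgroup.center G := by
        rw [← hsup]
        refine sup_le ?_ ?_
        · intro a ha
          refine Subgroup.mem_center_iff.mpr fun g => ?_
          have hg : g ∈ A ⊔ (P : Subgroup G) := hsup ▸ Subgroup.mem_top g
          have : A ⊔ (P : Subgroup G) ≤ Subgroup.centralizer ({a} : Set G) :=
            sup_le (fun b hb => Subgroup.mem_centralizer_singleton_iff.mpr (hAab b hb a ha))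
              (fun x hx => Subgroup.mem_centralizer_singleton_iff.mpr
                (Subgroup.mem_centralizer_iff.mp ((hCN.ge hx : x ∈ C)).2 a ha).symm)
          exact Subgroup.mem_centralizer_singleton_iff.mp (this hg)
        · intro y hy
          refine Subgroup.mem_center_iff.mpr fun g => ?_
          have hg : g ∈ A ⊔ (P : Subgroup G) := hsup ▸ Subgroup.mem_top g
          have : A ⊔ (P : Subgroup G) ≤ Subgroup.centralizer ({y} : Set G) :=
            sup_le (fun b hb => Subgroup.mem_centralizer_singleton_iff.mpr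
                (Subgroup.mem_centralizer_iff.mp ((hCN.ge hy : y ∈ C)).2 b hb))
              (fun x hx => Subgroup.mem_centralizer_singleton_iff.mpr
                (hCab x (hCN.ge hx) y (hCN.ge hy)))
          exact Subgroup.mem_centralizer_singleton_iff.mp (this hg)
      exact ⟨⟨fun x y => Subgroup.mem_center_iff.mp (hc (Subgroup.mem_top y)) x⟩⟩
    have hNp : IsPGroup p N := P.isPGroup'.to_le hNP
    have := (Subgroup.nontrivial_iff_ne_bot N).mpr hNne
    have hZ : Nontrivial (Subgroup.center N) := hNp.center_nontrivial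
    let Z : Subgroup G := (Subgroup.center N).map N.subtype
    have hZn : Z.Normal := inferInstance
    have : Nontrivial Z :=
      ((Subgroup.center N).equivMapOfInjective N.subtype N.subtype_injective).symm.toEquiv.nontrivial
    letI : CommGroup Z :=
      { (inferInstance : Group Z) with
        mul_comm := fun x y => by
          obtain ⟨x', hx', ex⟩ := x.2
          obtain ⟨y', hy', ey⟩ := y.2
          apply Subtype.ext
          simp only [Subgroup.coe_mul, ← ex, ← ey, ← map_mul]
          exact congrArg _ (Subgroup.mem_center_iff.mp hy' x') }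
    letI : MulDistribMulAction A Z :=
      MulDistribMulAction.compHom Z ((MulAut.conjNormal (H := Z)).comp A.subtype)
    refine ZassNormal.isCyclic_of_fpf_comm (V := A) (M := Z)
      (fun x y => Subtype.ext (hAab _ x.2 _ y.2)) ?_ ?_
    · refine Nat.Coprime.coprime_dvd_right (Subgroup.card_dvd_of_le
        ((Subgroup.map_subtype_le _).trans hNP)) ?_
      rw [hAcard]; exact P.card_coprime_index.symm
    · intro v hv x hx
      obtain ⟨x', -, ex⟩ := x.2
      have hxN : (x : G) ∈ N := by rw [← ex]; exact x'.2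
      have hc : (v : G) * x * (v : G)⁻¹ = x := congrArg Subtype.val hx
      have hxC : (x : G) ∈ C := hfix v v.2 (fun e => hv (Subtype.ext e)) x (hNP hxN)
        (mul_inv_eq_iff_eq_mul.mp hc)
      exact Subtype.ext (Subgroup.mem_bot.mp (hCNbot.le ⟨hxC, hxN⟩))
  · intro a ha ha1 d hd hcd
    exact (Subgroup.mem_bot.mp (hCNbot.le ⟨hfix a ha ha1 d (hG'P (hNG' hd)) hcd, hd⟩))

omit hG in
/-- The converse for the non-trivial structure. -/
theorem mult_of {p : ℕ} [hp : Fact p.Prime] (P : Sylow p G) (A : Subgroup G)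
    (hPn : (P : Subgroup G).Normal) (hcyc : IsCyclic ↥A) (hcop : (Nat.card ↥A).Coprime p)
    (hsup : A ⊔ (P : Subgroup G) = ⊤)
    (hCab : IsMulCommutative ↥((P : Subgroup G) ⊓ Subgroup.centralizer (A : Set G)))
    (hNn : (⁅A, (P : Subgroup G)⁆).Normal)
    (hCN : ((P : Subgroup G) ⊓ Subgroup.centralizer (A : Set G)) ⊔ ⁅A, (P : Subgroup G)⁆ =
        (P : Subgroup G))
    (hfpf : ∀ a ∈ A, a ≠ 1 → ∀ d ∈ ⁅A, (P : Subgroup G)⁆, a * d = d * a → d = 1) :
    Mult G := by
  classical
  set C := (P : Subgroup G) ⊓ Subgroup.centralizer (A : Set G) with hC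
  set N := ⁅A, (P : Subgroup G)⁆ with hN
  -- the derived subgroup is in `N`
  have hG'N : commutator G ≤ N := by
    let H := A ⊔ C
    have hH : H ≤ Subgroup.centralizer (H : Set G) := by
      have hAA : ∀ a ∈ A, ∀ b ∈ A, b * a = a * b := fun a ha b hb =>
        congrArg Subtype.val (Commute.eq
          (by obtain ⟨g, hg⟩ := hcyc.exists_zpow_surjective
              obtain ⟨i, hi⟩ := hg ⟨a, ha⟩
              obtain ⟨j, hj⟩ := hg ⟨b, hb⟩
              rw [← hi, ← hj]
              exact (Commute.refl g).zpow_zpow j i : Commute (⟨b, hb⟩ : A) ⟨a, ha⟩))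
      have hCC : ∀ a ∈ C, ∀ b ∈ C, b * a = a * b := fun a ha b hb =>
        congrArg Subtype.val (hCab.is_comm.comm ⟨b, hb⟩ ⟨a, ha⟩)
      have hAC : ∀ a ∈ A, ∀ c ∈ C, a * c = c * a := fun a ha c hc =>
        Subgroup.mem_centralizer_iff.mp hc.2 a ha
      have h1 : A ≤ Subgroup.centralizer (H : Set G) := by
        rw [Subgroup.le_centralizer_iff]
        refine sup_le (fun x hx => Subgroup.mem_centralizer_iff.mpr fun y hy => hAA x hx y hy)
          (fun x hx => Subgroup.mem_centralizer_iff.mpr fun y hy => hAC y hy x hx)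
      have h2 : C ≤ Subgroup.centralizer (H : Set G) := by
        rw [Subgroup.le_centralizer_iff]
        refine sup_le (fun x hx => Subgroup.mem_centralizer_iff.mpr fun y hy => (hAC x hx y hy).symm)
          (fun x hx => Subgroup.mem_centralizer_iff.mpr fun y hy => hCC x hx y hy)
      exact sup_le h1 h2
    rw [commutator_def, Subgroup.commutator_le]
    intro g _ k _
    have hmem : ∀ g : G, ∃ h ∈ H, (QuotientGroup.mk' N) g = QuotientGroup.mk' N h := by
      intro g
      have hg : g ∈ H ⊔ N := by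
        show g ∈ (A ⊔ C) ⊔ N
        rw [sup_assoc, hCN, hsup]; exact Subgroup.mem_top g
      rw [← SetLike.mem_coe, Subgroup.mul_normal] at hg
      obtain ⟨h, hh, n, hn, rfl⟩ := hg
      refine ⟨h, hh, ?_⟩
      simp [(QuotientGroup.eq_one_iff n).mpr hn]
    obtain ⟨h₁, hh₁, e₁⟩ := hmem g
    obtain ⟨h₂, hh₂, e₂⟩ := hmem k
    refine (QuotientGroup.eq_one_iff _).mp ?_
    show QuotientGroup.mk' N ⁅g, k⁆ = 1
    rw [map_commutatorElement, e₁, e₂, ← map_commutatorElement,
      commutatorElement_eq_one_iff_mul_comm.mpr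
        (Subgroup.mem_centralizer_iff.mp (hH hh₂) h₁ hh₁), map_one]
  have hNP : N ≤ (P : Subgroup G) := by rw [← hCN]; exact le_sup_right
  -- non-linear characters vanish outside `P`
  have hvan : ∀ g : G, g ∉ (P : Subgroup G) → ∀ χ : Cfsg.IrrCharacter G, NonLin χ →
      (χ : G → ℂ) g = 0 := by
    intro g hg
    refine vanish_of_card_le g ?_
    -- the prime to `p` part of `g`
    obtain ⟨k, hk⟩ : ∃ k : ℕ, Nat.card (P : Subgroup G) = p ^ k := P.isPGroup'.exists_card_eq
    set b := g ^ Nat.card (P : Subgroup G) with hb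
    have hPA : (Nat.card A).Coprime (Nat.card (P : Subgroup G)) := hk ▸ hcop.pow_right k
    have hb1 : b ≠ 1 := by
      intro e
      apply hg
      have hzp : IsPGroup p (Subgroup.zpowers g) := by
        obtain ⟨j, -, hj⟩ := (Nat.dvd_prime_pow hp.out).mp (hk ▸ orderOf_dvd_of_pow_eq_one e)
        exact IsPGroup.of_card (by rw [Nat.card_zpowers, hj])
      obtain ⟨Q, hQ⟩ := hzp.exists_le_sylow
      have := Sylow.unique_of_normal P hPn
      rw [Subsingleton.elim Q P] at hQ
      exact hQ (Subgroup.mem_zpowers g)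
    have hidx : (P : Subgroup G).index ∣ Nat.card A := by
      have h := Subgroup.relIndex_sup_left (H := A) (K := (P : Subgroup G))
      rw [sup_comm, hsup, Subgroup.relIndex_top_right] at h
      rw [h]; exact Subgroup.relIndex_dvd_card _ _
    have hbA : (orderOf b) ∣ Nat.card A := by
      refine orderOf_dvd_of_pow_eq_one ?_
      rw [hb, ← pow_mul]
      refine orderOf_dvd_iff_pow_eq_one.mp ((orderOf_dvd_natCard g).trans ?_)
      rw [← Subgroup.card_mul_index (P : Subgroup G)]
      exact mul_dvd_mul_left _ hidx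
    have hcb : (Nat.card (Subgroup.zpowers b)).Coprime (Nat.card (P : Subgroup G)) := by
      rw [Nat.card_zpowers]; exact hPA.coprime_dvd_left hbA
    obtain ⟨u, hu, hub⟩ := Coprime.exists_conj_le_of_le_sup (Subgroup.zpowers b) (P : Subgroup G) A
      (by rw [Subgroup.normalizer_eq_top]; exact le_top)
      (by rw [Subgroup.normalizer_eq_top]; exact le_top) hcb
      (Or.inl (Group.isSolvable_of_comm fun x y => by
        obtain ⟨i, hi⟩ := x.2
        obtain ⟨j, hj⟩ := y.2
        apply Subtype.ext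
        simp only [Subgroup.coe_mul, ← hi, ← hj]
        exact (Commute.refl b).zpow_zpow i j))
      (by rw [sup_comm, hsup]; exact le_top)
    have ha := hub b (Subgroup.mem_zpowers b)
    have hdis : ∀ n ∈ N, n * g = g * n → n = 1 := by
      intro n hn hng
      have hnb : n * b = b * n := (show Commute n g from hng).pow_right _
      have h := hfpf _ ha (fun e => hb1 (by simpa [mul_assoc] using congrArg (fun z => u⁻¹ * z * u) e))
        (u * n * u⁻¹) (hNn.conj_mem n hn u) (by
          calc u * b * u⁻¹ * (u * n * u⁻¹) = u * (b * n) * u⁻¹ := by group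
            _ = u * (n * b) * u⁻¹ := by rw [hnb]
            _ = u * n * u⁻¹ * (u * b * u⁻¹) := by group)
      simpa [mul_assoc] using congrArg (fun z => u⁻¹ * z * u) h
    have hinf : commutator G ⊓ Subgroup.centralizer ({g} : Set G) = ⊥ :=
      eq_bot_iff.mpr fun n hn => Subgroup.mem_bot.mpr
        (hdis n (hG'N hn.1) (Subgroup.mem_centralizer_singleton_iff.mp hn.2))
    have h1 : (commutator G).relIndex (Subgroup.centralizer ({g} : Set G)) =
        Nat.card (Subgroup.centralizer ({g} : Set G)) := by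
      rw [← Subgroup.inf_relIndex_right, hinf, Subgroup.relIndex_bot_left]
    rw [← h1]
    exact Nat.le_of_dvd (Nat.pos_of_ne_zero Subgroup.FiniteIndex.index_ne_zero)
      ((commutator G).relIndex_dvd_index_of_normal _)
  intro x y χ hx hy ⟨q, r, a, b, hq, hr, hqr, hxo, hyo⟩
  by_cases hχ : NonLin χ
  swap
  · obtain ⟨f, hf⟩ := not_nonLin χ hχ
    simp [hf]
  have hP : ∀ z : G, ∀ s c : ℕ, s.Prime → z ≠ 1 → orderOf z = s ^ c → z ∈ (P : Subgroup G) →
      s = p := by
    intro z s c hs hz ho hzP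
    obtain ⟨j, hj⟩ := IsPGroup.iff_orderOf.mp P.isPGroup' ⟨z, hzP⟩
    rw [Subgroup.orderOf_mk, ho] at hj
    rcases Nat.eq_zero_or_pos c with rfl | hc
    · exact absurd (orderOf_eq_one_iff.mp (by simpa using ho)) hz
    · exact (Nat.prime_dvd_prime_iff_eq hs hp.out).mp
        (hs.dvd_of_dvd_pow (hj ▸ dvd_pow_self s hc.ne'))
  have hboth : ¬ (x ∈ (P : Subgroup G) ∧ y ∈ (P : Subgroup G)) := fun h =>
    hqr ((hP x q a hq hx hxo h.1).trans (hP y r b hr hy hyo h.2).symm)
  have hxy : x * y ∉ (P : Subgroup G) := by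
    intro h
    apply hboth
    have hxy1 : (x : G ⧸ (P : Subgroup G)) * (y : G ⧸ (P : Subgroup G)) = 1 :=
      (QuotientGroup.eq_one_iff _).mpr h
    have hyx : (y : G ⧸ (P : Subgroup G)) = (x : G ⧸ (P : Subgroup G))⁻¹ :=
      eq_inv_of_mul_eq_one_right hxy1
    have h1 : orderOf (x : G ⧸ (P : Subgroup G)) ∣ q ^ a :=
      hxo ▸ orderOf_map_dvd (QuotientGroup.mk' (P : Subgroup G)) x
    have h2 : orderOf (x : G ⧸ (P : Subgroup G)) ∣ r ^ b := by
      rw [← orderOf_inv, ← hyx, ← hyo]
      exact orderOf_map_dvd (QuotientGroup.mk' (P : Subgroup G)) y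
    have hone : (x : G ⧸ (P : Subgroup G)) = 1 :=
      orderOf_eq_one_iff.mp (Nat.eq_one_of_dvd_coprimes
        (Nat.Coprime.pow a b ((Nat.coprime_primes hq hr).mpr hqr)) h1 h2)
    exact ⟨(QuotientGroup.eq_one_iff x).mp hone,
      (QuotientGroup.eq_one_iff y).mp (by rw [hyx, hone, inv_one])⟩
  rw [hvan _ hxy χ hχ]
  by_cases hxP : x ∈ (P : Subgroup G)
  · rw [hvan y (fun h => hboth ⟨hxP, h⟩) χ hχ, mul_zero]
  · rw [hvan x hxP χ hχ, zero_mul]

end Cfsg.Agent.FG78.MultChar
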