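import Mathlib

/-! Elementary facts about Sylow subgroups of prime order. -/

namespace Cfsg.Agent.FG78.PrimeSylow

open Subgroup MulAction

variable {G : Type*} [Group G] [Finite G]

theorem card_sylow_eq {r : ℕ} [hr : Fact r.Prime] (hdvd : r ∣ Nat.card G) (hsq : ¬ r ^ 2 ∣ Nat.card G)
    (P : Sylow r G) : Nat.card (P : Subgroup G) = r := by
  obtain ⟨k, hk⟩ := P.2.exists_card_eq
  have h1 : r ∣ Nat.card (P : Subgroup G) := P.dvd_card_of_dvd_card hdvd
  have h2 : Nat.card (P : Subgroup G) ∣ Nat.card G := card_subgroup_dvd_card _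
  have hk' : Nat.card (P : Subgroup G) = r ^ k := hk
  rw [hk'] at h1 h2 ⊢
  rcases k with _ | _ | k
  · simp only [pow_zero, Nat.dvd_one] at h1
    exact absurd h1 hr.out.ne_one
  · simp
  · exact absurd ((pow_dvd_pow r (by omega)).trans h2) hsq

/-- the centraliser of a Sylow subgroup -/
def cent {r : ℕ} (P : Sylow r G) : Subgroup G := centralizer ((P : Subgroup G) : Set G)

theorem mem_cent {r : ℕ} {P : Sylow r G} {g : G} :
    g ∈ cent P ↔ ∀ x ∈ (P : Subgroup G), x * g = g * x := mem_centralizer_iff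

theorem map_cent {r : ℕ} (P : Sylow r G) (g : G) :
    (cent P).map (MulAut.conj g).toMonoidHom = cent (g • P) := by
  have hcoe : ((g • P : Sylow r G) : Subgroup G) = (P : Subgroup G).map (MulAut.conj g).toMonoidHom :=
    rfl
  ext x
  simp only [mem_map, mem_cent, hcoe]
  constructor
  · rintro ⟨y, hy, rfl⟩ z ⟨w, hw, rfl⟩
    rw [← map_mul, ← map_mul, hy w hw]
  · intro h
    refine ⟨g⁻¹ * x * g, fun w hw => ?_, by simp [mul_assoc]⟩
    have h1 := h (g * w * g⁻¹) ⟨w, hw, by simp⟩
    calc w * (g⁻¹ * x * g) = g⁻¹ * ((g * w * g⁻¹) * x) * g := by group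
      _ = g⁻¹ * (x * (g * w * g⁻¹)) * g := by rw [h1]
      _ = g⁻¹ * x * g * w := by group

theorem card_cent_eq {r : ℕ} [Fact r.Prime] (P Q : Sylow r G) :
    Nat.card (cent P) = Nat.card (cent Q) := by
  obtain ⟨g, rfl⟩ := exists_smul_eq G P Q
  rw [← map_cent, card_map_of_injective (MulAut.conj g).injective]

theorem isMulCommutative_of_prime {r : ℕ} [Fact r.Prime] {P : Subgroup G}
    (hP : Nat.card P = r) : ∀ x ∈ P, ∀ y ∈ P, x * y = y * x := by
  intro x hx y hy
  haveI : IsCyclic P := isCyclic_of_prime_card hP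
  obtain ⟨g, hg⟩ := IsCyclic.exists_generator (α := P)
  obtain ⟨i, hi⟩ := hg ⟨x, hx⟩
  obtain ⟨j, hj⟩ := hg ⟨y, hy⟩
  have hi' : (g : G) ^ i = x := by simpa using congrArg Subtype.val hi
  have hj' : (g : G) ^ j = y := by simpa using congrArg Subtype.val hj
  rw [← hi', ← hj', zpow_mul_comm]

theorem le_cent {r : ℕ} [Fact r.Prime] {P : Sylow r G} (hP : Nat.card (P : Subgroup G) = r) :
    (P : Subgroup G) ≤ cent P := fun x hx =>
  mem_cent.mpr fun y hy => isMulCommutative_of_prime hP y hy x hx

theorem cent_le_normalizer {r : ℕ} (P : Sylow r G) :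
    cent P ≤ normalizer ((P : Subgroup G) : Set G) := centralizer_le_normalizer _

/-- For a simple group with Sylow subgroup of prime order: `|N(P)| = e |C(P)|`. -/
theorem exists_index {r : ℕ} [hr : Fact r.Prime] [IsSimpleGroup G] (hne : Nat.card G ≠ r)
    (P : Sylow r G) (hP : Nat.card (P : Subgroup G) = r) :
    ∃ e, 2 ≤ e ∧ e ∣ r - 1 ∧
      Nat.card G = Nat.card (Sylow r G) * (Nat.card (cent P) * e) := by
  set N := normalizer ((P : Subgroup G) : Set G) with hN
  refine ⟨(cent P).relIndex N, ?_, ?_, ?_⟩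
  · by_contra h
    have h0 : (cent P).relIndex N ≠ 0 := Nat.card_pos.ne'
    have h1 : (cent P).relIndex N = 1 := by omega
    have hle : N ≤ cent P := relIndex_eq_one.mp h1
    have hc := MonoidHom.ker_transferSylow_isComplement' P hle
    have hmul := hc.card_mul
    rcases (MonoidHom.normal_ker (MonoidHom.transferSylow P hle)).eq_bot_or_eq_top with hk | hk
    · rw [hk, card_bot, one_mul, hP] at hmul
      exact hne hmul.symm
    · rw [hk, card_top, hP] at hmul
      have : 0 < Nat.card G := Nat.card_pos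
      have h2r := hr.out.two_le
      nlinarith
  · have key := card_dvd_of_injective _
      (QuotientGroup.kerLift_injective (normalizerMonoidHom (P : Subgroup G)))
    rw [normalizerMonoidHom_ker, ← Subgroup.index, ← relIndex] at key
    haveI : IsCyclic (P : Subgroup G) := isCyclic_of_prime_card hP
    rw [IsCyclic.card_mulAut, hP, Nat.totient_prime hr.out] at key
    exact key
  · rw [P.card_eq_index_normalizer]
    have h := (normalizer ((P : Subgroup G) : Set G)).card_mul_index
    have h2 : (cent P).relIndex N * Nat.card (cent P) = Nat.card N := by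
      rw [relIndex, ← Nat.card_congr (subgroupOfEquivOfLe (cent_le_normalizer P)).toEquiv]
      exact index_mul_card _
    rw [← h2] at h
    rw [← h]
    simp only [Sylow.coe_coe]
    ring

/-- an element of order `r` centralising `P` lies in `P` -/
theorem mem_of_commute {r : ℕ} [hr : Fact r.Prime] (P : Sylow r G) {x : G}
    (hx : orderOf x = r) (hc : x ∈ cent P) : x ∈ (P : Subgroup G) := by
  have hz : IsPGroup r (zpowers x) := IsPGroup.of_card (n := 1) (by simp [hx])
  have hle : zpowers x ≤ normalizer ((P : Subgroup G) : Set G) :=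
    (zpowers_le.mpr hc).trans (cent_le_normalizer P)
  have hsup := IsPGroup.to_sup_of_normal_right' hz P.2 hle
  have h := P.3 hsup le_sup_right
  rw [← h]
  exact mem_sup_left (mem_zpowers x)

/-- The Sylow `s`-subgroups centralising `P` correspond to those of `cent P`. -/
theorem fibre {r s : ℕ} [hr : Fact r.Prime] [hs : Fact s.Prime] (P : Sylow r G)
    (hssq : ¬ s ^ 2 ∣ Nat.card G) (hsC : s ∣ Nat.card (cent P)) :
    Nat.card {S : Sylow s G // (S : Subgroup G) ≤ cent P} = Nat.card (Sylow s (cent P)) := by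
  refine Nat.card_eq_of_bijective (fun S => S.1.subtype S.2) ⟨?_, ?_⟩
  · intro S T h
    exact Subtype.ext (Sylow.subtype_injective h)
  · intro T
    have hT : Nat.card (T : Subgroup (cent P)) = s :=
      card_sylow_eq hsC (fun h => hssq (h.trans (card_subgroup_dvd_card _))) T
    have hsG : s ∣ Nat.card G := hsC.trans (card_subgroup_dvd_card _)
    have hmap : Nat.card ((T : Subgroup (cent P)).map (cent P).subtype) = s := by
      rw [card_map_of_injective (cent P).subtype_injective, hT]
    obtain ⟨S, hS⟩ := (IsPGroup.of_card (n := 1) (by rw [hmap, pow_one]) :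
      IsPGroup s ((T : Subgroup (cent P)).map (cent P).subtype)).exists_le_sylow
    have hSeq : (T : Subgroup (cent P)).map (cent P).subtype = S :=
      eq_of_le_of_card_ge hS (by rw [hmap, card_sylow_eq hsG hssq S])
    have hSC : (S : Subgroup G) ≤ cent P := hSeq ▸ map_subtype_le _
    refine ⟨⟨S, hSC⟩, ?_⟩
    ext1
    rw [Sylow.coe_subtype, ← hSeq]
    exact comap_map_eq_self_of_injective (cent P).subtype_injective _

theorem fibre_const {r s : ℕ} [hr : Fact r.Prime] [hs : Fact s.Prime] (P Q : Sylow r G) :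
    Nat.card {S : Sylow s G // (S : Subgroup G) ≤ cent P} =
      Nat.card {S : Sylow s G // (S : Subgroup G) ≤ cent Q} := by
  obtain ⟨g, rfl⟩ := exists_smul_eq G P Q
  refine Nat.card_congr ((MulAction.toPerm g : Equiv.Perm (Sylow s G)).subtypeEquiv fun S => ?_)
  show _ ↔ ((g • S : Sylow s G) : Subgroup G) ≤ _
  rw [← map_cent]
  exact (map_le_map_iff_of_injective (MulAut.conj g).injective).symm

theorem exists_sylow_le_cent {r s : ℕ} [hr : Fact r.Prime] [hs : Fact s.Prime] (P : Sylow r G)
    (hssq : ¬ s ^ 2 ∣ Nat.card G) (hsC : s ∣ Nat.card (cent P)) :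
    ∃ S : Sylow s G, (S : Subgroup G) ≤ cent P := by
  have h := fibre P hssq hsC
  have hpos : 0 < Nat.card {S : Sylow s G // (S : Subgroup G) ≤ cent P} := by
    rw [h]; exact Nat.card_pos
  obtain ⟨⟨S, hS⟩⟩ := (Nat.card_pos_iff.mp hpos).1
  exact ⟨S, hS⟩

theorem double_count {r s : ℕ} [hr : Fact r.Prime] [hs : Fact s.Prime]
    (P : Sylow r G) (S : Sylow s G) :
    Nat.card (Sylow r G) * Nat.card {T : Sylow s G // (T : Subgroup G) ≤ cent P} =
      Nat.card (Sylow s G) * Nat.card {Q : Sylow r G // (Q : Subgroup G) ≤ cent S} := by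
  classical
  haveI := Fintype.ofFinite (Sylow r G)
  haveI := Fintype.ofFinite (Sylow s G)
  have h := Nat.card_congr
    (show (Σ Q : Sylow r G, {T : Sylow s G // (T : Subgroup G) ≤ cent Q}) ≃
      (Σ T : Sylow s G, {Q : Sylow r G // (Q : Subgroup G) ≤ cent T}) from
      { toFun := fun a => ⟨a.2.1, a.1, le_centralizer_iff.mp a.2.2⟩
        invFun := fun a => ⟨a.2.1, a.1, le_centralizer_iff.mp a.2.2⟩
        left_inv := fun a => rfl
        right_inv := fun a => rfl })
  rw [Nat.card_sigma, Nat.card_sigma] at h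
  simp_rw [fun Q => fibre_const (s := s) Q P, fun T => fibre_const (s := r) T S] at h
  simpa [Nat.card_eq_fintype_card] using h

end Cfsg.Agent.FG78.PrimeSylow
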