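import Cfsg.Agent.FG78.Arith175560
import Cfsg.Agent.FG78.SylowFacts175560

/-! No simple group has order a proper divisor of 175560 divisible by 19, apart from 19. -/

namespace Cfsg.Agent.FG78.A175560

open Subgroup MulAction PrimeSylow

variable {G : Type*} [Group G] [Finite G]

noncomputable def cOf (G : Type*) [Group G] (r : ℕ) : ℕ :=
  Nat.card (cent (Classical.arbitrary (Sylow r G))) / r

theorem card_cent_eq_mul {r : ℕ} [hr : Fact r.Prime] (hd : r ∣ Nat.card G)
    (hsq : ¬ r ^ 2 ∣ Nat.card G) (P : Sylow r G) : Nat.card (cent P) = r * cOf G r := by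
  have hP := card_sylow_eq hd hsq (Classical.arbitrary (Sylow r G))
  have h : r ∣ Nat.card (cent (Classical.arbitrary (Sylow r G))) := by
    have h1 := card_dvd_of_le (le_cent hP)
    rwa [hP] at h1
  rw [card_cent_eq P (Classical.arbitrary (Sylow r G)), cOf, Nat.mul_div_cancel' h]

theorem orderOf_dvd_cent {r : ℕ} (P : Sylow r G) {g : G} (hg : g ∈ cent P) :
    orderOf g ∣ Nat.card (cent P) := by
  rw [← orderOf_mk g hg]
  exact orderOf_dvd_natCard _

/-- Counting elements of order divisible by `r` in the centraliser of `P`. -/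
theorem card_singular {r : ℕ} [hr : Fact r.Prime] (P : Sylow r G)
    (hP : Nat.card (P : Subgroup G) = r) {c : ℕ} (hc : Nat.card (cent P) = r * c) :
    (r - 1) * c ≤ Nat.card {g : G // g ∈ cent P ∧ r ∣ orderOf g} := by
  classical
  set A := {g : G // g ∈ cent P ∧ r ∣ orderOf g}
  set B := {g : G // g ∈ cent P ∧ ¬ r ∣ orderOf g}
  have e : Nat.card A + Nat.card B = Nat.card (cent P) := by
    rw [← Nat.card_sum]
    refine Nat.card_congr ?_
    exact ((Equiv.sumCongr (Equiv.subtypeSubtypeEquivSubtypeInter (fun g : G => g ∈ cent P)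
      (fun g => r ∣ orderOf g)).symm (Equiv.subtypeSubtypeEquivSubtypeInter (fun g : G => g ∈ cent P)
      (fun g => ¬ r ∣ orderOf g)).symm).trans (Equiv.sumCompl _))
  let f : B × ↥(P : Subgroup G) → (cent P) := fun a =>
    ⟨a.1.1 * a.2.1, mul_mem a.1.2.1 (le_cent hP a.2.2)⟩
  have hf : Function.Injective f := by
    rintro ⟨⟨b, hb, hb'⟩, y, hy⟩ ⟨⟨b₁, hb₁, hb₁'⟩, y₁, hy₁⟩ h
    have h' : b * y = b₁ * y₁ := congrArg Subtype.val h
    have hb₁e : b₁ = b * (y * y₁⁻¹) := by rw [← mul_assoc, h', mul_assoc, mul_inv_cancel, mul_one]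
    have hz : y * y₁⁻¹ ∈ (P : Subgroup G) := mul_mem hy (inv_mem hy₁)
    have hz1 : y * y₁⁻¹ = 1 := by
      by_contra hz1
      have hzo : orderOf (y * y₁⁻¹) = r := by
        have h1 : orderOf (y * y₁⁻¹) ∣ r := by
          conv_rhs => rw [← hP]
          rw [← orderOf_mk (y * y₁⁻¹) hz]
          exact orderOf_dvd_natCard _
        rcases (Nat.dvd_prime hr.out).mp h1 with h2 | h2
        · exact absurd (orderOf_eq_one_iff.mp h2) hz1
        · exact h2
      have hcom : Commute b (y * y₁⁻¹) := (mem_cent.mp hb _ hz).symm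
      have := hcom.orderOf_mul_eq_mul_orderOf_of_coprime
        (by rw [hzo]; exact (hr.out.coprime_iff_not_dvd.mpr hb').symm)
      exact hb₁' (by rw [hb₁e, this, hzo]; exact dvd_mul_left _ _)
    have hyy : y = y₁ := mul_inv_eq_one.mp hz1
    subst hyy
    have : b = b₁ := mul_right_cancel h'
    subst this
    rfl
  have h2 := Nat.card_le_card_of_injective f hf
  rw [Nat.card_prod, hP, hc] at h2
  have h3 : Nat.card B ≤ c := by
    rw [mul_comm r c] at h2
    exact Nat.le_of_mul_le_mul_right h2 hr.out.pos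
  rw [hc] at e
  rw [Nat.sub_mul, one_mul]
  omega

theorem le_total (l : List ℕ) (hl : l.Nodup) (hp : ∀ r ∈ l, r.Prime)
    (hd : ∀ r ∈ l, r ∣ Nat.card G) (hsq : ∀ r ∈ l, ¬ r ^ 2 ∣ Nat.card G) :
    total (l.map fun r => (r, Nat.card (Sylow r G), cOf G r)) ≤ Nat.card G := by
  classical
  haveI := Fintype.ofFinite G
  set ch := l.map fun r => (r, Nat.card (Sylow r G), cOf G r) with hch
  let X : ℕ → Finset G := fun r => Finset.univ.filter fun g =>
    r ∣ orderOf g ∧ ∀ s ∈ l, r < s → ¬ s ∣ orderOf g
  have hX : ∀ r ∈ l, (r - 1) * Nat.card (Sylow r G) * eff ch (r, Nat.card (Sylow r G), cOf G r)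
      ≤ (X r).card := by
    intro r hr
    haveI := Fact.mk (hp r hr)
    haveI := Fintype.ofFinite (Sylow r G)
    let Y : Sylow r G → Finset G := fun P => (X r).filter fun g => g ∈ cent P
    have hdis : Set.PairwiseDisjoint ↑(Finset.univ : Finset (Sylow r G)) Y := by
      intro P _ Q _ hPQ
      rw [Function.onFun, Finset.disjoint_left]
      intro g hgP hgQ
      simp only [Y, X, Finset.mem_filter, Finset.mem_univ, true_and] at hgP hgQ
      apply hPQ
      have hx : orderOf (g ^ (orderOf g / r)) = r :=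
        orderOf_pow_orderOf_div (orderOf_pos g).ne' hgP.1.1
      have h1 := mem_of_commute P hx (pow_mem hgP.2 _)
      have h2 := mem_of_commute Q hx (pow_mem hgQ.2 _)
      have hz : Nat.card (zpowers (g ^ (orderOf g / r))) = r := by rw [Nat.card_zpowers, hx]
      have e1 := eq_of_le_of_card_ge (zpowers_le.mpr h1)
        (by rw [hz, card_sylow_eq (hd r hr) (hsq r hr) P])
      have e2 := eq_of_le_of_card_ge (zpowers_le.mpr h2)
        (by rw [hz, card_sylow_eq (hd r hr) (hsq r hr) Q])
      exact Sylow.ext (e1.symm.trans e2)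
    have hle : ∀ P : Sylow r G, (r - 1) * eff ch (r, Nat.card (Sylow r G), cOf G r) ≤ (Y P).card := by
      intro P
      have hP := card_sylow_eq (hd r hr) (hsq r hr) P
      have hc := card_cent_eq_mul (hd r hr) (hsq r hr) P
      rw [eff]
      split_ifs with hany
      · rw [mul_one]
        have hsub : ((Finset.univ.filter fun g => g ∈ (P : Subgroup G)).erase 1) ⊆ Y P := by
          intro g hg
          simp only [Finset.mem_erase, Finset.mem_filter, Finset.mem_univ, true_and] at hg
          have ho : orderOf g = r := by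
            have h1 : orderOf g ∣ r := by
              conv_rhs => rw [← hP]
              rw [← orderOf_mk g hg.2]
              exact orderOf_dvd_natCard _
            rcases (Nat.dvd_prime (Fact.out : r.Prime)).mp h1 with h2 | h2
            · exact absurd (orderOf_eq_one_iff.mp h2) hg.1
            · exact h2
          simp only [Y, X, Finset.mem_filter, Finset.mem_univ, true_and, ho]
          refine ⟨⟨dvd_rfl, fun s hs hrs hsr => ?_⟩, le_cent hP hg.2⟩
          exact hrs.ne' ((Nat.prime_dvd_prime_iff_eq (hp s hs) Fact.out).mp hsr)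
        refine le_trans ?_ (Finset.card_le_card hsub)
        rw [Finset.card_erase_of_mem (by simp [one_mem]), ← Fintype.card_subtype,
          ← Nat.card_eq_fintype_card]
        exact (Nat.sub_le_sub_right hP.symm.le 1)
      · refine le_trans (card_singular P hP hc) ?_
        rw [Nat.card_eq_fintype_card, Fintype.card_subtype]
        refine Finset.card_le_card fun g hg => ?_
        simp only [Finset.mem_filter, Finset.mem_univ, true_and] at hg
        simp only [Y, X, Finset.mem_filter, Finset.mem_univ, true_and]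
        refine ⟨⟨hg.2, fun s hs hrs hsg => hany ?_⟩, hg.1⟩
        have hsC : s ∣ r * cOf G r := hc ▸ hsg.trans (orderOf_dvd_cent P hg.1)
        have hsc : s ∣ cOf G r := ((hp s hs).dvd_mul.mp hsC).resolve_left fun h =>
          hrs.ne' ((Nat.prime_dvd_prime_iff_eq (hp s hs) Fact.out).mp h)
        rw [List.any_eq_true]
        refine ⟨_, List.mem_map.mpr ⟨s, hs, rfl⟩, ?_⟩
        simp [hrs, Nat.mod_eq_zero_of_dvd, Nat.dvd_iff_mod_eq_zero.mp hsc]
    have := Finset.sum_le_sum (s := Finset.univ) fun P _ => hle P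
    rw [Finset.sum_const, Finset.card_univ, ← Finset.card_biUnion hdis, smul_eq_mul,
      ← Nat.card_eq_fintype_card] at this
    calc (r - 1) * Nat.card (Sylow r G) * eff ch (r, Nat.card (Sylow r G), cOf G r)
        = Nat.card (Sylow r G) * ((r - 1) * eff ch (r, Nat.card (Sylow r G), cOf G r)) := by ring
      _ ≤ _ := this.trans (Finset.card_le_card
        (Finset.biUnion_subset.mpr fun P _ => Finset.filter_subset _ _))
  have hdis : Set.PairwiseDisjoint ↑l.toFinset X := by
    intro r hr s hs hrs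
    rw [Finset.mem_coe, List.mem_toFinset] at hr hs
    rw [Function.onFun, Finset.disjoint_left]
    intro g hgr hgs
    simp only [X, Finset.mem_filter, Finset.mem_univ, true_and] at hgr hgs
    rcases lt_or_gt_of_ne hrs with h | h
    · exact hgr.2 s hs h hgs.1
    · exact hgs.2 r hr h hgr.1
  have hone : (1 : G) ∉ l.toFinset.biUnion X := by
    simp only [Finset.mem_biUnion, List.mem_toFinset, not_exists, not_and]
    intro r hr h
    simp only [X, Finset.mem_filter, orderOf_one, Nat.dvd_one] at h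
    exact (hp r hr).ne_one h.2.1
  have h1 : (l.toFinset.biUnion X).card + 1 ≤ Nat.card G := by
    rw [← Finset.card_insert_of_notMem hone, Nat.card_eq_fintype_card]
    exact Finset.card_le_univ _
  rw [Finset.card_biUnion hdis, List.sum_toFinset _ hl] at h1
  have h2 : (ch.map fun p => (p.1 - 1) * p.2.1 * eff ch p).sum ≤ (l.map fun r => (X r).card).sum := by
    rw [hch, List.map_map, ← hch]
    exact List.sum_le_sum fun r hr => hX r hr
  rw [total]
  omega

/-- In a simple group, twenty Sylow 19-subgroups of order 19 have normalisers of odd order. -/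
theorem odd_normalizer [IsSimpleGroup G] [Fact (Nat.Prime 19)] (h20 : Nat.card (Sylow 19 G) = 20)
    (P : Sylow 19 G) (hP : Nat.card (P : Subgroup G) = 19) :
    ¬ 2 ∣ Nat.card (normalizer ((P : Subgroup G) : Set G)) := by
  classical
  intro h2
  haveI := Fintype.ofFinite (Sylow 19 G)
  haveI := Fact.mk Nat.prime_two
  obtain ⟨⟨t, htN⟩, hto⟩ := exists_prime_orderOf_dvd_card'
    (G := normalizer ((P : Subgroup G) : Set G)) 2 h2
  rw [orderOf_mk] at hto
  let φ : G →* Equiv.Perm (Sylow 19 G) := MulAction.toPermHom G (Sylow 19 G)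
  have hφapp : ∀ (g : G) (Q : Sylow 19 G), φ g Q = g • Q := fun _ _ => rfl
  have hPP : ∀ Q : Sylow 19 G, ∀ x ∈ (P : Subgroup G), x ≠ 1 → x • Q = Q → Q = P := by
    intro Q x hx hx1 hxQ
    have hxN : x ∈ normalizer ((Q : Subgroup G) : Set G) := by
      exact Sylow.smul_eq_iff_mem_normalizer.mp hxQ
    have hxo : orderOf x = 19 := by
      have h1 : orderOf x ∣ 19 := by
        conv_rhs => rw [← hP]
        rw [← orderOf_mk x hx]
        exact orderOf_dvd_natCard _
      rcases (Nat.dvd_prime (Fact.out : Nat.Prime 19)).mp h1 with h2 | h2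
      · exact absurd (orderOf_eq_one_iff.mp h2) hx1
      · exact h2
    have hz : IsPGroup 19 (zpowers x) := IsPGroup.of_card (n := 1) (by rw [Nat.card_zpowers, hxo, pow_one])
    have hsup := IsPGroup.to_sup_of_normal_right' hz Q.2 (zpowers_le.mpr hxN)
    have hzQ : zpowers x ≤ Q := (le_sup_left).trans (Q.3 hsup le_sup_right).le
    have hzP : zpowers x = P :=
      eq_of_le_of_card_ge (zpowers_le.mpr hx) (by rw [Nat.card_zpowers, hxo, hP])
    exact Sylow.ext (P.3 Q.2 (hzP ▸ hzQ))
  -- kernel is trivial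
  have hker : φ.ker = ⊥ := by
    rcases (MonoidHom.normal_ker φ).eq_bot_or_eq_top with h | h
    · exact h
    · exfalso
      have hsub : ∀ Q R : Sylow 19 G, Q = R := by
        intro Q R
        obtain ⟨g, rfl⟩ := exists_smul_eq G Q R
        have hg : φ g = 1 := MonoidHom.mem_ker.mp (h ▸ mem_top g)
        rw [← hφapp g Q, hg, Equiv.Perm.one_apply]
      haveI : Subsingleton (Sylow 19 G) := ⟨hsub⟩
      have := Finite.card_le_one_iff_subsingleton.mpr this
      omega
  have hinj : Function.Injective φ := (MonoidHom.ker_eq_bot_iff φ).mp hker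
  have htt : t * t = 1 := by rw [← pow_two, ← hto]; exact pow_orderOf_eq_one t
  have ht1 : t ≠ 1 := by
    intro h; rw [h, orderOf_one] at hto; omega
  have hσ : (φ t) ^ 2 = 1 := by rw [← map_pow, pow_two, htt, map_one]
  have hσ1 : φ t ≠ 1 := fun h => ht1 (hinj (h.trans (map_one φ).symm))
  have htP : t • P = P := Sylow.smul_eq_iff_mem_normalizer.mpr htN
  -- sign is trivial
  have hsign : Equiv.Perm.sign (φ t) = 1 := by
    rcases (MonoidHom.normal_ker (Equiv.Perm.sign.comp φ)).eq_bot_or_eq_top with h | h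
    · exfalso
      have hle := Nat.card_le_card_of_injective _ ((MonoidHom.ker_eq_bot_iff _).mp h)
      have h19 := Nat.le_of_dvd Nat.card_pos ((hP ▸ card_subgroup_dvd_card (P : Subgroup G)) : 19 ∣ Nat.card G)
      have hu : Nat.card ℤˣ = 2 := by rw [Nat.card_eq_fintype_card, Fintype.card_units_int]
      omega
    · exact MonoidHom.mem_ker.mp (h ▸ mem_top t : t ∈ (Equiv.Perm.sign.comp φ).ker)
  have hct : (φ t).cycleType = Multiset.replicate (Multiset.card (φ t).cycleType) 2 := by
    refine Multiset.eq_replicate_card.mpr fun b hb => ?_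
    have h1 : b ∣ 2 := by
      refine (Equiv.Perm.dvd_of_mem_cycleType hb).trans ?_
      exact orderOf_dvd_of_pow_eq_one hσ
    have h2 := Equiv.Perm.two_le_of_mem_cycleType hb
    have := Nat.le_of_dvd two_pos h1
    omega
  set k := Multiset.card (φ t).cycleType with hk
  have hsupp : (φ t).support.card = 2 * k := by
    rw [← Equiv.Perm.sum_cycleType, hct, Multiset.sum_replicate, smul_eq_mul, mul_comm]
  have hev : Even k := by
    rw [Equiv.Perm.sign_of_cycleType, hct, Multiset.sum_replicate, Multiset.card_replicate,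
      smul_eq_mul] at hsign
    rw [← neg_one_pow_eq_one_iff_even (by decide : (-1 : ℤˣ) ≠ 1)]
    rw [pow_add, mul_comm k 2, pow_mul, neg_one_sq, one_pow, one_mul] at hsign
    exact hsign
  -- fixed points
  set Fx := (Finset.univ : Finset (Sylow 19 G)) \ (φ t).support with hFx
  have hmem : ∀ Q, Q ∈ Fx ↔ t • Q = Q := by
    intro Q
    simp [hFx, Equiv.Perm.mem_support, hφapp]
  have hFc : Fx.card + 2 * k = 20 := by
    rw [← hsupp, hFx, Finset.card_sdiff_of_subset (Finset.subset_univ _), Finset.card_univ,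
      ← Nat.card_eq_fintype_card, h20]
    have := Finset.card_le_univ (φ t).support
    rw [← Nat.card_eq_fintype_card, h20] at this
    omega
  have hPF : P ∈ Fx := (hmem P).mpr htP
  have hQex : ∃ Q ∈ Fx, Q ≠ P := by
    by_contra! h
    have : Fx = {P} := Finset.eq_singleton_iff_unique_mem.mpr ⟨hPF, h⟩
    rw [this, Finset.card_singleton] at hFc
    omega
  obtain ⟨Q, hQ, hQP⟩ := hQex
  -- P moves Q through all other points
  have horb : ∀ R : Sylow 19 G, R ≠ P → ∃ x ∈ (P : Subgroup G), R = x • Q := by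
    let g : ↥(P : Subgroup G) → {R : Sylow 19 G // R ≠ P} := fun x => ⟨(x : G) • Q, fun h => hQP (by
      have hxP : (x : G) • P = P :=
        Sylow.smul_eq_iff_mem_normalizer.mpr (le_normalizer x.2)
      exact MulAction.injective (x : G) (h.trans hxP.symm))⟩
    have ginj : Function.Injective g := by
      intro x y h
      have h' : (x : G) • Q = (y : G) • Q := congrArg Subtype.val h
      by_contra hne
      refine hQP (hPP Q ((y : G)⁻¹ * x) (mul_mem (inv_mem y.2) x.2) ?_ ?_)
      · intro h1
        exact hne (Subtype.ext (inv_mul_eq_one.mp h1).symm)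
      · rw [mul_smul, h', inv_smul_smul]
    have hbij : Function.Bijective g := by
      haveI := Fintype.ofFinite (P : Subgroup G)
      rw [Fintype.bijective_iff_injective_and_card]
      refine ⟨ginj, ?_⟩
      rw [← Nat.card_eq_fintype_card, hP, Fintype.card_subtype_compl, Fintype.card_subtype_eq,
        ← Nat.card_eq_fintype_card, h20]
    intro R hR
    obtain ⟨x, hx⟩ := hbij.2 ⟨R, hR⟩
    exact ⟨x, x.2, (congrArg Subtype.val hx).symm⟩
  by_cases hcen : ∀ x ∈ (P : Subgroup G), t * x = x * t
  · apply hσ1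
    refine Equiv.ext fun R => ?_
    rw [hφapp, Equiv.Perm.one_apply]
    rcases eq_or_ne R P with rfl | hR
    · exact htP
    · obtain ⟨x, hx, rfl⟩ := horb R hR
      rw [← mul_smul, hcen x hx, mul_smul, (hmem Q).mp hQ]
  · have huniq : Fx ⊆ {P, Q} := by
      intro R hR
      rcases eq_or_ne R P with rfl | hRP
      · simp
      obtain ⟨x, hx, rfl⟩ := horb R hRP
      rcases eq_or_ne x 1 with rfl | hx1
      · simp
      exfalso
      have hty : t * x * t⁻¹ ∈ (P : Subgroup G) := (mem_normalizer_iff.mp htN x).mp hx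
      have hfix : (x⁻¹ * (t * x * t⁻¹)) • Q = Q := by
        have h1 : (t * x) • Q = x • Q := by rw [mul_smul]; exact (hmem _).mp hR
        have h2 : t⁻¹ • Q = Q := inv_smul_eq_iff.mpr ((hmem Q).mp hQ).symm
        rw [mul_smul, mul_smul (t * x), h2, h1, inv_smul_smul]
      have hcomm : x⁻¹ * (t * x * t⁻¹) = 1 := by
        by_contra h
        exact hQP (hPP Q _ (mul_mem (inv_mem hx) hty) h hfix)
      have htx : Commute t x := by
        have := inv_mul_eq_one.mp hcomm
        exact (mul_inv_eq_iff_eq_mul.mp this.symm)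
      apply hcen
      have hzx : zpowers x = (P : Subgroup G) := by
        refine eq_of_le_of_card_ge (zpowers_le.mpr hx) ?_
        rw [hP, Nat.card_zpowers]
        have h1 : orderOf x ∣ 19 := by
          conv_rhs => rw [← hP]
          rw [← orderOf_mk x hx]
          exact orderOf_dvd_natCard _
        rcases (Nat.dvd_prime (Fact.out : Nat.Prime 19)).mp h1 with h2 | h2
        · exact absurd (orderOf_eq_one_iff.mp h2) hx1
        · rw [h2]
      intro y hy
      rw [← hzx] at hy
      obtain ⟨i, rfl⟩ := mem_zpowers_iff.mp hy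
      exact htx.zpow_right i
    have h2' : Fx.card = 2 := by
      have hle := (Finset.card_le_card huniq).trans Finset.card_le_two
      have hpq : ({P, Q} : Finset (Sylow 19 G)) ⊆ Fx := by
        intro R hR
        simp only [Finset.mem_insert, Finset.mem_singleton] at hR
        rcases hR with rfl | rfl <;> assumption
      have := Finset.card_le_card hpq
      rw [Finset.card_pair hQP.symm] at this
      omega
    obtain ⟨j, hj⟩ := hev
    omega

theorem fibre_mem {r s : ℕ} [hr : Fact r.Prime] [hs : Fact s.Prime] (hN : Nat.card G ∣ 175560)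
    (hrs : r ≠ s) (hd : r ∣ Nat.card G) (hsq : ¬ r ^ 2 ∣ Nat.card G) (hssq : ¬ s ^ 2 ∣ Nat.card G)
    (P : Sylow r G) (hsC : s ∣ Nat.card (cent P)) :
    Nat.card {S : Sylow s G // (S : Subgroup G) ≤ cent P} ∈ subsL (cOf G r) s r := by
  obtain ⟨T⟩ := (inferInstance : Nonempty (Sylow s (cent P)))
  rw [fibre P hssq hsC]
  have hTc := card_sylow_eq hsC (fun h => hssq (h.trans (card_subgroup_dvd_card _))) T
  have hd1 : Nat.card (Sylow s (cent P)) ∣ T.index := T.card_dvd_index
  have hi : s * T.index = r * cOf G r := by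
    have h := (T : Subgroup (cent P)).card_mul_index
    rw [hTc, card_cent_eq_mul hd hsq P] at h
    exact h
  have hsc : s ∣ cOf G r := by
    have h : s ∣ r * cOf G r := ⟨T.index, hi.symm⟩
    exact (hs.out.dvd_mul.mp h).resolve_left fun h =>
      hrs ((Nat.prime_dvd_prime_iff_eq hs.out hr.out).mp h).symm
  obtain ⟨c', hc'⟩ := hsc
  have hidx : T.index = r * (cOf G r / s) := by
    rw [hc', Nat.mul_div_cancel_left _ hs.out.pos]
    rw [hc'] at hi
    refine Nat.eq_of_mul_eq_mul_left hs.out.pos ?_
    rw [hi]; ring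
  simp only [subsL, List.mem_filter, Bool.and_eq_true, decide_eq_true_eq]
  refine ⟨mem_divs ?_, Nat.mod_eq_zero_of_dvd (hidx ▸ hd1), ?_⟩
  · refine (hd1.trans ?_).trans hN
    exact ((T : Subgroup (cent P)).index_dvd_card).trans (card_subgroup_dvd_card _)
  · have h := card_sylow_modEq_one s (cent P)
    unfold Nat.ModEq at h
    rwa [Nat.one_mod_eq_one.mpr hs.out.ne_one] at h

theorem compat_true (hN : Nat.card G ∣ 175560) {r s : ℕ} (hr : r.Prime) (hs : s.Prime) (hrs : r ≠ s)
    (hdr : r ∣ Nat.card G) (hds : s ∣ Nat.card G)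
    (hqr : ¬ r ^ 2 ∣ Nat.card G) (hqs : ¬ s ^ 2 ∣ Nat.card G) :
    compat (r, Nat.card (Sylow r G), cOf G r) (s, Nat.card (Sylow s G), cOf G s) = true := by
  haveI := Fact.mk hr
  haveI := Fact.mk hs
  obtain ⟨P⟩ := (inferInstance : Nonempty (Sylow r G))
  obtain ⟨S⟩ := (inferInstance : Nonempty (Sylow s G))
  have key : ∀ (a b : ℕ) [Fact a.Prime] [Fact b.Prime], a ≠ b → a ∣ Nat.card G → b ∣ Nat.card G →
      ¬ a ^ 2 ∣ Nat.card G → ¬ b ^ 2 ∣ Nat.card G → b ∣ cOf G a → a ∣ cOf G b := by
    intro a b _ _ hab hda hdb hqa hqb h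
    obtain ⟨A⟩ := (inferInstance : Nonempty (Sylow a G))
    obtain ⟨B, hB⟩ := exists_sylow_le_cent A hqb
      (by rw [card_cent_eq_mul hda hqa A]; exact h.mul_left a)
    have hA : (A : Subgroup G) ≤ cent B := le_centralizer_iff.mp hB
    have h1 : a ∣ b * cOf G b := by
      rw [← card_cent_eq_mul hdb hqb B, ← card_sylow_eq hda hqa A]
      exact card_dvd_of_le hA
    exact ((Fact.out : a.Prime).dvd_mul.mp h1).resolve_left fun h =>
      hab ((Nat.prime_dvd_prime_iff_eq Fact.out Fact.out).mp h)
  simp only [compat, ← Nat.dvd_iff_mod_eq_zero, Bool.and_eq_true, beq_iff_eq, Bool.or_eq_true,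
    decide_eq_decide, Bool.not_eq_true', decide_eq_false_iff_not, List.any_eq_true,
    decide_eq_true_eq]
  refine ⟨⟨key r s hrs hdr hds hqr hqs, key s r hrs.symm hds hdr hqs hqr⟩, ?_⟩
  by_cases h : s ∣ cOf G r
  · refine Or.inr ⟨_, fibre_mem (s := s) hN hrs hdr hqr hqs P
      (by rw [card_cent_eq_mul hdr hqr P]; exact h.mul_left r), _,
      fibre_mem (s := r) hN hrs.symm hds hqs hqr S ?_, double_count P S⟩
    rw [card_cent_eq_mul hds hqs S]
    exact (key r s hrs hdr hds hqr hqs h).mul_left s
  · exact Or.inl h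

theorem options_mem [IsSimpleGroup G] (hN : Nat.card G ∣ 175560) {r : ℕ} (hr : r.Prime)
    (hd : r ∣ Nat.card G) (hsq : ¬ r ^ 2 ∣ Nat.card G) (hne : Nat.card G ≠ r) :
    (Nat.card (Sylow r G), cOf G r) ∈ options (Nat.card G) r := by
  haveI := Fact.mk hr
  obtain ⟨P⟩ := (inferInstance : Nonempty (Sylow r G))
  have hP := card_sylow_eq hd hsq P
  obtain ⟨e, he2, hed, hm⟩ := exists_index hne P hP
  rw [card_cent_eq_mul hd hsq P] at hm
  set n := Nat.card (Sylow r G) with hn
  set c := cOf G r with hc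
  have hmr : Nat.card G / r = n * (c * e) := by
    rw [hm, show n * (r * c * e) = r * (n * (c * e)) by ring, Nat.mul_div_cancel_left _ hr.pos]
  have hk : Nat.card G / r / n = c * e := by
    rw [hmr, Nat.mul_div_cancel_left _ Nat.card_pos]
  have hn1 : 1 < n := by
    by_contra h
    haveI : Subsingleton (Sylow r G) := Finite.card_le_one_iff_subsingleton.mp (by omega)
    rcases P.normal_of_subsingleton.eq_bot_or_eq_top with h1 | h1
    · rw [h1, card_bot] at hP; exact hr.ne_one hP.symm
    · rw [h1, card_top] at hP; exact hne hP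
  have her : e < r := by
    have := Nat.le_of_dvd (by have := hr.two_le; omega) hed
    have := hr.two_le
    omega
  have hex : ¬ (r = 19 ∧ n = 20 ∧ (c * e) % 2 = 0) := by
    rintro ⟨rfl, h20, hev⟩
    refine odd_normalizer h20 P hP (Nat.dvd_trans (Nat.dvd_of_mod_eq_zero hev) ?_)
    have h1 := (normalizer ((P : Subgroup G) : Set G)).card_mul_index
    simp only [Sylow.coe_coe] at h1 ⊢
    rw [← P.card_eq_index_normalizer, ← hn] at h1
    have h2 : Nat.card (normalizer ((P : Set G))) = 19 * c * e := by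
      rw [hm] at h1
      exact Nat.eq_of_mul_eq_mul_right Nat.card_pos (h1.trans (by ring))
    rw [h2]
    exact ⟨19, by ring⟩
  simp only [options, List.mem_flatMap, List.mem_filter, Bool.and_eq_true, decide_eq_true_eq]
  refine ⟨n, ⟨mem_divs ((P.card_dvd_index.trans (P : Subgroup G).index_dvd_card).trans hN),
    ⟨hn1, ?_⟩, Nat.mod_eq_zero_of_dvd ⟨c * e, hmr⟩⟩, ?_⟩
  · have h := card_sylow_modEq_one r G
    unfold Nat.ModEq at h
    rwa [Nat.one_mod_eq_one.mpr hr.ne_one] at h
  · rw [if_neg]
    · simp only [List.mem_map, List.mem_filter, List.mem_range, Bool.and_eq_true, decide_eq_true_eq]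
      refine ⟨e, ⟨her, ⟨he2, Nat.mod_eq_zero_of_dvd hed⟩, ?_⟩, ?_⟩
      · rw [hk]; exact Nat.mul_mod_left _ _
      · rw [hk, Nat.mul_div_cancel _ (by omega)]
    · simp only [Bool.and_eq_true, beq_iff_eq, hk, and_assoc]
      exact hex

theorem no_simple [IsSimpleGroup G] (hN : Nat.card G ∣ 175560) (h19 : 19 ∣ Nat.card G)
    (hne : Nat.card G ≠ 19) : Nat.card G = 175560 := by
  by_contra hne'
  have hsq : ∀ r : ℕ, ¬ r ^ 2 ∣ 175560 → ¬ r ^ 2 ∣ Nat.card G := fun r h h' => h (h'.trans hN)
  by_cases h4 : Nat.card G % 4 = 2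
  · haveI := Fact.mk Nat.prime_two
    have hd : 2 ∣ Nat.card G := by omega
    have hq : ¬ 2 ^ 2 ∣ Nat.card G := by
      intro h; rw [Nat.dvd_iff_mod_eq_zero] at h; omega
    obtain ⟨P⟩ := (inferInstance : Nonempty (Sylow 2 G))
    obtain ⟨e, he, hed, -⟩ := exists_index (by omega) P (card_sylow_eq hd hq P)
    rw [Nat.dvd_one] at hed
    omega
  have hU : ∀ r ∈ use (Nat.card G), r.Prime ∧ r ∣ Nat.card G ∧ ¬ r ^ 2 ∣ Nat.card G ∧ Nat.card G ≠ r := by
    intro r hr
    simp only [use, List.mem_filter, decide_eq_true_eq] at hr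
    obtain ⟨hr1, hr2⟩ := hr
    refine ⟨?_, Nat.dvd_of_mod_eq_zero hr2, hsq r ?_, fun h => ?_⟩
    · fin_cases hr1 <;> norm_num
    · fin_cases hr1 <;> norm_num
    · rw [h] at h19 hne
      fin_cases hr1 <;> simp_all
  have hsearch := search_true (Nat.card G) (mem_divs hN) (Nat.mod_eq_zero_of_dvd h19) h4 hne' hne
  have hfalse := search_false (m := Nat.card G) (fun r => (Nat.card (Sylow r G), cOf G r))
    (use (Nat.card G))
    (fun r hr => options_mem hN (hU r hr).1 (hU r hr).2.1 (hU r hr).2.2.1 (hU r hr).2.2.2)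
    (fun r hr s hs hrs => compat_true hN (hU r hr).1 (hU s hs).1 hrs (hU r hr).2.1 (hU s hs).2.1
      (hU r hr).2.2.1 (hU s hs).2.2.1)
    (fun l hl hs => le_total l hl (fun r hr => (hU r (hs r hr)).1) (fun r hr => (hU r (hs r hr)).2.1)
      (fun r hr => (hU r (hs r hr)).2.2.1))
    (use (Nat.card G)) [] (by simp only [List.append_nil]; exact List.Nodup.filter _ (by decide))
    (by simp)
  simp [hsearch] at hfalse

end Cfsg.Agent.FG78.A175560
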