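import Mathlib
import Cfsg.Agent.FG78.TwoSizes
import Cfsg.Agent.Lib.PGroup.Basic

set_option autoImplicit false

/-!
Normal subgroups in which all noncentral elements have the same class size in the whole group.
-/

namespace Cfsg.Agent.FG78.NormalTwoSizes

open Cfsg.Agent.FG78.TwoSizes (cent_mul_central piPart_not_central exists_part card_map_cent)

variable {G : Type*} [Group G] [Finite G]

local notation "Z" => Subgroup.center G

/-- All noncentral elements of `N` have class size `m`. -/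
def TwoOn {G : Type*} [Group G] (N : Subgroup G) (m : ℕ) : Prop :=
  ∀ x ∈ N, x ∉ Subgroup.center G → (Subgroup.centralizer ({x} : Set G)).index = m

variable {N : Subgroup G} {m : ℕ}

theorem m_pos {x : G} (hT : TwoOn N m) (hx : x ∈ N) (hxZ : x ∉ Z) : 0 < m :=
  hT x hx hxZ ▸ Nat.pos_of_ne_zero Subgroup.index_ne_zero_of_finite

theorem cent_eq (hT : TwoOn N m) {x y : G} (hxN : x ∈ N) (hx : x ∉ Z) (hyN : y ∈ N) (hy : y ∉ Z)
    (h : Subgroup.centralizer ({x} : Set G) ≤ Subgroup.centralizer ({y} : Set G)) :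
    Subgroup.centralizer ({x} : Set G) = Subgroup.centralizer ({y} : Set G) := by
  refine Subgroup.eq_of_le_of_card_ge h (le_of_eq ?_)
  have h1 := Subgroup.card_mul_index (Subgroup.centralizer ({x} : Set G))
  have h2 := Subgroup.card_mul_index (Subgroup.centralizer ({y} : Set G))
  rw [hT x hxN hx] at h1
  rw [hT y hyN hy, ← h1] at h2
  exact Nat.eq_of_mul_eq_mul_right (m_pos hT hxN hx) h2

theorem coprime_step (hT : TwoOn N m) (π : Set ℕ) {a b : G} (haN : a ∈ N) (ha : a ∉ Z)
    (hbN : b ∈ N) (hab : Commute a b) (hpa : IsPiElem π a) (hpb : IsPiElem πᶜ b) :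
    Subgroup.centralizer ({a} : Set G) ≤ Subgroup.centralizer ({b} : Set G) := by
  have hC := centralizer_mul_eq π hab hpa hpb
  have hne : a * b ∉ Z := by
    intro h
    have h' : Subgroup.centralizer ({a * b} : Set G) = ⊤ :=
      eq_top_iff.mpr fun g _ => mem_cent_iff.mpr (Subgroup.mem_center_iff.mp h g)
    rw [hC, inf_eq_top_iff] at h'
    exact ha (Subgroup.mem_center_iff.mpr fun g =>
      (mem_cent_iff.mp (h'.1.symm ▸ Subgroup.mem_top g)).eq)
  have h2 := cent_eq hT (mul_mem haN hbN) hne haN ha (hC.le.trans inf_le_left)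
  rw [hC, inf_eq_left] at h2
  exact h2

omit [Finite G] in
theorem isPiElem_of_ne {p q : ℕ} (hpq : p ≠ q) {x : G} (hx : IsPiElem {p} x) :
    IsPiElem ({q}ᶜ : Set ℕ) x :=
  hx.mono (Set.singleton_subset_iff.mpr fun e => hpq (Set.mem_singleton_iff.mp e))

/-- Two commuting noncentral elements of coprime orders in `N` force `C(b) ⊓ N` to be central in
`C(b)`. -/
theorem inf_central (hT : TwoOn N m) {p q : ℕ} (hpq : p ≠ q) {b u : G}
    (hbN : b ∈ N) (hb : b ∉ Z) (hbp : IsPiElem {p} b)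
    (huN : u ∈ N) (hu : u ∉ Z) (huq : IsPiElem {q} u) (hub : Commute u b) :
    Subgroup.centralizer ({u} : Set G) = Subgroup.centralizer ({b} : Set G) ∧
    ∀ w ∈ Subgroup.centralizer ({b} : Set G) ⊓ N,
      Subgroup.centralizer ({b} : Set G) ≤ Subgroup.centralizer ({w} : Set G) := by
  have he : Subgroup.centralizer ({u} : Set G) = Subgroup.centralizer ({b} : Set G) :=
    le_antisymm (coprime_step hT {q} huN hu hbN hub huq (isPiElem_of_ne hpq hbp))
      (coprime_step hT {p} hbN hb huN hub.symm hbp (isPiElem_of_ne hpq.symm huq))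
  refine ⟨he, fun w hw g hg => ?_⟩
  rw [mem_cent_iff, ← piPart_mul_piPart' {p} w]
  refine Commute.mul_right ?_ ?_
  · refine mem_cent_iff.mp (coprime_step hT {q} huN hu (piPart_mem {p} w hw.2) ?_ huq
      (isPiElem_of_ne hpq (isPiElem_piPart {p} w)) (he.symm ▸ hg))
    exact (mem_cent_iff.mp (he.symm ▸ piPart_mem {p} w hw.1)).symm
  · exact mem_cent_iff.mp (coprime_step hT {p} hbN hb (piPart'_mem {p} w hw.2)
      (mem_cent_iff.mp (piPart'_mem {p} w hw.1)).symm hbp (isPiElem_piPart' {p} w) hg)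

theorem isPiElem_of_mem {p : ℕ} [Fact p.Prime] {D : Subgroup G} (hD : IsPGroup p D) {w : G}
    (hw : w ∈ D) : IsPiElem {p} w := by
  obtain ⟨k, hk⟩ := IsPGroup.iff_orderOf.mp hD ⟨w, hw⟩
  rw [Subgroup.orderOf_mk] at hk
  exact isPiElem_singleton_of_pow Fact.out hk

theorem isPGroup_zpowers {p : ℕ} {w : G} (hw : IsPiElem {p} w) :
    IsPGroup p (Subgroup.zpowers w) := by
  obtain ⟨k, hk⟩ := exists_pow_of_isPiElem_singleton hw
  exact IsPGroup.of_card (n := k) (by rw [Nat.card_zpowers, hk])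

section

variable [N.Normal] (hT : TwoOn N m)

include hT

/-- A special element of a Sylow subgroup. -/
theorem exists_special {p : ℕ} [hp : Fact p.Prime] (P : Sylow p G)
    (hex : ∃ w ∈ N, IsPiElem {p} w ∧ w ∉ Z) :
    ∃ z : G, z ∈ (P : Subgroup G) ∧ z ∈ N ∧ z ∉ Z ∧ z ^ p ∈ Z ∧
      (∀ g ∈ (P : Subgroup G), ∀ w ∈ Subgroup.centralizer ({z} : Set G),
        g * w * g⁻¹ ∈ Subgroup.centralizer ({z} : Set G)) ∧
      (∀ g ∈ (P : Subgroup G), g ^ p ∈ Subgroup.centralizer ({z} : Set G)) ∧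
      (∀ g ∈ (P : Subgroup G), ∀ h ∈ (P : Subgroup G),
        g * h * g⁻¹ * h⁻¹ ∈ Subgroup.centralizer ({z} : Set G)) ∧
      ∀ g ∈ (P : Subgroup G), ∃ c ∈ Z, g * z * g⁻¹ = z * c := by
  classical
  set f := (QuotientGroup.mk' Z).comp (P : Subgroup G).subtype
  set M := (N.subgroupOf (P : Subgroup G)).map f.rangeRestrict
  haveI : M.Normal := Subgroup.Normal.map inferInstance _ f.rangeRestrict_surjective
  have hPg : IsPGroup p f.range := P.2.of_surjective _ f.rangeRestrict_surjective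
  have hM : M ≠ ⊥ := by
    intro h
    obtain ⟨w, hwN, hwp, hwZ⟩ := hex
    obtain ⟨P', hP'⟩ := (isPGroup_zpowers hwp).exists_le_sylow
    obtain ⟨c, hc⟩ := MulAction.exists_smul_eq G P' P
    have h1 : c * w * c⁻¹ ∈ (P : Subgroup G) := by
      rw [← hc, Sylow.coe_subgroup_smul]
      exact Subgroup.smul_mem_pointwise_smul _ (MulAut.conj c) _ (hP' (Subgroup.mem_zpowers w))
    have h2 : f.rangeRestrict ⟨_, h1⟩ ∈ M :=
      ⟨⟨_, h1⟩, (inferInstance : N.Normal).conj_mem _ hwN c, rfl⟩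
    rw [h, Subgroup.mem_bot] at h2
    have h3 : c * w * c⁻¹ ∈ Z := (QuotientGroup.eq_one_iff _).mp (congrArg Subtype.val h2)
    exact hwZ (by simpa [mul_assoc] using (inferInstance : (Z).Normal).conj_mem' _ h3 c)
  obtain ⟨zq, hzq, hzq1, hzqp⟩ :=
    Cfsg.Agent.PGroup.exists_mem_pow_eq_one hPg (Cfsg.Agent.PGroup.inf_center_ne_bot hPg hM)
  obtain ⟨⟨⟨z, hz⟩, hzN, rfl⟩, hzc⟩ := Subgroup.mem_inf.mp hzq
  have hzZ : z ∉ Z := fun h => hzq1 (Subtype.ext ((QuotientGroup.eq_one_iff _).mpr h))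
  have hzp : z ^ p ∈ Z := by
    rw [← QuotientGroup.eq_one_iff, QuotientGroup.mk_pow]
    exact congrArg Subtype.val hzqp
  have hcomm : ∀ g ∈ (P : Subgroup G), ∃ c ∈ Z, g * z * g⁻¹ = z * c := by
    intro g hg
    refine ⟨z⁻¹ * (g * z * g⁻¹), ?_, by group⟩
    have h1 : (QuotientGroup.mk g : G ⧸ Z) * QuotientGroup.mk z =
        QuotientGroup.mk z * QuotientGroup.mk g :=
      congrArg Subtype.val (Subgroup.mem_center_iff.mp hzc (f.rangeRestrict ⟨g, hg⟩))
    rw [← QuotientGroup.eq_one_iff, QuotientGroup.mk_mul, QuotientGroup.mk_mul,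
      QuotientGroup.mk_mul, QuotientGroup.mk_inv, QuotientGroup.mk_inv, h1]
    group
  refine ⟨z, hz, hzN, hzZ, hzp, fun g hg w hw => ?_, fun g hg => ?_, fun g hg h hh => ?_, hcomm⟩
  · obtain ⟨c, hc, he⟩ := hcomm g hg
    rw [← cent_mul_central hc, ← he, mem_cent_iff]
    exact (mem_cent_iff.mp hw).map (MulAut.conj g).toMonoidHom
  · obtain ⟨c, hc, he⟩ := hcomm g hg
    have hgc : Commute g c := Subgroup.mem_center_iff.mp hc g
    have hzc' : Commute z c := Subgroup.mem_center_iff.mp hc z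
    have hk : ∀ k : ℕ, g ^ k * z * (g ^ k)⁻¹ = z * c ^ k := by
      intro k
      induction k with
      | zero => simp
      | succ k ih =>
        calc g ^ (k + 1) * z * (g ^ (k + 1))⁻¹ = g * (g ^ k * z * (g ^ k)⁻¹) * g⁻¹ := by
              rw [pow_succ']; group
          _ = (g * z * g⁻¹) * (g * c ^ k * g⁻¹) := by rw [ih]; group
          _ = z * c * c ^ k := by rw [he, (hgc.pow_right k).eq, mul_inv_cancel_right]
          _ = z * c ^ (k + 1) := by rw [pow_succ', mul_assoc]
    have hcp : c ^ p = 1 := by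
      have h1 : (g * z * g⁻¹) ^ p = z ^ p := by
        rw [conj_pow, (Subgroup.mem_center_iff.mp hzp g), mul_inv_cancel_right]
      rw [he, hzc'.mul_pow, mul_eq_left] at h1
      exact h1
    rw [mem_cent_iff]
    have h2 := hk p
    rw [hcp, mul_one, mul_inv_eq_iff_eq_mul] at h2
    exact h2
  · obtain ⟨c, hc, he⟩ := hcomm g hg
    obtain ⟨d, hd, he'⟩ := hcomm h hh
    have push : ∀ (x y a : G), a ∈ Z → x * (y * a) * x⁻¹ = x * y * x⁻¹ * a := fun x y a ha => by
      calc x * (y * a) * x⁻¹ = x * y * (a * x⁻¹) := by group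
        _ = x * y * (x⁻¹ * a) := by rw [(Subgroup.mem_center_iff.mp ha x⁻¹).symm]
        _ = x * y * x⁻¹ * a := by group
    have back : ∀ (x a : G), a ∈ Z → x * z * x⁻¹ = z * a → x⁻¹ * z * x = z * a⁻¹ := by
      intro x a ha e
      have h2 := push x⁻¹ (z * a) a⁻¹ (inv_mem ha)
      rw [mul_inv_cancel_right, inv_inv] at h2
      rw [h2, ← e]
      group
    rw [mem_cent_iff, Commute, SemiconjBy, ← mul_inv_eq_iff_eq_mul]
    calc g * h * g⁻¹ * h⁻¹ * z * (g * h * g⁻¹ * h⁻¹)⁻¹
        = g * (h * (g⁻¹ * (h⁻¹ * z * h) * g⁻¹⁻¹) * h⁻¹) * g⁻¹ := by group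
      _ = g * (h * (z * (c⁻¹ * d⁻¹)) * h⁻¹) * g⁻¹ := by
        rw [back h d hd he', push g⁻¹ z _ (inv_mem hd), inv_inv, back g c hc he, mul_assoc z]
      _ = g * (z * (d * (c⁻¹ * d⁻¹))) * g⁻¹ := by
        rw [push h z _ (mul_mem (inv_mem hc) (inv_mem hd)), he', mul_assoc z]
      _ = z * (c * (d * (c⁻¹ * d⁻¹))) := by
        rw [push g z _ (mul_mem hd (mul_mem (inv_mem hc) (inv_mem hd))), he, mul_assoc z]
      _ = z := by
        rw [mul_eq_left, ← mul_assoc, Subgroup.mem_center_iff.mp hd c]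
        group

/-- Action of a Sylow subgroup on the torsion of a centralizer in `N` modulo the centre. -/
theorem fpf_index {p q : ℕ} [hp : Fact p.Prime] [hq : Fact q.Prime] (hpq : p ≠ q)
    (hpn : p ∣ m) (P : Sylow p G) {z : G} (hzN : z ∈ N) (hz : z ∉ Z)
    (h1 : ∀ g ∈ (P : Subgroup G), ∀ w ∈ Subgroup.centralizer ({z} : Set G),
      g * w * g⁻¹ ∈ Subgroup.centralizer ({z} : Set G))
    (h2 : ∀ g ∈ (P : Subgroup G), g ^ p ∈ Subgroup.centralizer ({z} : Set G))
    (h3 : ∀ g ∈ (P : Subgroup G), ∀ h ∈ (P : Subgroup G),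
      g * h * g⁻¹ * h⁻¹ ∈ Subgroup.centralizer ({z} : Set G))
    (hY : ∀ w ∈ Subgroup.centralizer ({z} : Set G) ⊓ N,
      Subgroup.centralizer ({z} : Set G) ≤ Subgroup.centralizer ({w} : Set G))
    (hqG : q ∣ Nat.card ((Subgroup.centralizer ({z} : Set G) ⊓ N).map (QuotientGroup.mk' Z))) :
    ((Subgroup.centralizer ({z} : Set G)).subgroupOf (P : Subgroup G)).index = p ∧
      ∃ j : ℕ, 0 < j ∧
        q ^ j ∣ Nat.card ((Subgroup.centralizer ({z} : Set G) ⊓ N).map (QuotientGroup.mk' Z)) ∧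
        p ∣ q ^ j - 1 := by
  classical
  set C := Subgroup.centralizer ({z} : Set G) with hCdef
  set Cb := (C ⊓ N).map (QuotientGroup.mk' Z) with hCb
  have hab : ∀ a ∈ Cb, ∀ b ∈ Cb, Commute a b := by
    rintro _ ⟨a, ha, rfl⟩ _ ⟨b, hb, rfl⟩
    exact (mem_cent_iff.mp (hY b hb ha.1)).map _
  let V : Subgroup (G ⧸ Z) :=
    { carrier := {v | v ∈ Cb ∧ v ^ q = 1}
      one_mem' := ⟨one_mem _, one_pow _⟩
      mul_mem' := fun {a b} ha hb => ⟨mul_mem ha.1 hb.1, by
        rw [(hab a ha.1 b hb.1).mul_pow, ha.2, hb.2, one_mul]⟩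
      inv_mem' := fun {a} ha => ⟨inv_mem ha.1, by rw [inv_pow, ha.2, inv_one]⟩ }
  have hnorm : (P : Subgroup G).map (QuotientGroup.mk' Z) ≤
      Subgroup.normalizer (V : Set (G ⧸ Z)) := by
    have aux : ∀ g ∈ (P : Subgroup G), ∀ v ∈ V,
        QuotientGroup.mk' Z g * v * (QuotientGroup.mk' Z g)⁻¹ ∈ V := by
      rintro g hg v ⟨⟨w, hw, rfl⟩, hv⟩
      refine ⟨⟨g * w * g⁻¹, ⟨h1 g hg w hw.1, (inferInstance : N.Normal).conj_mem _ hw.2 g⟩,
        by rw [map_mul, map_mul, map_inv]⟩, ?_⟩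
      rw [conj_pow, hv, mul_one, mul_inv_cancel]
    rintro _ ⟨g, hg, rfl⟩
    rw [Subgroup.mem_normalizer_iff]
    refine fun v => ⟨aux g hg v, fun hv => ?_⟩
    have := aux g⁻¹ ((P : Subgroup G).inv_mem hg) _ hv
    simpa [mul_assoc] using this
  let φ : (P : Subgroup G) →* MulAut V := (V.normalizerMonoidHom.comp
    (Subgroup.inclusion hnorm)).comp ((QuotientGroup.mk' Z).subgroupMap (P : Subgroup G))
  have happ : ∀ (g : (P : Subgroup G)) (v : V), ((φ g v : V) : G ⧸ Z) =
      QuotientGroup.mk' Z g * v * (QuotientGroup.mk' Z g)⁻¹ := fun _ _ => rfl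
  have hin : ∀ g : (P : Subgroup G), (g : G) ∈ C → φ g = 1 := by
    intro g hg
    refine MulEquiv.ext fun v => Subtype.ext ?_
    rw [happ, MulAut.one_apply]
    obtain ⟨w, hw, hwv⟩ := v.2.1
    rw [← hwv, ← map_mul, ← map_inv, ← map_mul, (mem_cent_iff.mp (hY w hw hg)).eq,
      mul_inv_cancel_right]
  have hfix : ∀ g : (P : Subgroup G), (g : G) ∉ C → ∀ v : V, φ g v = v → v = 1 := by
    intro g hg v hv
    obtain ⟨w0, hw0, hwv⟩ := v.2.1
    by_contra hv1
    set w := piPart {q} w0 with hw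
    have hwv' : QuotientGroup.mk' Z w = (v : G ⧸ Z) := by
      rw [← hwv]
      conv_rhs => rw [← piPart_mul_piPart' {q} w0, map_mul]
      rw [map_piPart'_eq_one (π := {q}) (g := w0) (QuotientGroup.mk' Z) ?_, mul_one]
      rw [hwv]
      exact isPiElem_singleton_of_pow (k := 1) hq.out
        (by rw [pow_one]; exact orderOf_eq_prime v.2.2 fun e => hv1 (Subtype.ext e))
    have hwC : w ∈ C ⊓ N := piPart_mem {q} w0 hw0
    have hwZ : w ∉ Z := fun h => hv1 (Subtype.ext (by
      rw [← hwv']; exact (QuotientGroup.eq_one_iff _).mpr h))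
    set c := w⁻¹ * ((g : G) * w * (g : G)⁻¹) with hc
    have hcZ : c ∈ Z := by
      have := congrArg Subtype.val hv
      rw [happ, ← hwv', ← map_mul, ← map_inv, ← map_mul] at this
      exact (QuotientGroup.eq (s := Z)).mp this.symm
    have hk : ∀ k : ℕ, (g : G) ^ k * w * ((g : G) ^ k)⁻¹ = w * c ^ k := by
      intro k
      induction k with
      | zero => simp
      | succ k ih =>
        have hgc : Commute (g : G) (c ^ k) := Subgroup.mem_center_iff.mp (pow_mem hcZ k) _
        calc (g : G) ^ (k + 1) * w * ((g : G) ^ (k + 1))⁻¹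
            = (g : G) * ((g : G) ^ k * w * ((g : G) ^ k)⁻¹) * (g : G)⁻¹ := by rw [pow_succ']; group
          _ = ((g : G) * w * (g : G)⁻¹) * ((g : G) * c ^ k * (g : G)⁻¹) := by rw [ih]; group
          _ = w * c * c ^ k := by rw [hgc.eq, mul_inv_cancel_right, hc]; group
          _ = w * c ^ (k + 1) := by rw [pow_succ', mul_assoc]
    have hcp : c ^ orderOf (g : G) = 1 := by
      have := hk (orderOf (g : G))
      rw [pow_orderOf_eq_one, one_mul, inv_one, mul_one, eq_comm, mul_eq_left] at this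
      exact this
    obtain ⟨a, ha⟩ := IsPGroup.iff_orderOf.mp P.2 g
    rw [← Subgroup.orderOf_coe g] at ha
    have hcp' : IsPiElem {p} c := (isPiElem_singleton_of_pow hp.out ha).of_dvd
      (orderOf_dvd_of_pow_eq_one hcp)
    have hwq : IsPiElem {q} w := isPiElem_piPart {q} w0
    have hcq : IsPiElem {q} c := hwq.inv.mul ((isPiElem_conj_iff _ _).mpr hwq)
      ((mem_cent_iff.mp (hY w hwC (h1 _ g.2 _ hwC.1))).symm.inv_left)
    have hc1 : c = 1 := hcp'.eq_one
      (hcq.mono (Set.singleton_subset_iff.mpr (fun e => hpq (Set.mem_singleton_iff.mp e).symm)))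
    refine hg ?_
    rw [hCdef, cent_eq hT hzN hz hwC.2 hwZ (hY w hwC), mem_cent_iff]
    rw [hc, inv_mul_eq_one, eq_mul_inv_iff_mul_eq] at hc1
    exact hc1.symm
  have hVne : Nontrivial V := by
    rw [Subgroup.nontrivial_iff_ne_bot]
    obtain ⟨v, hv⟩ := exists_prime_orderOf_dvd_card' (G := Cb) q hqG
    intro h
    have hmem : (v : G ⧸ Z) ∈ V :=
      ⟨v.2, by rw [← SubgroupClass.coe_pow, ← hv, pow_orderOf_eq_one]; rfl⟩
    rw [h, Subgroup.mem_bot, OneMemClass.coe_eq_one] at hmem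
    rw [hmem, orderOf_one] at hv
    exact hq.out.ne_one hv.symm
  have hker : φ.ker = C.subgroupOf (P : Subgroup G) := by
    ext g
    rw [MonoidHom.mem_ker, Subgroup.mem_subgroupOf]
    refine ⟨fun h => by_contra fun hg => ?_, hin g⟩
    obtain ⟨v, hv⟩ := exists_ne (1 : V)
    exact hv (hfix g hg v (by rw [h]; rfl))
  -- the image acts without fixed points
  let X := SemidirectProduct V φ.range φ.range.subtype
  haveI : Finite X := Finite.of_equiv _ SemidirectProduct.equivProd.symm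
  let AX : Subgroup X := (SemidirectProduct.inr : φ.range →* X).range
  let VX : Subgroup X := (SemidirectProduct.inl : V →* X).range
  haveI : VX.Normal := by
    show (SemidirectProduct.inl : V →* X).range.Normal
    rw [SemidirectProduct.range_inl_eq_ker_rightHom]
    exact MonoidHom.normal_ker _
  have hfpf : Cfsg.Agent.Frobenius.IsFPF AX VX := by
    refine Cfsg.Agent.Frobenius.isFPF_of_normal ?_
    rintro _ ⟨⟨_, t, rfl⟩, rfl⟩ hne
    have ht : (t : G) ∉ C := fun h => hne (by
      rw [show (⟨φ t, t, rfl⟩ : φ.range) = 1 from Subtype.ext (hin t h), map_one])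
    rw [Subgroup.eq_bot_iff_forall]
    rintro _ ⟨⟨l, rfl⟩, hc⟩
    have hc' := congrArg SemidirectProduct.left (Subgroup.mem_centralizer_singleton_iff.mp hc)
    simp only [SemidirectProduct.mul_left, SemidirectProduct.left_inl, SemidirectProduct.left_inr,
      SemidirectProduct.right_inl, SemidirectProduct.right_inr, map_one, one_mul, mul_one] at hc'
    rw [hfix t ht l hc'.symm, map_one]
  have hVX : VX ≠ ⊥ := by
    obtain ⟨v, hv⟩ := exists_ne (1 : V)
    exact fun h => hv (SemidirectProduct.inl_injective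
      ((Subgroup.eq_bot_iff_forall _).mp h _ ⟨v, rfl⟩ |>.trans (map_one _).symm))
  have hcardA : Nat.card φ.range = p := by
    have hne : φ.range ≠ ⊥ := by
      intro h
      have htop : φ.ker = ⊤ := MonoidHom.ker_eq_top_iff.mpr (MonoidHom.range_eq_bot_iff.mp h)
      rw [hker, Subgroup.subgroupOf_eq_top] at htop
      refine P.not_dvd_index (hpn.trans ?_)
      rw [← hT z hzN hz]
      exact Subgroup.index_dvd_of_le htop
    obtain ⟨a, ha, ha1⟩ := (Subgroup.bot_or_exists_ne_one _).resolve_left hne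
    have hexp : ∀ b ∈ φ.range, b ^ p = 1 := by
      rintro _ ⟨g, rfl⟩
      rw [← map_pow]
      exact hin _ (by rw [SubmonoidClass.coe_pow]; exact h2 g g.2)
    have hcom : ∀ u v : φ.range, Commute u v := by
      rintro ⟨_, g, rfl⟩ ⟨_, h, rfl⟩
      refine Subtype.ext ?_
      show φ g * φ h = φ h * φ g
      rw [← map_mul, ← map_mul, ← mul_inv_eq_one, ← map_inv, ← map_mul]
      refine hin _ ?_
      have := h3 g g.2 h h.2
      simp only [Subgroup.coe_mul, Subgroup.coe_inv, mul_inv_rev, ← mul_assoc] at this ⊢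
      exact this
    have hao : orderOf (⟨a, ha⟩ : φ.range) = p := by
      rw [Subgroup.orderOf_mk]; exact orderOf_eq_prime (hexp a ha) ha1
    have hall : ∀ b : φ.range, b ∈ Subgroup.zpowers (⟨a, ha⟩ : φ.range) := by
      intro b
      obtain ⟨i, hi⟩ := Subgroup.mem_zpowers_iff.mp (hfpf.mem_zpowers_of_commute hVX
        (a := SemidirectProduct.inr ⟨a, ha⟩) (b := SemidirectProduct.inr b) ⟨_, rfl⟩ ⟨_, rfl⟩
        ((orderOf_injective _ SemidirectProduct.inr_injective _).trans hao)
        (by rw [← map_pow, show b ^ p = 1 from Subtype.ext (hexp b b.2), map_one])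
        ((hcom _ b).map _))
      rw [← map_zpow] at hi
      exact ⟨i, SemidirectProduct.inr_injective hi⟩
    have htop : Subgroup.zpowers (⟨a, ha⟩ : φ.range) = ⊤ := eq_top_iff.mpr fun b _ => hall b
    rw [← Subgroup.card_top, ← htop, Nat.card_zpowers, hao]
  refine ⟨by rw [← hker, Subgroup.index_ker, hcardA], ?_⟩
  obtain ⟨j, hj⟩ := (show IsPGroup q V from fun v => ⟨1, Subtype.ext (by rw [pow_one]; exact v.2.2)⟩).exists_card_eq
  refine ⟨j, Nat.pos_of_ne_zero fun h0 => ?_, ?_, ?_⟩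
  · rw [h0, pow_zero] at hj
    exact not_nontrivial_iff_subsingleton.mpr (Nat.card_eq_one_iff_unique.mp hj).1 hVne
  · exact hj ▸ Subgroup.card_dvd_of_le (fun v hv => hv.1)
  · have := hfpf.card_dvd_card_sub_one
    rwa [Nat.card_congr (MonoidHom.ofInjective SemidirectProduct.inr_injective).toEquiv.symm,
      Nat.card_congr (MonoidHom.ofInjective SemidirectProduct.inl_injective).toEquiv.symm,
      hcardA, hj] at this

/-- Sylow subgroups meet `N` in Sylow subgroups. -/
theorem card_inf_le {p : ℕ} [Fact p.Prime] (P : Sylow p G) {D : Subgroup G} (hD : IsPGroup p D)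
    (hDN : D ≤ N) : Nat.card D ≤ Nat.card ((P : Subgroup G) ⊓ N : Subgroup G) := by
  obtain ⟨P', hP'⟩ := hD.exists_le_sylow
  obtain ⟨c, hc⟩ := MulAction.exists_smul_eq G P' P
  let f : D → ((P : Subgroup G) ⊓ N : Subgroup G) := fun d => ⟨c * d * c⁻¹, by
    rw [← hc, Sylow.coe_subgroup_smul]
    exact Subgroup.smul_mem_pointwise_smul _ (MulAut.conj c) _ (hP' d.2),
    (inferInstance : N.Normal).conj_mem _ (hDN d.2) c⟩
  exact Nat.card_le_card_of_injective f fun d d' h =>
    Subtype.ext (mul_left_cancel (mul_right_cancel (congrArg Subtype.val h)))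

/-- Every noncentral element of `N` centralizes a large part of a fixed Sylow subgroup of `N`,
up to conjugation in `N`. -/
theorem exists_cover {p : ℕ} [Fact p.Prime] (P : Sylow p G) {k : ℕ}
    (hk : ∀ x ∈ N, x ∉ Z → ∀ Sx : Sylow p (Subgroup.centralizer ({x} : Set G)),
      Nat.card P ≤ k * Nat.card Sx) {x : G} (hxN : x ∈ N) (hx : x ∉ Z) :
    ∃ n ∈ N, ∃ T : Subgroup G, T ≤ (P : Subgroup G) ⊓ N ∧
      T ≤ Subgroup.centralizer ({n * x * n⁻¹} : Set G) ∧
      Nat.card ((P : Subgroup G) ⊓ N : Subgroup G) ≤ k * Nat.card T := by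
  classical
  set C := Subgroup.centralizer ({x} : Set G)
  obtain ⟨Sx⟩ := (inferInstance : Nonempty (Sylow p C))
  set S' := (Sx : Subgroup C).map C.subtype with hS'
  obtain ⟨P', hP'⟩ := (Sx.2.map C.subtype).exists_le_sylow
  have hidx : (S'.subgroupOf (P' : Subgroup G)).index ≤ k := by
    have h1 := Subgroup.card_mul_index (S'.subgroupOf (P' : Subgroup G))
    have h2 : Nat.card (S'.subgroupOf (P' : Subgroup G)) = Nat.card Sx := by
      rw [Nat.card_congr (Subgroup.subgroupOfEquivOfLe hP').toEquiv,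
        Subgroup.card_map_of_injective C.subtype_injective]
    rw [h2] at h1
    refine Nat.le_of_mul_le_mul_left ?_ (Nat.card_pos (α := Sx))
    rw [h1, mul_comm]
    exact (Nat.le_of_eq (by rw [Sylow.card_eq_multiplicity, Sylow.card_eq_multiplicity])).trans
      (hk x hxN hx Sx)
  -- move `P' ⊓ N` onto `P ⊓ N` inside `N`
  have hmax : ∀ Q : Sylow p G, ∃ R : Sylow p N,
      (R : Subgroup N).map N.subtype = (Q : Subgroup G) ⊓ N := by
    intro Q
    obtain ⟨R, hR⟩ := (Q.2.comap_of_injective N.subtype N.subtype_injective).exists_le_sylow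
    refine ⟨R, (Subgroup.eq_of_le_of_card_ge ?_ ?_).symm⟩
    · rintro g ⟨hgQ, hgN⟩
      exact ⟨⟨g, hgN⟩, hR hgQ, rfl⟩
    · exact card_inf_le hT Q (R.2.map _) (Subgroup.map_subtype_le _)
  obtain ⟨R', hR'⟩ := hmax P'
  obtain ⟨R, hR⟩ := hmax P
  obtain ⟨n, hn⟩ := MulAction.exists_smul_eq N R' R
  set T0 := S' ⊓ N
  have hconj : ∀ g ∈ (P' : Subgroup G) ⊓ N, (n : G) * g * (n : G)⁻¹ ∈ (P : Subgroup G) ⊓ N := by
    intro g hg
    rw [← hR'] at hg
    obtain ⟨g, hg, rfl⟩ := hg
    rw [← hR]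
    refine ⟨n * g * n⁻¹, ?_, rfl⟩
    rw [← hn, Sylow.coe_subgroup_smul]
    exact Subgroup.smul_mem_pointwise_smul _ (MulAut.conj n) _ hg
  refine ⟨n, n.2, T0.map (MulAut.conj (n : G)).toMonoidHom, ?_, ?_, ?_⟩
  · rintro _ ⟨g, hg, rfl⟩
    exact hconj g ⟨hP' hg.1, hg.2⟩
  · rintro _ ⟨g, ⟨⟨⟨g, hgC⟩, -, rfl⟩, -⟩, rfl⟩
    rw [mem_cent_iff]
    exact (mem_cent_iff.mp hgC).map (MulAut.conj (n : G)).toMonoidHom
  · rw [Subgroup.card_map_of_injective (MulAut.conj (n : G)).injective]
    have h1 := Subgroup.card_mul_index (T0.subgroupOf ((P' : Subgroup G) ⊓ N))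
    rw [Nat.card_congr (Subgroup.subgroupOfEquivOfLe (inf_le_inf_right _ hP')).toEquiv] at h1
    have h2 : (T0.subgroupOf ((P' : Subgroup G) ⊓ N)).index ≤ k := by
      refine le_trans ?_ hidx
      show T0.relIndex ((P' : Subgroup G) ⊓ N) ≤ S'.relIndex P'
      have e : T0.subgroupOf ((P' : Subgroup G) ⊓ N) = S'.subgroupOf ((P' : Subgroup G) ⊓ N) := by
        ext g
        simp only [Subgroup.mem_subgroupOf, T0, Subgroup.mem_inf]
        exact ⟨And.left, fun h => ⟨h, g.2.2⟩⟩
      rw [Subgroup.relIndex, e, ← Subgroup.relIndex]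
      exact Subgroup.relIndex_le_of_le_right inf_le_left Subgroup.index_ne_zero_of_finite
    calc Nat.card ((P : Subgroup G) ⊓ N : Subgroup G)
        ≤ Nat.card ((P' : Subgroup G) ⊓ N : Subgroup G) := by
          rw [← hR]; exact card_inf_le hT P' (R.2.map _) (Subgroup.map_subtype_le _)
      _ = Nat.card T0 * (T0.subgroupOf ((P' : Subgroup G) ⊓ N)).index := h1.symm
      _ ≤ Nat.card T0 * k := Nat.mul_le_mul_left _ h2
      _ = k * Nat.card T0 := mul_comm _ _

theorem card_mul_le {p : ℕ} [hp : Fact p.Prime] (hpm : p ∣ m) (P : Sylow p G) {x : G} (hxN : x ∈ N)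
    (hx : x ∉ Z) {D : Subgroup G} (hD : IsPGroup p D)
    (hDC : D ≤ Subgroup.centralizer ({x} : Set G)) : p * Nat.card D ≤ Nat.card P := by
  obtain ⟨k, hk⟩ := hD.exists_card_eq
  have h1 : p ^ (k + 1) ∣ Nat.card G := by
    rw [← Subgroup.card_mul_index (Subgroup.centralizer ({x} : Set G)), hT x hxN hx, pow_succ]
    exact Nat.mul_dvd_mul (hk ▸ Subgroup.card_dvd_of_le hDC) hpm
  rw [hk, mul_comm, ← pow_succ, Sylow.card_eq_multiplicity]
  exact Nat.pow_le_pow_right hp.out.pos
    ((hp.out.pow_dvd_iff_le_factorization Nat.card_pos.ne').mp h1)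

theorem le_card_sylow {p : ℕ} [hp : Fact p.Prime] (P : Sylow p G) {k : ℕ} {z : G} (hzN : z ∈ N)
    (hz : z ∉ Z) (hk : ((Subgroup.centralizer ({z} : Set G)).subgroupOf (P : Subgroup G)).index ≤ k)
    (x : G) (hxN : x ∈ N) (hx : x ∉ Z) (Sx : Sylow p (Subgroup.centralizer ({x} : Set G))) :
    Nat.card P ≤ k * Nat.card Sx := by
  set C := Subgroup.centralizer ({z} : Set G)
  have h1 := Subgroup.card_mul_index (C.subgroupOf (P : Subgroup G))
  rw [← h1, mul_comm]
  refine Nat.mul_le_mul hk ?_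
  have h2 : Nat.card C = Nat.card (Subgroup.centralizer ({x} : Set G)) := by
    have ha := Subgroup.card_mul_index C
    have hb := Subgroup.card_mul_index (Subgroup.centralizer ({x} : Set G))
    rw [hT z hzN hz] at ha
    rw [hT x hxN hx, ← ha] at hb
    exact (Nat.eq_of_mul_eq_mul_right (m_pos hT hzN hz) hb).symm
  have h3 : IsPGroup p (C ⊓ (P : Subgroup G) : Subgroup G) := P.2.to_le inf_le_right
  obtain ⟨j, hj⟩ := h3.exists_card_eq
  have h4 : Nat.card (C.subgroupOf (P : Subgroup G)) = Nat.card (C ⊓ (P : Subgroup G) : Subgroup G) := by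
    rw [← Subgroup.subgroupOf_map_subtype, Subgroup.card_map_of_injective (Subgroup.subtype_injective _)]
  rw [h4, hj, Sylow.card_eq_multiplicity]
  refine Nat.pow_le_pow_right hp.out.pos
    ((hp.out.pow_dvd_iff_le_factorization Nat.card_pos.ne').mp ?_)
  rw [← hj, ← h2]
  exact Subgroup.card_dvd_of_le inf_le_left

/-- `|D| / |D ∩ Z|` for subgroups `D`. -/
theorem card_map_mk (D : Subgroup G) :
    Nat.card (D.map (QuotientGroup.mk' Z)) * Nat.card (D ⊓ Z : Subgroup G) = Nat.card D := by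
  have h := Subgroup.card_mul_index ((QuotientGroup.mk' Z).comp D.subtype).ker
  rw [Subgroup.index_ker, MonoidHom.range_comp, Subgroup.range_subtype] at h
  rw [← h, mul_comm]
  congr 1
  rw [← MonoidHom.comap_ker, QuotientGroup.ker_mk', inf_comm, ← Subgroup.subgroupOf_map_subtype,
    Subgroup.card_map_of_injective D.subtype_injective]
  rfl

/-- Either all of `N` lies in the centralizer, or the Sylow subgroup of `N` is small modulo the
centre. -/
theorem small_or_le {p : ℕ} [hp : Fact p.Prime] (P : Sylow p G) {z : G} (hzN : z ∈ N) (hz : z ∉ Z)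
    (hY : ∀ w ∈ Subgroup.centralizer ({z} : Set G) ⊓ N,
      Subgroup.centralizer ({z} : Set G) ≤ Subgroup.centralizer ({w} : Set G)) {k : ℕ}
    (hidx : ((Subgroup.centralizer ({z} : Set G)).subgroupOf (P : Subgroup G)).index ≤ k) :
    N ≤ Subgroup.centralizer ({z} : Set G) ∨
      ∃ T : Subgroup G, T ≤ (P : Subgroup G) ⊓ N ∧ T ⊓ Subgroup.centralizer ({z} : Set G) ≤ Z ∧
        Nat.card ((P : Subgroup G) ⊓ N : Subgroup G) ≤ k * Nat.card T := by
  classical
  set C := Subgroup.centralizer ({z} : Set G)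
  by_cases h : ∃ T : Subgroup G, T ≤ (P : Subgroup G) ⊓ N ∧ T ⊓ C ≤ Z ∧
      Nat.card ((P : Subgroup G) ⊓ N : Subgroup G) ≤ k * Nat.card T
  · exact Or.inr h
  refine Or.inl ?_
  have htop := eq_top_of_conjugates_cover (C.subgroupOf N) fun g => ?_
  · exact Subgroup.subgroupOf_eq_top.mp htop
  by_cases hg : (g : G) ∈ Z
  · refine ⟨1, ?_⟩
    rw [one_mul, inv_one, mul_one]
    exact Subgroup.center_le_centralizer _ hg
  obtain ⟨n, hn, T, hTS, hTC, hcard⟩ := exists_cover hT P (le_card_sylow hT P hzN hz hidx) g.2 hg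
  obtain ⟨w, hw, hwZ⟩ := SetLike.not_le_iff_exists.mp fun h' => h ⟨T, hTS, h', hcard⟩
  refine ⟨⟨n, hn⟩, ?_⟩
  show n * (g : G) * n⁻¹ ∈ C
  rw [show C = Subgroup.centralizer ({w} : Set G) from
    cent_eq hT hzN hz (hTS hw.1).2 hwZ (hY w ⟨hw.2, (hTS hw.1).2⟩), mem_cent_iff]
  exact (mem_cent_iff.mp (hTC hw.1)).symm

theorem nilpotent_of_not_dvd {r : ℕ} [Fact r.Prime] (R : Sylow r G) (hR : ¬ (R : Subgroup G) ≤ Z)
    (hRN : (R : Subgroup G) ≤ N) (hrm : ¬ r ∣ m) :
    ∀ x ∈ N, ∀ y ∈ N, Commute x y := by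
  classical
  obtain ⟨a, haR, haZ⟩ := SetLike.not_le_iff_exists.mp hR
  have hk : ∀ x ∈ N, x ∉ Z → ∀ Sx : Sylow r (Subgroup.centralizer ({x} : Set G)),
      Nat.card R ≤ 1 * Nat.card Sx := by
    intro x hxN hx Sx
    rw [one_mul, Sylow.card_eq_multiplicity, Sylow.card_eq_multiplicity]
    refine Nat.pow_le_pow_right (Fact.out : r.Prime).pos (le_of_eq ?_)
    have h := Subgroup.card_mul_index (Subgroup.centralizer ({x} : Set G))
    rw [hT x hxN hx] at h
    rw [← h, Nat.factorization_mul Nat.card_pos.ne' (m_pos hT hxN hx).ne', Finsupp.add_apply,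
      Nat.factorization_eq_zero_of_not_dvd hrm, add_zero]
  have hNR : N ≤ Subgroup.centralizer ((R : Subgroup G) : Set G) := by
    refine Subgroup.subgroupOf_eq_top.mp (eq_top_of_conjugates_cover _ fun g => ?_)
    by_cases hg : (g : G) ∈ Z
    · exact ⟨1, by rw [one_mul, inv_one, mul_one]; exact Subgroup.center_le_centralizer _ hg⟩
    obtain ⟨n, hn, T, hTS, hTC, hcard⟩ := exists_cover hT R hk g.2 hg
    have hTeq : T = (R : Subgroup G) := by
      refine Subgroup.eq_of_le_of_card_ge (hTS.trans inf_le_left) ?_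
      rw [inf_eq_left.mpr hRN] at hcard
      simpa using hcard
    refine ⟨⟨n, hn⟩, Subgroup.mem_centralizer_iff.mpr fun y hy => ?_⟩
    exact mem_cent_iff.mp (hTC (hTeq ▸ hy))
  have hRc : ∀ w ∈ N, ∀ y ∈ (R : Subgroup G), Commute y w := fun w hw y hy =>
    Subgroup.mem_centralizer_iff.mp (hNR hw) y hy
  intro x hx y hy
  rw [← piPart_mul_piPart' {r} y]
  refine Commute.mul_right ?_ ?_
  · -- the `r`-part lies in `R`
    have hmem : piPart {r} y ∈ (R : Subgroup G) := by
      have hle : Subgroup.zpowers (piPart {r} y) ⊔ (R : Subgroup G) = (R : Subgroup G) := by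
        refine R.3 ?_ le_sup_right
        refine (isPGroup_zpowers (isPiElem_piPart {r} y)).to_sup_of_normal_right' R.2 ?_
        rw [Subgroup.zpowers_le, Subgroup.mem_normalizer_iff]
        intro g
        have hyN := piPart_mem {r} y hy
        constructor
        · intro hg
          rw [← (hRc _ hyN g hg).eq, mul_inv_cancel_right]; exact hg
        · intro hg
          have := (hRc _ (inv_mem hyN) _ hg).eq
          have e : g = piPart {r} y * g * (piPart {r} y)⁻¹ := by
            have h2 := this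
            calc g = (piPart {r} y)⁻¹ * (piPart {r} y * g * (piPart {r} y)⁻¹) * piPart {r} y := by
                  group
              _ = (piPart {r} y * g * (piPart {r} y)⁻¹) * (piPart {r} y)⁻¹ * piPart {r} y := by
                  rw [h2]
              _ = _ := by group
          rw [e]; exact hg
      rw [← hle]
      exact Subgroup.mem_sup_left (Subgroup.mem_zpowers _)
    exact (hRc x hx _ hmem).symm
  · have hyN := piPart'_mem {r} y hy
    by_cases hyZ : piPart' {r} y ∈ Z
    · exact Subgroup.mem_center_iff.mp hyZ x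
    · have haN := hRN haR
      have hx' : x ∈ Subgroup.centralizer ({a} : Set G) := mem_cent_iff.mpr (hRc x hx a haR).symm
      exact mem_cent_iff.mp (coprime_step hT {r} haN haZ hyN (hRc _ hyN a haR)
        (isPiElem_of_mem R.2 haR) (isPiElem_piPart' {r} y) hx')

/-- If `r` divides `m`, all `r'`-elements of `N` are central. -/
theorem central_of_dvd {r : ℕ} [hr : Fact r.Prime] (R : Sylow r G) (hR : ¬ (R : Subgroup G) ≤ Z)
    (hRN : (R : Subgroup G) ≤ N) (hrm : r ∣ m) :
    ∀ y ∈ N, ¬ r ∣ orderOf y → y ∈ Z := by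
  classical
  obtain ⟨a, haR, haZ⟩ := SetLike.not_le_iff_exists.mp hR
  have haN := hRN haR
  have hm0 := m_pos hT haN haZ
  intro y hy hyr
  by_contra hyZ
  obtain ⟨s, hs, hbZ⟩ := exists_part hyZ
  haveI := Fact.mk hs
  have hsr : s ≠ r := by
    rintro rfl
    apply hbZ
    have : piPart {s} y = 1 := by
      refine IsPiElem.eq_one (isPiElem_piPart {s} y) ?_
      obtain ⟨i, hi⟩ := exists_piPart_eq_pow {s} y
      rw [hi]
      exact ((isPiElem_compl_singleton_iff.mpr hyr).pow i)
    rw [this]; exact one_mem _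
  -- `r`-elements of `G` lie in `N`
  have hrN : ∀ w : G, IsPiElem {r} w → w ∈ N := by
    intro w hw
    obtain ⟨R', hR'⟩ := (isPGroup_zpowers hw).exists_le_sylow
    obtain ⟨c, hc⟩ := MulAction.exists_smul_eq G R R'
    have h := hR' (Subgroup.mem_zpowers w)
    rw [← hc, Sylow.coe_subgroup_smul, Subgroup.mem_pointwise_smul_iff_inv_smul_mem] at h
    have h2 := (inferInstance : N.Normal).conj_mem _ (hRN h) c
    simpa [mul_assoc] using h2
  have hcardmap : ∀ x ∈ N, x ∉ Z → Nat.card ((Subgroup.centralizer ({x} : Set G)).map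
      (QuotientGroup.mk' Z)) * (Nat.card (Z) * m) = Nat.card G := by
    intro x hxN hx
    rw [← mul_assoc, card_map_cent _ (Subgroup.center_le_centralizer ({x} : Set G)), ← hT x hxN hx,
      Subgroup.card_mul_index]
  -- noncentral `r'`-elements of prime power order centralize noncentral `r`-elements
  have hU : ∀ q : ℕ, q.Prime → q ≠ r → ∀ b ∈ N, b ∉ Z → IsPiElem {q} b →
      r ∣ Nat.card ((Subgroup.centralizer ({b} : Set G) ⊓ N).map (QuotientGroup.mk' Z)) ∧
      ∃ u ∈ N, u ∉ Z ∧ IsPiElem {r} u ∧ Commute u b := by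
    intro q hq hqr b hbN hb hbq
    have h2 : r ∣ Nat.card ((Subgroup.centralizer ({b} : Set G)).map (QuotientGroup.mk' Z)) := by
      have h1 := hcardmap a haN haZ
      rw [← hcardmap b hbN hb] at h1
      have h3 := Nat.eq_of_mul_eq_mul_right (Nat.mul_pos Nat.card_pos hm0) h1
      rw [← h3]
      have hord : orderOf (QuotientGroup.mk a : G ⧸ Z) ≠ 1 := by
        rwa [Ne, orderOf_eq_one_iff, QuotientGroup.eq_one_iff]
      obtain ⟨k, hk⟩ := exists_pow_of_isPiElem_singleton
        ((isPiElem_of_mem R.2 haR).map (QuotientGroup.mk' Z))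
      rw [QuotientGroup.mk'_apply] at hk
      have hk0 : k ≠ 0 := fun h0 => hord (by rw [hk, h0, pow_zero])
      refine (dvd_pow_self r hk0).trans (hk ▸ ?_)
      rw [← Subgroup.orderOf_mk (QuotientGroup.mk a : G ⧸ Z)
        (Subgroup.mem_map_of_mem (QuotientGroup.mk' Z) (mem_cent_iff.mpr (Commute.refl a)))]
      exact orderOf_dvd_natCard _
    obtain ⟨⟨vq, hvm⟩, hv⟩ := exists_prime_orderOf_dvd_card' r h2
    rw [Subgroup.orderOf_mk] at hv
    obtain ⟨v, hvC, rfl⟩ := hvm
    rw [QuotientGroup.mk'_apply] at hv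
    have huC := piPart_mem {r} v hvC
    have huN := hrN _ (isPiElem_piPart {r} v)
    have huZ := piPart_not_central (r := r) (x := v) (hv ▸ dvd_refl _)
    refine ⟨?_, piPart {r} v, huN, huZ, isPiElem_piPart {r} v, mem_cent_iff.mp huC⟩
    obtain ⟨k, hk⟩ := exists_pow_of_isPiElem_singleton
      ((isPiElem_piPart {r} v).map (QuotientGroup.mk' Z))
    rw [QuotientGroup.mk'_apply] at hk
    have hk0 : k ≠ 0 := fun h0 => huZ ((QuotientGroup.eq_one_iff _).mp
      (orderOf_eq_one_iff.mp (by rw [hk, h0, pow_zero])))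
    refine (dvd_pow_self r hk0).trans (hk ▸ ?_)
    rw [← Subgroup.orderOf_mk (QuotientGroup.mk (piPart {r} v) : G ⧸ Z)
      (Subgroup.mem_map_of_mem (QuotientGroup.mk' Z)
        (Subgroup.mem_inf.mpr ⟨huC, huN⟩))]
    exact orderOf_dvd_natCard _
  obtain ⟨S⟩ := (inferInstance : Nonempty (Sylow s G))
  obtain ⟨b, hbS, hbN, hbZ', hbs, hb1, hb2, hb3, hbc⟩ :=
    exists_special hT S ⟨_, piPart_mem {s} y hy, isPiElem_piPart {s} y, hbZ⟩
  have hbq : IsPiElem {s} b := isPiElem_of_mem S.2 hbS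
  obtain ⟨hrC, u, huN, huZ, hur, hub⟩ := hU s hs hsr b hbN hbZ' hbq
  obtain ⟨hCub, hY⟩ := inf_central hT hsr hbN hbZ' hbq huN huZ hur hub
  set C := Subgroup.centralizer ({b} : Set G) with hCdef
  -- `N` is not inside `C(b)`
  have hNC : ¬ N ≤ C := by
    intro h
    refine R.not_dvd_index (hrm.trans ?_)
    rw [← hT a haN haZ]
    exact Subgroup.index_dvd_of_le fun w hw =>
      mem_cent_iff.mpr (mem_cent_iff.mp (hY a ⟨h haN, haN⟩ (h (hRN hw))))
  have hidx1 : ¬ s ∣ m → (S : Subgroup G) ≤ C := by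
    intro hsm g hg
    by_contra hgC
    apply hsm
    have hle : (S : Subgroup G) ≤ Subgroup.normalizer (C : Set G) := by
      intro g hg
      rw [Subgroup.mem_normalizer_iff]
      refine fun w => ⟨hb1 g hg w, fun hw => ?_⟩
      simpa [mul_assoc] using hb1 g⁻¹ (inv_mem hg) _ hw
    set NC := Subgroup.normalizer (C : Set G)
    haveI : (C.subgroupOf NC).Normal := Subgroup.normal_in_normalizer
    have h1 : (C.subgroupOf NC).relIndex ((S : Subgroup G).subgroupOf NC) ∣ (C.subgroupOf NC).index :=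
      Subgroup.relIndex_dvd_index_of_normal _ _
    rw [Subgroup.relIndex_subgroupOf hle] at h1
    have h2 : (C.subgroupOf NC).index ∣ C.index := by
      rw [← Subgroup.relIndex_mul_index (Subgroup.le_normalizer (H := C))]
      exact dvd_mul_right _ _
    haveI : (C.subgroupOf (S : Subgroup G)).FiniteIndex := inferInstance
    obtain ⟨k, hk⟩ := S.2.index (C.subgroupOf (S : Subgroup G))
    have hk0 : k ≠ 0 := fun h0 => hgC (by
      rw [h0, pow_zero, Subgroup.index_eq_one, Subgroup.subgroupOf_eq_top] at hk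
      exact hk hg)
    rw [← hT b hbN hbZ']
    exact (dvd_pow_self s hk0).trans ((dvd_of_eq hk.symm).trans (h1.trans h2))
  have hsm : s ∣ m := by
    by_contra hsm
    have hSC := hidx1 hsm
    rcases small_or_le hT S hbN hbZ' hY (k := 1)
      (le_of_eq (by rw [Subgroup.index_eq_one, Subgroup.subgroupOf_eq_top]; exact hSC)) with
      h | ⟨T, hTS, hTC, hT'⟩
    · exact hNC h
    · rw [one_mul] at hT'
      exact hbZ' (hTC ⟨(Subgroup.eq_of_le_of_card_ge hTS hT').symm ▸
        (⟨hbS, hbN⟩ : b ∈ (S : Subgroup G) ⊓ N), mem_cent_iff.mpr (Commute.refl b)⟩)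
  obtain ⟨hidx, j, hj, hjd, hjp⟩ := fpf_index hT hsr hsm S hbN hbZ' hb1 hb2 hb3 hY hrC
  -- sizes modulo the centre
  set bar : Subgroup G → ℕ := fun D => Nat.card (D.map (QuotientGroup.mk' Z))
  have bar_le : ∀ (p : ℕ) (D T : Subgroup G), T ≤ D → Nat.card D ≤ p * Nat.card T →
      bar D ≤ p * bar T := by
    intro p D T hTD h
    refine Nat.le_of_mul_le_mul_right ?_ (Nat.card_pos (α := (D ⊓ Z : Subgroup G)))
    calc bar D * Nat.card (D ⊓ Z : Subgroup G) = Nat.card D := card_map_mk hT D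
      _ ≤ p * Nat.card T := h
      _ = p * (bar T * Nat.card (T ⊓ Z : Subgroup G)) := by rw [← card_map_mk hT T]
      _ ≤ p * (bar T * Nat.card (D ⊓ Z : Subgroup G)) := Nat.mul_le_mul_left _
          (Nat.mul_le_mul_left _ (Subgroup.card_le_of_le (inf_le_inf_right _ hTD)))
      _ = p * bar T * Nat.card (D ⊓ Z : Subgroup G) := (mul_assoc _ _ _).symm
  have bar_small : ∀ (p : ℕ) (P T K : Subgroup G), T ≤ P → T ⊓ K ≤ Z →
      (K.subgroupOf P).index = p → bar T ≤ p := by
    intro p P T K hTP hTK hK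
    have h1 : Nat.card T ≤ p * Nat.card (T ⊓ Z : Subgroup G) := by
      have h2 := Subgroup.card_mul_index (K.subgroupOf T)
      have h3 : (K.subgroupOf T).index ≤ p :=
        hK ▸ Subgroup.relIndex_le_of_le_right hTP Subgroup.index_ne_zero_of_finite
      have h4 : Nat.card (K.subgroupOf T) ≤ Nat.card (T ⊓ Z : Subgroup G) := by
        rw [← Subgroup.card_map_of_injective T.subtype_injective, Subgroup.subgroupOf_map_subtype]
        exact Subgroup.card_le_of_le (le_inf inf_le_right (inf_comm T K ▸ hTK))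
      rw [← h2, mul_comm]
      exact Nat.mul_le_mul h3 h4
    refine Nat.le_of_mul_le_mul_right ?_ (Nat.card_pos (α := (T ⊓ Z : Subgroup G)))
    rw [show bar T * Nat.card (T ⊓ Z : Subgroup G) = Nat.card T from card_map_mk hT T]
    exact h1
  have bar_dvd : ∀ (q : ℕ) (D : Subgroup G), q.Prime → ∀ w ∈ D, IsPiElem {q} w → w ∉ Z → q ∣ bar D := by
    intro q D hq w hwD hwq hwZ
    haveI := Fact.mk hq
    obtain ⟨k, hk⟩ := exists_pow_of_isPiElem_singleton (hwq.map (QuotientGroup.mk' Z))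
    rw [QuotientGroup.mk'_apply] at hk
    have hk0 : k ≠ 0 := fun h0 => hwZ ((QuotientGroup.eq_one_iff _).mp
      (orderOf_eq_one_iff.mp (by rw [hk, h0, pow_zero])))
    refine (dvd_pow_self q hk0).trans (hk ▸ ?_)
    rw [← Subgroup.orderOf_mk (QuotientGroup.mk w : G ⧸ Z)
      (Subgroup.mem_map_of_mem (QuotientGroup.mk' Z) hwD)]
    exact orderOf_dvd_natCard _
  obtain ⟨T, hTS, hTC, hTcard⟩ := (small_or_le hT S hbN hbZ' hY hidx.le).resolve_left hNC
  set SN := (S : Subgroup G) ⊓ N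
  have hST : bar SN ≤ s * bar T := bar_le s SN T hTS hTcard
  have hTbar : bar T ≤ s := bar_small s S T C (hTS.trans inf_le_left) hTC hidx
  have hSNp : IsPGroup s (SN.map (QuotientGroup.mk' Z)) := (S.2.to_le inf_le_left).map _
  -- `s`-elements of `C ⊓ N` lie in `S`
  have hmemS : ∀ w ∈ C ⊓ N, IsPiElem {s} w → w ∈ (S : Subgroup G) := by
    intro w hw hws
    set D := C ⊓ (S : Subgroup G)
    have hD : IsPGroup s (Subgroup.zpowers w ⊔ D : Subgroup G) := by
      refine (isPGroup_zpowers hws).to_sup_of_normal_right' (S.2.to_le inf_le_right) ?_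
      rw [Subgroup.zpowers_le, Subgroup.mem_normalizer_iff]
      intro g
      constructor
      · intro hg
        rw [← (mem_cent_iff.mp (hY w hw hg.1)).eq, mul_inv_cancel_right]
        exact hg
      · intro hg
        have h' := (mem_cent_iff.mp (hY w hw hg.1)).inv_right.eq
        have e : g = w * g * w⁻¹ := by
          calc g = w⁻¹ * (w * g * w⁻¹) * w := by group
            _ = (w * g * w⁻¹) * w⁻¹ * w := by rw [← h']
            _ = _ := by group
        rw [e]; exact hg
    have h1 := card_mul_le hT hsm S hbN hbZ' hD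
      (sup_le (Subgroup.zpowers_le.mpr hw.1) inf_le_left)
    have h2 : s * Nat.card D = Nat.card S := by
      have h := Subgroup.card_mul_index (C.subgroupOf (S : Subgroup G))
      rw [hidx, ← Subgroup.card_map_of_injective (Subgroup.subtype_injective _),
        Subgroup.subgroupOf_map_subtype] at h
      rw [← h, mul_comm]
    rw [← h2] at h1
    have h3 := Nat.le_of_mul_le_mul_left h1 hs.pos
    have h4 := Subgroup.eq_of_le_of_card_ge (le_sup_right : D ≤ Subgroup.zpowers w ⊔ D) h3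
    exact (h4.symm ▸ Subgroup.mem_sup_left (Subgroup.mem_zpowers w) : w ∈ D).2
  set W := SN ⊓ C
  have hbW : b ∈ W := ⟨⟨hbS, hbN⟩, mem_cent_iff.mpr (Commute.refl b)⟩
  have hbord : orderOf (QuotientGroup.mk b : G ⧸ Z) = s :=
    orderOf_eq_prime (by rw [← QuotientGroup.mk_pow, QuotientGroup.eq_one_iff]; exact hbs)
      (fun e => hbZ' ((QuotientGroup.eq_one_iff _).mp e))
  -- `W` is cyclic of order `s` modulo the centre
  have hWz : W.map (QuotientGroup.mk' Z) = Subgroup.zpowers (QuotientGroup.mk b : G ⧸ Z) := by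
    have hle : Subgroup.zpowers (QuotientGroup.mk b : G ⧸ Z) ≤ W.map (QuotientGroup.mk' Z) :=
      Subgroup.zpowers_le.mpr ⟨b, hbW, rfl⟩
    refine (Subgroup.eq_of_le_of_card_ge hle ?_).symm
    rw [Nat.card_zpowers, hbord]
    by_contra hgt
    obtain ⟨k, hk⟩ := (hSNp.to_le (Subgroup.map_mono (inf_le_left : W ≤ SN))).exists_card_eq
    rw [hk] at hgt
    have hk2 : 2 ≤ k := by
      by_contra hk2
      refine hgt (le_trans (Nat.pow_le_pow_right hs.pos (show k ≤ 1 by omega)) (pow_one s).le)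
    have h1 : s ^ 2 ≤ bar W := by
      show s ^ 2 ≤ Nat.card (W.map (QuotientGroup.mk' Z))
      rw [hk]; exact Nat.pow_le_pow_right hs.pos hk2
    have h2 : bar W ≤ bar SN := Subgroup.card_le_of_le (Subgroup.map_mono inf_le_left)
    have h3 : bar SN ≤ s ^ 2 := by
      rw [pow_two]; exact hST.trans (Nat.mul_le_mul_left _ hTbar)
    have heq : W.map (QuotientGroup.mk' Z) = SN.map (QuotientGroup.mk' Z) :=
      Subgroup.eq_of_le_of_card_ge (Subgroup.map_mono inf_le_left) (h3.trans h1)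
    have hTZ : T ≤ Z := by
      intro w hw
      refine hTC ⟨hw, ?_⟩
      obtain ⟨w', hw', he⟩ := (heq ▸ Subgroup.mem_map_of_mem (QuotientGroup.mk' Z) (hTS hw) :
        QuotientGroup.mk' Z w ∈ W.map (QuotientGroup.mk' Z))
      have hz : w'⁻¹ * w ∈ Z := (QuotientGroup.eq (s := Z)).mp he
      rw [show w = w' * (w'⁻¹ * w) by group]
      exact mul_mem hw'.2 (Subgroup.center_le_centralizer _ hz)
    have hT1 : bar T = 1 := by
      show Nat.card (T.map (QuotientGroup.mk' Z)) = 1
      rw [Subgroup.card_eq_one, Subgroup.map_eq_bot_iff, QuotientGroup.ker_mk']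
      exact hTZ
    rw [hT1, mul_one] at hST
    have := hs.two_le
    rw [pow_two] at h1
    nlinarith [h1.trans (h2.trans hST)]
  -- an element of `N` normalizing `C` without centralizing `b`
  obtain ⟨Rb, hRb⟩ := ((isPGroup_zpowers hur).comap_of_injective C.subtype
    C.subtype_injective).exists_le_sylow
  set Rb' := (Rb : Subgroup C).map C.subtype
  obtain ⟨R', hR'⟩ := (Rb.2.map C.subtype).exists_le_sylow
  have hne : Rb'.subgroupOf (R' : Subgroup G) ≠ ⊤ := by
    rw [Ne, Subgroup.subgroupOf_eq_top]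
    intro h
    have h1 := card_mul_le hT hrm R' hbN hbZ' R'.2 (h.trans (Subgroup.map_subtype_le _))
    have := hr.out.two_le
    have : 0 < Nat.card R' := Nat.card_pos
    nlinarith
  obtain ⟨a', ha'n, ha'⟩ := SetLike.exists_of_lt (Cfsg.Agent.PGroup.lt_normalizer R'.2 hne)
  obtain ⟨a, haR'⟩ := a'
  rw [Subgroup.mem_subgroupOf] at ha'
  have hconj : ∀ g ∈ Rb', a * g * a⁻¹ ∈ Rb' := fun g hg => by
    have h := (Subgroup.mem_normalizer_iff.mp ha'n ⟨g, hR' hg⟩).mp (Subgroup.mem_subgroupOf.mpr hg)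
    simpa [Subgroup.mem_subgroupOf] using h
  have har : IsPiElem {r} a := isPiElem_of_mem R'.2 haR'
  have haN' : a ∈ N := hrN a har
  have huRb : u ∈ Rb' := ⟨⟨u, mem_cent_iff.mpr hub⟩, hRb (Subgroup.mem_zpowers u), rfl⟩
  have haC : a ∉ C := by
    intro h
    apply ha'
    set a'' : C := ⟨a, h⟩
    have hpg : IsPGroup r (Subgroup.zpowers a'') := by
      obtain ⟨k, hk⟩ := exists_pow_of_isPiElem_singleton har
      exact IsPGroup.of_card (n := k) (by rw [Nat.card_zpowers, Subgroup.orderOf_mk, hk])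
    have hle : Subgroup.zpowers a'' ⊔ (Rb : Subgroup C) = (Rb : Subgroup C) := by
      refine Rb.3 (hpg.to_sup_of_normal_right' Rb.2 ?_) le_sup_right
      rw [Subgroup.zpowers_le, Subgroup.mem_normalizer_iff_map_conj_eq]
      refine Subgroup.eq_of_le_of_card_ge ?_ (le_of_eq ?_)
      · rintro _ ⟨g, hg, rfl⟩
        obtain ⟨g', hg', he⟩ := hconj g ⟨g, hg, rfl⟩
        have : (MulAut.conj a'') g = g' := Subtype.ext (by simp [a'']; exact he.symm)
        exact this ▸ hg'
      · exact (Subgroup.card_map_of_injective (MulAut.conj a'').injective).symm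
    exact ⟨a'', hle ▸ Subgroup.mem_sup_left (Subgroup.mem_zpowers a''), rfl⟩
  have haNC : a ∈ Subgroup.normalizer (C : Set G) := by
    have hu' := hconj u huRb
    have huC : a * u * a⁻¹ ∈ C := Subgroup.map_subtype_le _ hu'
    have huN' := (inferInstance : N.Normal).conj_mem _ huN a
    have huZ' : a * u * a⁻¹ ∉ Z := fun h => huZ (by
      simpa [mul_assoc] using (inferInstance : (Z).Normal).conj_mem' _ h a)
    have he : Subgroup.centralizer ({a * u * a⁻¹} : Set G) = C :=
      (cent_eq hT hbN hbZ' huN' huZ' (hY _ ⟨huC, huN'⟩)).symm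
    rw [Subgroup.mem_normalizer_iff]
    intro g
    constructor
    · intro hg
      rw [← he]
      exact mem_cent_iff.mpr ((mem_cent_iff.mp (hCub.symm ▸ hg)).map (MulAut.conj a).toMonoidHom)
    · intro hg
      rw [← hCub, mem_cent_iff]
      have h := (mem_cent_iff.mp (he.symm ▸ hg)).map (MulAut.conj a⁻¹).toMonoidHom
      simpa [mul_assoc] using h
  have hconjW : ∀ h ∈ Subgroup.normalizer (C : Set G), ∀ w ∈ W, h * w * h⁻¹ ∈ W := by
    intro h hh w hw
    have hwC : h * w * h⁻¹ ∈ C := (Subgroup.mem_normalizer_iff.mp hh w).mp hw.2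
    have hwN := (inferInstance : N.Normal).conj_mem _ hw.1.2 h
    refine ⟨⟨hmemS _ ⟨hwC, hwN⟩ ((isPiElem_conj_iff _ _).mpr (isPiElem_of_mem S.2 hw.1.1)), hwN⟩, hwC⟩
  obtain ⟨ν, hν⟩ : ∃ ν : ℤ, (QuotientGroup.mk b : G ⧸ Z) ^ ν = QuotientGroup.mk (a⁻¹ * b * a) := by
    apply Subgroup.mem_zpowers_iff.mp
    rw [← hWz]
    have h := hconjW a⁻¹ (inv_mem haNC) b hbW
    rw [inv_inv] at h
    exact ⟨_, h, rfl⟩
  obtain ⟨α, hα⟩ := exists_pow_of_isPiElem_singleton har
  have hν1 : ((ν : ZMod s)) ≠ 1 := by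
    intro h
    apply haC
    set c := b⁻¹ * (a⁻¹ * b * a) with hc
    have hcZ : c ∈ Z := by
      rw [← QuotientGroup.eq_one_iff, QuotientGroup.mk_mul, ← hν, QuotientGroup.mk_inv,
        inv_mul_eq_one]
      have hmod : ν % (s : ℤ) = 1 := by
        have h' := (ZMod.intCast_eq_intCast_iff' ν 1 s).mp (by push_cast; exact h)
        rwa [Int.emod_eq_of_lt (a := 1) (b := (s : ℤ)) (by norm_num) (by exact_mod_cast hs.one_lt)] at h'
      rw [← zpow_mod_orderOf _ ν, hbord, hmod, zpow_one]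
    have hk : ∀ i : ℕ, (a ^ i)⁻¹ * b * a ^ i = b * c ^ i := by
      intro i
      induction i with
      | zero => simp
      | succ i ih =>
        calc (a ^ (i + 1))⁻¹ * b * a ^ (i + 1) = a⁻¹ * ((a ^ i)⁻¹ * b * a ^ i) * a := by
              rw [pow_succ]; group
          _ = a⁻¹ * b * (c ^ i * a) := by rw [ih]; group
          _ = a⁻¹ * b * a * c ^ i := by
            rw [← Subgroup.mem_center_iff.mp (pow_mem hcZ i) a]; group
          _ = b * c ^ (i + 1) := by rw [pow_succ', ← mul_assoc b c, show b * c = a⁻¹ * b * a by rw [hc]; group]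
    have h1 : c ^ orderOf a = 1 := by
      have := hk (orderOf a)
      rw [pow_orderOf_eq_one, inv_one, one_mul, mul_one, eq_comm, mul_eq_left] at this
      exact this
    have hcr : IsPiElem {r} c := har.of_dvd (orderOf_dvd_of_pow_eq_one h1)
    have hcs : IsPiElem {s} c := by
      have h2 := (isPiElem_conj_iff (π := {s}) a⁻¹ b).mpr hbq
      rw [inv_inv] at h2
      refine hbq.inv.mul h2 ?_
      have h3 := hconjW a⁻¹ (inv_mem haNC) b hbW
      rw [inv_inv] at h3
      exact (mem_cent_iff.mp h3.2).symm.inv_left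
    have hc1 : c = 1 := hcs.eq_one (isPiElem_of_ne hsr.symm hcr)
    rw [hc, inv_mul_eq_one, mul_assoc, eq_inv_mul_iff_mul_eq] at hc1
    exact mem_cent_iff.mpr hc1
  have hrs : r ∣ s - 1 := by
    have hit : ∀ i : ℕ, (QuotientGroup.mk b : G ⧸ Z) ^ (ν ^ i) =
        QuotientGroup.mk ((a ^ i)⁻¹ * b * a ^ i) := by
      intro i
      induction i with
      | zero => simp
      | succ i ih =>
        rw [pow_succ', zpow_mul, hν, QuotientGroup.mk_mul, QuotientGroup.mk_mul,
          QuotientGroup.mk_inv]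
        have hcj := conj_zpow (i := ν ^ i) (a := (QuotientGroup.mk a : G ⧸ Z)⁻¹) (b := QuotientGroup.mk b)
        rw [inv_inv] at hcj
        rw [hcj, ih]
        simp only [QuotientGroup.mk_mul, QuotientGroup.mk_inv, QuotientGroup.mk_pow]
        group
    have h1 : (ν : ZMod s) ^ (r ^ α) = 1 := by
      have h := hit (r ^ α)
      rw [← hα, pow_orderOf_eq_one, inv_one, one_mul, mul_one] at h
      have h' : (QuotientGroup.mk b : G ⧸ Z) ^ (ν ^ orderOf a) =
          (QuotientGroup.mk b : G ⧸ Z) ^ (1 : ℤ) := by rw [zpow_one, h]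
      rw [zpow_eq_zpow_iff_modEq, hbord] at h'
      rw [← hα, ← Int.cast_pow, ← Int.cast_one, ZMod.intCast_eq_intCast_iff]
      exact h'
    obtain ⟨i, hi, he⟩ := (Nat.dvd_prime_pow hr.out).mp (orderOf_dvd_of_pow_eq_one h1)
    have hi0 : i ≠ 0 := fun h0 => hν1 (orderOf_eq_one_iff.mp (by rw [he, h0, pow_zero]))
    refine (dvd_pow_self r hi0).trans (he ▸ ZMod.orderOf_dvd_card_sub_one fun h0 => ?_)
    rw [h0, zero_pow (pow_ne_zero _ hr.out.ne_zero)] at h1
    exact zero_ne_one h1
  -- `S ⊓ N` is not inside `C`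
  have hSNC : ¬ SN ≤ C := by
    intro hle
    obtain ⟨g, hgS, hgC⟩ := SetLike.not_le_iff_exists.mp (show ¬ (S : Subgroup G) ≤ C from fun h => by
      rw [Subgroup.subgroupOf_eq_top.mpr h, Subgroup.index_top] at hidx
      exact hs.one_lt.ne hidx)
    obtain ⟨d, hd, hgd⟩ := hbc g hgS
    have hd1 : d ≠ 1 := by
      rintro rfl
      rw [mul_one, mul_inv_eq_iff_eq_mul] at hgd
      exact hgC (mem_cent_iff.mpr hgd)
    have hds : d ^ s = 1 := by
      have h : (g * b * g⁻¹) ^ s = b ^ s := by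
        rw [conj_pow, Subgroup.mem_center_iff.mp hbs g, mul_inv_cancel_right]
      rw [hgd, (show Commute b d from Subgroup.mem_center_iff.mp hd b).mul_pow, mul_eq_left] at h
      exact h
    have hgNC : g ∈ Subgroup.normalizer (C : Set G) := by
      rw [Subgroup.mem_normalizer_iff]
      exact fun w => ⟨hb1 g hgS w, fun hw => by
        simpa [mul_assoc] using hb1 g⁻¹ (inv_mem hgS) _ hw⟩
    have push : ∀ (x y z : G), z ∈ Z → x * (y * z) * x⁻¹ = x * y * x⁻¹ * z := fun x y z hz => by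
      calc x * (y * z) * x⁻¹ = x * y * (z * x⁻¹) := by group
        _ = x * y * (x⁻¹ * z) := by rw [(Subgroup.mem_center_iff.mp hz x⁻¹).symm]
        _ = x * y * x⁻¹ * z := by group
    have hgi : g⁻¹ * b * g = b * d⁻¹ := by
      have h2 := push g⁻¹ (b * d) d⁻¹ (inv_mem hd)
      rw [mul_inv_cancel_right, inv_inv] at h2
      rw [h2, ← hgd]; group
    set c' := (b ^ ν)⁻¹ * (a⁻¹ * b * a) with hc'
    have hc'Z : c' ∈ Z := by
      rw [← QuotientGroup.eq_one_iff, QuotientGroup.mk_mul, QuotientGroup.mk_inv,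
        QuotientGroup.mk_zpow, hν, inv_mul_cancel]
    have hai : a⁻¹ * b * a = b ^ ν * c' := by rw [hc']; group
    set k := g * a * g⁻¹ * a⁻¹ with hk
    set e := d * (d ^ ν)⁻¹ with he
    have hkb : k * b * k⁻¹ = b * e := by
      have hbd : Commute b d⁻¹ := (show Commute b d from Subgroup.mem_center_iff.mp hd b).inv_right
      calc k * b * k⁻¹ = g * (a * (g⁻¹ * (a⁻¹ * b * a) * g) * a⁻¹) * g⁻¹ := by rw [hk]; group
        _ = g * (a * ((b ^ ν * c') * (d⁻¹) ^ ν) * a⁻¹) * g⁻¹ := by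
          have h2 := push g⁻¹ (b ^ ν) c' hc'Z
          rw [inv_inv] at h2
          have h3 := (conj_zpow (i := ν) (a := g⁻¹) (b := b)).symm
          rw [inv_inv] at h3
          rw [hai, h2, h3, hgi, hbd.mul_zpow,
            show b ^ ν * d⁻¹ ^ ν * c' = b ^ ν * c' * d⁻¹ ^ ν by
              rw [mul_assoc, Subgroup.mem_center_iff.mp hc'Z ((d⁻¹) ^ ν), ← mul_assoc]]
        _ = g * (b * (d ^ ν)⁻¹) * g⁻¹ := by
          rw [push a _ _ (zpow_mem (inv_mem hd) ν), ← hai, inv_zpow]
          congr 2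
          group
        _ = b * e := by rw [push g b _ (inv_mem (zpow_mem hd ν)), hgd, he, mul_assoc]
    have hes : e ^ s = 1 := by
      rw [he, (((Commute.refl d).zpow_right ν).inv_right).mul_pow, hds, inv_pow, ← zpow_natCast,
        ← zpow_mul, mul_comm, zpow_mul, zpow_natCast, hds, one_zpow, inv_one, mul_one]
    have he1 : e ≠ 1 := by
      intro h
      apply hν1
      rw [he, mul_inv_eq_one] at h
      have h' : d ^ (1 : ℤ) = d ^ ν := by rw [zpow_one]; exact h
      rw [zpow_eq_zpow_iff_modEq, orderOf_eq_prime hds hd1] at h'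
      have h'' := (ZMod.intCast_eq_intCast_iff 1 ν s).mpr h'
      rw [Int.cast_one] at h''
      exact h''.symm
    have heZ : e ∈ Z := mul_mem hd (inv_mem (zpow_mem hd ν))
    have hpow : ∀ i : ℕ, k ^ i * b * (k ^ i)⁻¹ = b * e ^ i := by
      intro i
      induction i with
      | zero => simp
      | succ i ih =>
        calc k ^ (i + 1) * b * (k ^ (i + 1))⁻¹ = k * (k ^ i * b * (k ^ i)⁻¹) * k⁻¹ := by
              rw [pow_succ']; group
          _ = k * b * k⁻¹ * e ^ i := by rw [ih, push k b _ (pow_mem heZ i)]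
          _ = b * e ^ (i + 1) := by rw [hkb, pow_succ', mul_assoc]
    have hkN : k ∈ N := mul_mem ((inferInstance : N.Normal).conj_mem _ haN' g) (inv_mem haN')
    have hkNC : k ∈ Subgroup.normalizer (C : Set G) :=
      mul_mem (mul_mem (mul_mem hgNC haNC) (inv_mem hgNC)) (inv_mem haNC)
    set ks := piPart {s} k with hks
    -- the `s`-part still moves `b`
    have hksC : ks ∉ C := by
      intro h
      apply he1
      obtain ⟨i, hi⟩ := exists_piPart'_eq_pow {s} k
      set l := orderOf (piPart' {s} k)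
      have hl : ¬ s ∣ l := not_dvd_piPart' k
      have h1 : k ^ i * b * (k ^ i)⁻¹ = b * e := by
        rw [← hkb, ← hi]
        conv_rhs => rw [← piPart_mul_piPart' {s} k, (commute_piPart_piPart' {s} k).eq]
        rw [mul_inv_rev]
        calc piPart' {s} k * b * (piPart' {s} k)⁻¹
            = piPart' {s} k * (ks * b * ks⁻¹) * (piPart' {s} k)⁻¹ := by
              rw [(mem_cent_iff.mp h).eq, mul_inv_cancel_right]
          _ = _ := by rw [hks]; group
      rw [hpow, mul_right_inj] at h1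
      have h2 : e ^ l = 1 := by
        have h3 := hpow (i * l)
        rw [pow_mul, ← hi, pow_orderOf_eq_one, one_mul, inv_one, mul_one, eq_comm, mul_eq_left,
          pow_mul, h1] at h3
        exact h3
      exact orderOf_eq_one_iff.mp (Nat.eq_one_of_dvd_coprimes
        ((hs.coprime_iff_not_dvd.mpr hl)) (orderOf_dvd_of_pow_eq_one hes)
        (orderOf_dvd_of_pow_eq_one h2))
    have hksN : ks ∈ N := piPart_mem {s} k hkN
    have hksNC : ks ∈ Subgroup.normalizer (C : Set G) := piPart_mem {s} k hkNC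
    have hD : IsPGroup s (Subgroup.zpowers ks ⊔ SN : Subgroup G) := by
      refine (isPGroup_zpowers (isPiElem_piPart {s} k)).to_sup_of_normal_right'
        (S.2.to_le inf_le_left) ?_
      rw [Subgroup.zpowers_le, Subgroup.mem_normalizer_iff]
      intro w
      constructor
      · intro hw
        exact (hconjW ks hksNC w ⟨hw, hle hw⟩).1
      · intro hw
        have h := (hconjW ks⁻¹ (inv_mem hksNC) _ ⟨hw, hle hw⟩).1
        have e : ks⁻¹ * (ks * w * ks⁻¹) * ks⁻¹⁻¹ = w := by group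
        exact e ▸ h
    have h1 := card_inf_le hT S hD (sup_le (Subgroup.zpowers_le.mpr hksN) inf_le_right)
    have h2 := Subgroup.eq_of_le_of_card_ge (le_sup_right : SN ≤ Subgroup.zpowers ks ⊔ SN) h1
    exact hksC (hle (h2.symm ▸ Subgroup.mem_sup_left (Subgroup.mem_zpowers ks)))
  have hSN2 : s ^ 2 ≤ bar SN := by
    obtain ⟨k, hk⟩ := hSNp.exists_card_eq
    show s ^ 2 ≤ Nat.card (SN.map (QuotientGroup.mk' Z))
    rw [hk]
    refine Nat.pow_le_pow_right hs.pos ?_
    by_contra hk2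
    apply hSNC
    have heq : W.map (QuotientGroup.mk' Z) = SN.map (QuotientGroup.mk' Z) := by
      refine Subgroup.eq_of_le_of_card_ge (Subgroup.map_mono inf_le_left) ?_
      rw [hWz, Nat.card_zpowers, hbord, hk]
      exact le_trans (Nat.pow_le_pow_right hs.pos (show k ≤ 1 by omega)) (pow_one s).le
    intro w hw
    obtain ⟨w', hw', he⟩ := (heq ▸ Subgroup.mem_map_of_mem (QuotientGroup.mk' Z) hw :
      QuotientGroup.mk' Z w ∈ W.map (QuotientGroup.mk' Z))
    have hz : w'⁻¹ * w ∈ Z := (QuotientGroup.eq (s := Z)).mp he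
    rw [show w = w' * (w'⁻¹ * w) by group]
    exact mul_mem hw'.2 (Subgroup.center_le_centralizer _ hz)
  -- the special element of `R`
  obtain ⟨z, hzR, hzN, hzZ, -, hz1, hz2, hz3, -⟩ :=
    exists_special hT R ⟨a, haN', har, fun h => haC (Subgroup.center_le_centralizer _ h)⟩
  have hzr : IsPiElem {r} z := isPiElem_of_mem R.2 hzR
  obtain ⟨n, hn, T', hT'S, hT'C, hT'card⟩ := exists_cover hT S (le_card_sylow hT S hbN hbZ' hidx.le) hzN hzZ
  obtain ⟨w, hwT, hwZ⟩ := SetLike.not_le_iff_exists.mp (show ¬ T' ≤ Z from fun h => by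
    have h1 : bar T' = 1 := by
      show Nat.card (T'.map (QuotientGroup.mk' Z)) = 1
      rw [Subgroup.card_eq_one, Subgroup.map_eq_bot_iff, QuotientGroup.ker_mk']
      exact h
    have h2 := hSN2.trans (bar_le s SN T' hT'S hT'card)
    rw [h1, mul_one, pow_two] at h2
    have := hs.two_le
    nlinarith)
  set w' := n⁻¹ * w * n
  have hw'N : w' ∈ N := mul_mem (mul_mem (inv_mem hn) (hT'S hwT).2) hn
  have hw'Z : w' ∉ Z := fun h => hwZ (by
    have h2 := (inferInstance : (Z).Normal).conj_mem _ h n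
    simpa [w', mul_assoc] using h2)
  have hw's : IsPiElem {s} w' := by
    have h := (isPiElem_conj_iff (π := {s}) n⁻¹ w).mpr (isPiElem_of_mem S.2 (hT'S hwT).1)
    rw [inv_inv] at h
    exact h
  have hw'z : Commute w' z := by
    have h := (mem_cent_iff.mp (hT'C hwT)).map (MulAut.conj n⁻¹).toMonoidHom
    simpa [w', mul_assoc] using h
  obtain ⟨-, hYz⟩ := inf_central hT hsr.symm hzN hzZ hzr hw'N hw'Z hw's hw'z
  set Cz := Subgroup.centralizer ({z} : Set G)
  obtain ⟨hidxz, -, -, -⟩ := fpf_index hT hsr.symm hrm R hzN hzZ hz1 hz2 hz3 hYz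
    (bar_dvd s (Cz ⊓ N) hs w' ⟨mem_cent_iff.mpr hw'z, hw'N⟩ hw's hw'Z)
  have hRN' : (R : Subgroup G) ⊓ N = R := inf_eq_left.mpr hRN
  obtain ⟨Tr, hTrS, hTrC, hTrcard⟩ := (small_or_le hT R hzN hzZ hYz hidxz.le).resolve_left fun h => by
    rw [Subgroup.subgroupOf_eq_top.mpr (hRN.trans h), Subgroup.index_top] at hidxz
    exact hr.out.one_lt.ne hidxz
  have hR2 : bar (R : Subgroup G) ≤ r ^ 2 := by
    rw [pow_two]
    refine (bar_le r _ Tr (hTrS.trans inf_le_left) ?_).trans (Nat.mul_le_mul_left _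
      (bar_small r R Tr Cz (hTrS.trans inf_le_left) hTrC hidxz))
    rwa [hRN'] at hTrcard
  -- the `r`-part of `C` modulo the centre
  have hj1 : j ≤ 1 := by
    by_contra hj1
    have h1 : r ^ 2 ∣ bar Cz := by
      have h2 : bar C = bar Cz :=
        Nat.eq_of_mul_eq_mul_right (Nat.mul_pos Nat.card_pos hm0)
          ((hcardmap b hbN hbZ').trans (hcardmap z hzN hzZ).symm)
      rw [← h2]
      exact ((pow_dvd_pow r (by omega)).trans hjd).trans
        (Subgroup.card_dvd_of_le (Subgroup.map_mono inf_le_left))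
    obtain ⟨Sz⟩ := (inferInstance : Nonempty (Sylow r Cz))
    set Sz' := (Sz : Subgroup Cz).map Cz.subtype
    obtain ⟨Rz, hRz⟩ := (Sz.2.map Cz.subtype).exists_le_sylow
    have hbarSz : r ^ 2 ≤ bar Sz' := by
      have hsur : Function.Surjective ((QuotientGroup.mk' Z).subgroupMap Cz) :=
        MonoidHom.subgroupMap_surjective _ _
      have h3 : bar Sz' = r ^ (bar Cz).factorization r := by
        show Nat.card _ = _
        rw [← Sylow.card_eq_multiplicity (Sz.mapSurjective hsur), Sylow.coe_mapSurjective,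
          ← Subgroup.card_map_of_injective (Cz.map (QuotientGroup.mk' Z)).subtype_injective,
          Subgroup.map_map, Subgroup.map_map]
        rfl
      rw [h3]
      exact Nat.pow_le_pow_right hr.out.pos
        ((hr.out.pow_dvd_iff_le_factorization Nat.card_pos.ne').mp h1)
    have hbarR : bar (Rz : Subgroup G) = bar (R : Subgroup G) := by
      obtain ⟨c, hc⟩ := MulAction.exists_smul_eq G R Rz
      show Nat.card ((Rz : Subgroup G).map (QuotientGroup.mk' Z)) = _
      have e : (Rz : Subgroup G).map (QuotientGroup.mk' Z) =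
          ((R : Subgroup G).map (QuotientGroup.mk' Z)).map
            (MulAut.conj (QuotientGroup.mk' Z c)).toMonoidHom := by
        rw [← hc, Sylow.coe_subgroup_smul, Subgroup.map_map]
        show ((R : Subgroup G).map (MulAut.conj c).toMonoidHom).map _ = _
        rw [Subgroup.map_map]
        congr 1
      rw [e, Subgroup.card_map_of_injective (MulAut.conj (QuotientGroup.mk' Z c)).injective]
    have heq : Sz'.map (QuotientGroup.mk' Z) = (Rz : Subgroup G).map (QuotientGroup.mk' Z) :=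
      Subgroup.eq_of_le_of_card_ge (Subgroup.map_mono hRz) ((hbarR.le.trans hR2).trans hbarSz)
    have hle : (Rz : Subgroup G) ≤ Cz := by
      intro g hg
      obtain ⟨g', hg', he⟩ := (heq.symm ▸ Subgroup.mem_map_of_mem (QuotientGroup.mk' Z) hg :
        QuotientGroup.mk' Z g ∈ Sz'.map (QuotientGroup.mk' Z))
      have hz' : g'⁻¹ * g ∈ Z := (QuotientGroup.eq (s := Z)).mp he
      rw [show g = g' * (g'⁻¹ * g) by group]
      exact mul_mem (Subgroup.map_subtype_le _ hg') (Subgroup.center_le_centralizer _ hz')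
    have h4 := card_mul_le hT hrm Rz hzN hzZ Rz.2 hle
    have := hr.out.two_le
    have : 0 < Nat.card Rz := Nat.card_pos
    nlinarith
  have hj' : j = 1 := by omega
  rw [hj', pow_one] at hjp
  have := Nat.le_of_dvd (by have := hs.two_le; omega) hrs
  have := Nat.le_of_dvd (by have := hr.out.two_le; omega) hjp
  omega

/-- `N` is nilpotent. -/
theorem nilpotent {r : ℕ} [Fact r.Prime] (R : Sylow r G) (hR : ¬ (R : Subgroup G) ≤ Z)
    (hRN : (R : Subgroup G) ≤ N) : Group.IsNilpotent N := by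
  classical
  by_cases hrm : r ∣ m
  · have hq : IsPGroup r (N ⧸ Subgroup.center N) := by
      intro q
      obtain ⟨⟨g, hg⟩, rfl⟩ := QuotientGroup.mk_surjective q
      obtain ⟨k, hk⟩ := exists_pow_of_isPiElem_singleton (isPiElem_piPart {r} g)
      refine ⟨k, ?_⟩
      rw [← QuotientGroup.mk_pow, QuotientGroup.eq_one_iff, Subgroup.mem_center_iff]
      intro h
      refine Subtype.ext ?_
      show (h : G) * g ^ r ^ k = g ^ r ^ k * h
      have e : g ^ r ^ k = piPart' {r} g ^ r ^ k := by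
        conv_lhs => rw [← piPart_mul_piPart' {r} g]
        rw [(commute_piPart_piPart' {r} g).mul_pow, ← hk, pow_orderOf_eq_one, one_mul]
      rw [e]
      exact Subgroup.mem_center_iff.mp (pow_mem (central_of_dvd hT R hR hRN hrm _
        (piPart'_mem {r} g hg) (not_dvd_piPart' g)) _) h
    exact Group.of_quotient_center_nilpotent hq.isNilpotent
  · have hc := nilpotent_of_not_dvd hT R hR hRN hrm
    haveI : Subsingleton (N ⧸ Subgroup.center N) := by
      refine ⟨fun x y => ?_⟩
      obtain ⟨a, rfl⟩ := QuotientGroup.mk_surjective x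
      obtain ⟨b, rfl⟩ := QuotientGroup.mk_surjective y
      rw [QuotientGroup.eq, Subgroup.mem_center_iff]
      exact fun c => Subtype.ext (hc c c.2 _ (a⁻¹ * b).2).eq
    exact Group.of_quotient_center_nilpotent inferInstance

end

end Cfsg.Agent.FG78.NormalTwoSizes
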