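import Mathlib

set_option autoImplicit false

/-! Transitive permutation groups containing a long cycle of prime length; restriction to the
support. -/

namespace Cfsg.Agent.FG78

open MulAction Equiv
open scoped Pointwise

variable {α : Type*} [Fintype α] [DecidableEq α]

/-- A transitive group with a cycle of prime length exceeding half the degree is primitive. -/
theorem isPreprimitive_of_large_cycle (G : Subgroup (Perm α)) [IsPretransitive G α]
    {g : Perm α} (hg : g ∈ G) (hgc : g.IsCycle) {p : ℕ} (hp : p.Prime) (hgp : g.support.card = p)
    (hlt : Fintype.card α < 2 * p) : IsPreprimitive G α := by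
  classical
  obtain ⟨a, ha⟩ := hgc.nonempty_support
  refine IsPreprimitive.of_isTrivialBlock_base a fun {B} haB hB => ?_
  by_cases hBu : B = Set.univ
  · exact Or.inr hBu
  refine Or.inl ?_
  by_contra hns
  set g' : G := ⟨g, hg⟩
  have hgord : orderOf g = p := hgc.orderOf.trans hgp
  have hB2 : 1 < B.ncard := (Set.one_lt_ncard).mpr (Set.not_subsingleton_iff.mp hns)
  have hBle : B.ncard * 2 ≤ Fintype.card α := by
    by_contra h
    exact hBu (hB.eq_univ_of_card_lt (by rw [Nat.card_eq_fintype_card]; omega))
  by_cases hfix : g' • B = B
  · -- the whole cycle lies in `B`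
    have hsub : (g.support : Set α) ⊆ B := by
      intro y hy
      obtain ⟨i, rfl⟩ := hgc.exists_pow_eq (Perm.mem_support.mp ha) (Perm.mem_support.mp hy)
      clear hy
      induction i with
      | zero => simpa using haB
      | succ i ih =>
        have h : g' • (g ^ i) a ∈ g' • B := Set.smul_mem_smul_set ih
        rw [hfix] at h
        rwa [pow_succ', Perm.mul_apply]
    have := Set.ncard_le_ncard hsub
    rw [Set.ncard_coe_finset, hgp] at this
    omega
  · -- at least `p` translates
    have hne : B.Nonempty := ⟨a, haB⟩
    have key := hB.ncard_block_mul_ncard_orbit_eq hne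
    rw [Nat.card_eq_fintype_card] at key
    have horb : p ≤ (orbit G B).ncard := by
      have hinj : Function.Injective (fun i : Fin p => g' ^ (i : ℕ) • B) := by
        intro i j hij
        by_contra hne'
        obtain ⟨i, hi⟩ := i
        obtain ⟨j, hj⟩ := j
        simp only [Fin.mk.injEq] at hne' hij
        haveI := Fact.mk hp
        have hstab : g' ^ ((i : ℤ) - j) ∈ MulAction.stabilizer G B := by
          rw [MulAction.mem_stabilizer_iff, sub_eq_neg_add, zpow_add, zpow_neg, zpow_natCast,
            zpow_natCast, mul_smul, hij, inv_smul_smul]
        have hcop : IsCoprime ((i : ℤ) - j) (p : ℤ) := by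
          rw [Int.isCoprime_iff_gcd_eq_one]
          refine ((Nat.prime_iff_prime_int.mp hp).coprime_iff_not_dvd.mpr fun hd => hne' ?_).symm |> fun h => Int.isCoprime_iff_gcd_eq_one.mp h
          have := Int.eq_zero_of_dvd_of_natAbs_lt_natAbs hd (by omega)
          omega
        obtain ⟨u, v, huv⟩ := hcop
        refine hfix ?_
        have hp1 : g' ^ (p : ℤ) = 1 := by
          rw [zpow_natCast, ← hgord, ← Subgroup.orderOf_mk g hg]
          exact pow_orderOf_eq_one _
        have h1 : g' ∈ MulAction.stabilizer G B := by
          rw [← zpow_one g', ← huv, zpow_add, mul_comm u, mul_comm v, zpow_mul, zpow_mul, hp1,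
            one_zpow, mul_one]
          exact zpow_mem hstab u
        exact h1
      have h2 : Set.range (fun i : Fin p => g' ^ (i : ℕ) • B) ⊆ orbit G B := by
        rintro _ ⟨i, rfl⟩; exact mem_orbit _ _
      have h3 := Set.ncard_le_ncard h2 (Set.toFinite _)
      rw [Set.ncard_range_of_injective hinj, Nat.card_fin] at h3
      exact h3
    have := Nat.mul_le_mul hB2 horb
    omega

section Closure

variable {p : α → Prop} [DecidablePred p]

/-- A group generated by permutations moving only points satisfying `p` lives on the subtype. -/
theorem closure_pair_map_ofSubtype (x' y' : Perm {a // p a}) :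
    (Subgroup.closure ({x', y'} : Set (Perm {a // p a}))).map Perm.ofSubtype =
      Subgroup.closure ({Perm.ofSubtype x', Perm.ofSubtype y'} : Set (Perm α)) := by
  rw [MonoidHom.map_closure, Set.image_insert_eq, Set.image_singleton]

end Closure

end Cfsg.Agent.FG78
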