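import Cfsg.Agent.FG78.PiParts

set_option autoImplicit false

/-! The number of classes of `π`-elements is at most the `π`-part of the group order. -/

namespace Cfsg.Agent.FG78

universe u

/-- classes of `π`-elements -/
abbrev PiClasses (π : Set ℕ) (G : Type u) [Group G] :=
  {C : ConjClasses G // ∀ q : ℕ, q.Prime →
    (∃ g : G, ConjClasses.mk g = C ∧ q ∣ orderOf g) → q ∈ π}

theorem card_piClasses_finset_le (s : Finset ℕ) (hs : ∀ q ∈ s, q.Prime) :
    ∀ (G : Type u) [Group G] [Finite G],
      Nat.card (PiClasses (↑s : Set ℕ) G) ≤ ∏ q ∈ s, q ^ (Nat.card G).factorization q := by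
  induction s using Finset.induction_on with
  | empty =>
    intro G _ _
    rw [Finset.prod_empty]
    refine (Nat.card_le_card_of_injective (fun _ => PUnit.unit.{1}) ?_).trans (by simp)
    rintro ⟨C, hC⟩ ⟨D, hD⟩ -
    obtain ⟨x, rfl⟩ := C.exists_rep
    obtain ⟨y, rfl⟩ := D.exists_rep
    have h1 : ∀ z : G, IsPiElem (↑(∅ : Finset ℕ) : Set ℕ) z → z = 1 :=
      fun z hz => hz.eq_one fun q hq hd h => (Finset.notMem_empty q h).elim
    refine Subtype.ext (congrArg ConjClasses.mk ?_)
    exact (h1 x ((isPiElem_conjClass_iff _ x).mp hC)).trans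
      (h1 y ((isPiElem_conjClass_iff _ y).mp hD)).symm
  | insert p s hp ih =>
    intro G _ _
    classical
    have hpp : p.Prime := hs p (Finset.mem_insert_self p s)
    haveI : Fact p.Prime := ⟨hpp⟩
    have ih' := ih (fun q hq => hs q (Finset.mem_insert_of_mem hq))
    let P : Sylow p G := default
    let H : ↥(P : Subgroup G) → Subgroup G := fun r => Subgroup.centralizer ({(r : G)} : Set G)
    haveI : Fintype ↥(P : Subgroup G) := Fintype.ofFinite _
    let F : (Σ r : ↥(P : Subgroup G), PiClasses (↑s : Set ℕ) ↥(H r)) → ConjClasses G :=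
      fun d => ConjClasses.mk ((d.1 : G) * (d.2.1.exists_rep.choose : G))
    have key : ∀ C : PiClasses (↑(insert p s) : Set ℕ) G, ∃ d, F d = C.1 := by
      rintro ⟨C, hC⟩
      obtain ⟨x, rfl⟩ := C.exists_rep
      have hx := (isPiElem_conjClass_iff _ x).mp hC
      have ha : IsPGroup p (Subgroup.zpowers (piPart {p} x)) := by
        obtain ⟨k, hk⟩ : ∃ k, orderOf (piPart {p} x) = p ^ k :=
          ⟨_, Nat.eq_prime_pow_of_unique_prime_dvd (orderOf_pos _).ne'
            fun {q} hq hd => (isPiElem_piPart {p} x) q hq hd⟩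
        exact IsPGroup.of_card (n := k) ((Nat.card_zpowers (piPart {p} x)).trans hk)
      obtain ⟨Q, hQ⟩ := ha.exists_le_sylow
      obtain ⟨c, hc⟩ := MulAction.exists_smul_eq G Q P
      have hmem : c * piPart {p} x * c⁻¹ ∈ (P : Subgroup G) := by
        rw [← hc, Sylow.coe_subgroup_smul]
        exact Subgroup.smul_mem_pointwise_smul _ (MulAut.conj c) _
          (hQ (Subgroup.mem_zpowers _))
      have hb : c * piPart' {p} x * c⁻¹ ∈ H ⟨_, hmem⟩ := by
        rw [Subgroup.mem_centralizer_singleton_iff]
        have := (commute_piPart_piPart' {p} x).map (MulAut.conj c).toMonoidHom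
        exact this.symm.eq
      have hbs : IsPiElem (↑s : Set ℕ) (⟨_, hb⟩ : H ⟨_, hmem⟩) := by
        intro q hq hd
        rw [Subgroup.orderOf_mk] at hd
        have hd' : q ∣ orderOf (piPart' {p} x) := by
          have e : orderOf (c * piPart' {p} x * c⁻¹) = orderOf (piPart' {p} x) :=
            orderOf_injective (MulAut.conj c).toMonoidHom (MulAut.conj c).injective (piPart' {p} x)
          rwa [e] at hd
        have hne : q ≠ p := fun e => isPiElem_piPart' {p} x q hq hd' (by simp [e])
        obtain ⟨j, hj⟩ := exists_piPart'_eq_pow {p} x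
        have := hx q hq (hd'.trans (by rw [hj]; exact orderOf_pow_dvd j))
        simpa [hne] using this
      let E : PiClasses (↑s : Set ℕ) ↥(H ⟨_, hmem⟩) :=
        ⟨ConjClasses.mk ⟨_, hb⟩, (isPiElem_conjClass_iff _ _).mpr hbs⟩
      refine ⟨⟨⟨_, hmem⟩, E⟩, ConjClasses.mk_eq_mk_iff_isConj.mpr (IsConj.symm ?_)⟩
      obtain ⟨e, he⟩ := isConj_iff.mp
        (ConjClasses.mk_eq_mk_iff_isConj.mp E.1.exists_rep.choose_spec.symm)
      have he' : (e : G) * (c * piPart' {p} x * c⁻¹) * (e : G)⁻¹ =
          (E.1.exists_rep.choose : G) := congrArg Subtype.val he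
      have hee : (e : G) * (c * piPart {p} x * c⁻¹) = c * piPart {p} x * c⁻¹ * (e : G) :=
        (Subgroup.mem_centralizer_singleton_iff.mp e.2)
      refine isConj_iff.mpr ⟨(e : G) * c, ?_⟩
      show (e : G) * c * x * ((e : G) * c)⁻¹ =
        c * piPart {p} x * c⁻¹ * (E.1.exists_rep.choose : G)
      rw [← he']
      refine (congrArg (fun z => (e : G) * c * z * ((e : G) * c)⁻¹)
        (piPart_mul_piPart' {p} x).symm).trans ?_
      simp only [← mul_assoc]
      simp only [← mul_assoc] at hee
      rw [← hee]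
      simp [mul_assoc]
    have hinj : Function.Injective fun C => (key C).choose := fun C D h =>
      Subtype.ext ((key C).choose_spec.symm.trans (by
        rw [show (key C).choose = (key D).choose from h]; exact (key D).choose_spec))
    refine (Nat.card_le_card_of_injective _ hinj).trans ?_
    rw [Nat.card_sigma, Finset.prod_insert hp]
    refine (Finset.sum_le_card_nsmul _ _ (∏ q ∈ s, q ^ (Nat.card G).factorization q)
      fun r _ => (ih' ↥(H r)).trans ?_).trans ?_
    · refine Finset.prod_le_prod' fun q hq => ?_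
      refine Nat.pow_le_pow_right (hs q (Finset.mem_insert_of_mem hq)).pos ?_
      exact (Nat.factorization_le_iff_dvd Nat.card_pos.ne' Nat.card_pos.ne').mpr
        (Subgroup.card_subgroup_dvd_card _) q
    · rw [smul_eq_mul, Finset.card_univ, ← Nat.card_eq_fintype_card, P.card_eq_multiplicity]

theorem card_piClasses_le (π : Set ℕ) (G : Type u) [Group G] [Finite G] 
    (m : ℕ) (hm : m ∣ Nat.card G) (hm' : ∀ q ∈ π, ¬ q ∣ Nat.card G / m) :
    Nat.card (PiClasses π G) ≤ m := by
  classical
  let s : Finset ℕ := (Nat.card G).primeFactors.filter (· ∈ π)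
  have hs : ∀ q ∈ s, q.Prime := fun q hq =>
    Nat.prime_of_mem_primeFactors (Finset.mem_filter.mp hq).1
  have h1 : Nat.card (PiClasses π G) ≤ Nat.card (PiClasses (↑s : Set ℕ) G) := by
    refine Nat.card_le_card_of_injective (fun C => ⟨C.1, fun q hq ⟨g, hg, hd⟩ => ?_⟩)
      fun C D h => Subtype.ext (congrArg Subtype.val h :)
    simp only [s, Finset.coe_filter, Set.mem_setOf_eq]
    exact ⟨Nat.mem_primeFactors.mpr ⟨hq, hd.trans (orderOf_dvd_natCard g), Nat.card_pos.ne'⟩,
      C.2 q hq ⟨g, hg, hd⟩⟩
  refine h1.trans ((card_piClasses_finset_le s hs G).trans (Nat.le_of_dvd ?_ ?_))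
  · exact Nat.pos_of_dvd_of_pos hm Nat.card_pos
  · have key : ∀ t ⊆ s, ∏ q ∈ t, q ^ (Nat.card G).factorization q ∣ m := by
      intro t
      induction t using Finset.induction_on with
      | empty => intro _; simp
      | insert q t hqt iht =>
        intro hsub
        have hq := hsub (Finset.mem_insert_self q t)
        rw [Finset.prod_insert hqt]
        refine Nat.Coprime.mul_dvd_of_dvd_of_dvd ?_ ?_
          (iht ((Finset.subset_insert q t).trans hsub))
        · refine Nat.Coprime.prod_right fun r hr => Nat.Coprime.pow _ _ ?_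
          exact (Nat.coprime_primes (hs q hq) (hs r (hsub (Finset.mem_insert_of_mem hr)))).mpr
            (fun e => hqt (e ▸ hr))
        · have hcop : (q ^ (Nat.card G).factorization q).Coprime (Nat.card G / m) :=
            ((hs q hq).coprime_iff_not_dvd.mpr (hm' q (Finset.mem_filter.mp hq).2)).pow_left _
          refine hcop.dvd_of_dvd_mul_right ?_
          rw [Nat.mul_div_cancel' hm]
          exact Nat.ordProj_dvd _ _
    exact key s subset_rfl

end Cfsg.Agent.FG78
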