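import Cfsg.Agent.FG78.PiParts

set_option autoImplicit false

/-!
Counting conjugacy classes of `π`-elements: submultiplicativity over normal subgroups and the
bound by the `π`-part of the group order.
-/

namespace Cfsg.Agent.FG78

variable {G : Type*} [Group G]

/-- Pairs (π-element of the coset of `g`, element of `N` commuting with it). -/
abbrev PairsA (π : Set ℕ) (N : Subgroup G) [N.Normal] (g : G ⧸ N) :=
  {xn : G × G // ((xn.1 : G ⧸ N) = g ∧ IsPiElem π xn.1) ∧ xn.2 ∈ N ∧ Commute xn.1 xn.2}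

/-- Pairs (π-element of `N`, element of the coset of `g` commuting with it). -/
abbrev PairsB (π : Set ℕ) (N : Subgroup G) [N.Normal] (g : G ⧸ N) :=
  {ay : G × G // (ay.1 ∈ N ∧ IsPiElem π ay.1) ∧ (ay.2 : G ⧸ N) = g ∧ Commute ay.1 ay.2}

variable [Finite G] (π : Set ℕ) (N : Subgroup G) [N.Normal]

theorem card_pairsA_le_pairsB (g : G ⧸ N) :
    Nat.card (PairsA π N g) ≤ Nat.card (PairsB π N g) := by
  refine Nat.card_le_card_of_injective (fun p => ⟨(piPart π p.1.2, p.1.1 * piPart' π p.1.2),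
    ⟨piPart_mem π _ p.2.2.1, isPiElem_piPart π _⟩, ?_, ?_⟩) ?_
  · rw [QuotientGroup.mk_mul, (QuotientGroup.eq_one_iff _).mpr (piPart'_mem π _ p.2.2.1), mul_one,
      p.2.1.1]
  · exact (commute_piPart π _ p.2.2.2).symm.mul_right (commute_piPart_piPart' π _)
  · rintro ⟨⟨x, n⟩, ⟨hx1, hx2⟩, hn, hxn⟩ ⟨⟨x', n'⟩, ⟨hx1', hx2'⟩, hn', hxn'⟩ h
    simp only [Subtype.mk.injEq, Prod.mk.injEq] at h ⊢
    obtain ⟨ha, hy⟩ := h
    have u := piPart_unique (commute_piPart' π n hxn) hx2 (isPiElem_piPart' π n) rfl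
    have u' := piPart_unique (commute_piPart' π n' hxn') hx2' (isPiElem_piPart' π n') rfl
    rw [hy] at u
    refine ⟨u.1.symm.trans u'.1, ?_⟩
    rw [← piPart_mul_piPart' π n, ← piPart_mul_piPart' π n', ha, ← u.2, u'.2]

theorem card_pairsB_le (g : G ⧸ N) : Nat.card (PairsB π N g) ≤ Nat.card (PairsA π N 1) := by
  classical
  let c : G → G := fun a =>
    if h : ∃ y : G, (y : G ⧸ N) = g ∧ Commute a y then h.choose else 1
  have hc : ∀ p : PairsB π N g, (c p.1.1 : G ⧸ N) = g ∧ Commute p.1.1 (c p.1.1) := by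
    intro p
    have h : ∃ y : G, (y : G ⧸ N) = g ∧ Commute p.1.1 y := ⟨p.1.2, p.2.2⟩
    simp only [c, dif_pos h]
    exact h.choose_spec
  refine Nat.card_le_card_of_injective (fun p => ⟨(p.1.1, (c p.1.1)⁻¹ * p.1.2),
    ⟨(QuotientGroup.eq_one_iff _).mpr p.2.1.1, p.2.1.2⟩, ?_, ?_⟩) ?_
  · refine QuotientGroup.eq.mp ?_
    rw [(hc p).1, p.2.2.1]
  · exact (hc p).2.inv_right.mul_right p.2.2.2
  · rintro ⟨⟨a, y⟩, h1⟩ ⟨⟨a', y'⟩, h1'⟩ h
    simp only [Subtype.mk.injEq, Prod.mk.injEq] at h ⊢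
    obtain ⟨rfl, h2⟩ := h
    exact ⟨rfl, mul_left_cancel h2⟩

/-- The π-elements in a coset. -/
abbrev CosetPi (g : G ⧸ N) := {x : G // (x : G ⧸ N) = g ∧ IsPiElem π x}

theorem cosetPi_conj_mem (g : G ⧸ N) (n : N) (x : CosetPi π N g) :
    QuotientGroup.mk' N ((n : G) * x.1 * (n : G)⁻¹) = g ∧ IsPiElem π ((n : G) * x.1 * (n : G)⁻¹) := by
  refine ⟨?_, (isPiElem_conj_iff _ _).mpr x.2.2⟩
  rw [map_mul, map_mul, map_inv, QuotientGroup.mk'_apply, QuotientGroup.mk'_apply,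
    (QuotientGroup.eq_one_iff _).mpr n.2, one_mul, inv_one, mul_one, x.2.1]

noncomputable instance cosetPiAction (g : G ⧸ N) : MulAction N (CosetPi π N g) where
  smul n x := ⟨(n : G) * x.1 * (n : G)⁻¹, cosetPi_conj_mem π N g n x⟩
  one_smul x := Subtype.ext (show ((1 : N) : G) * x.1 * ((1 : N) : G)⁻¹ = x.1 by simp)
  mul_smul a b x := Subtype.ext (show ((a * b : N) : G) * x.1 * ((a * b : N) : G)⁻¹ =
    (a : G) * ((b : G) * x.1 * (b : G)⁻¹) * (a : G)⁻¹ by simp [mul_assoc])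

/-- Number of `N`-classes of π-elements in a coset. -/
abbrev CosetOrbits (g : G ⧸ N) := MulAction.orbitRel.Quotient N (CosetPi π N g)

theorem card_cosetOrbits_mul (g : G ⧸ N) :
    Nat.card (CosetOrbits π N g) * Nat.card N = Nat.card (PairsA π N g) := by
  classical
  haveI := Fintype.ofFinite N
  haveI := Fintype.ofFinite (CosetPi π N g)
  haveI := Fintype.ofFinite (CosetOrbits π N g)
  haveI : ∀ n : N, Fintype (MulAction.fixedBy (CosetPi π N g) n) := fun n => Fintype.ofFinite _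
  have e : PairsA π N g ≃ Σ n : N, MulAction.fixedBy (CosetPi π N g) n :=
    { toFun := fun p => ⟨⟨p.1.2, p.2.2.1⟩, ⟨⟨p.1.1, p.2.1⟩, Subtype.ext
        (show p.1.2 * p.1.1 * p.1.2⁻¹ = p.1.1 by rw [← p.2.2.2.eq, mul_inv_cancel_right])⟩⟩
      invFun := fun s => ⟨(s.2.1.1, s.1.1), s.2.1.2, s.1.2,
        (mul_inv_eq_iff_eq_mul.mp (congrArg Subtype.val s.2.2)).symm⟩
      left_inv := fun p => rfl
      right_inv := fun s => rfl }
  rw [Nat.card_congr e, Nat.card_sigma, Nat.card_eq_fintype_card, Nat.card_eq_fintype_card,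
    ← MulAction.sum_card_fixedBy_eq_card_orbits_mul_card_group]
  simp only [Nat.card_eq_fintype_card]

theorem card_cosetOrbits_le (g : G ⧸ N) :
    Nat.card (CosetOrbits π N g) ≤ Nat.card (CosetOrbits π N 1) := by
  refine Nat.le_of_mul_le_mul_right ?_ (Nat.card_pos (α := N))
  rw [card_cosetOrbits_mul, card_cosetOrbits_mul]
  exact (card_pairsA_le_pairsB π N g).trans (card_pairsB_le π N g)

theorem card_cosetOrbits_one_le :
    Nat.card (CosetOrbits π N 1) ≤ Nat.card {C : ConjClasses N // ∀ q : ℕ, q.Prime →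
      (∃ g : N, ConjClasses.mk g = C ∧ q ∣ orderOf g) → q ∈ π} := by
  have hN : ∀ x : CosetPi π N 1, x.1 ∈ N := fun x => (QuotientGroup.eq_one_iff _).mp x.2.1
  refine Nat.card_le_card_of_injective (fun o => ⟨ConjClasses.mk ⟨o.out.1, hN o.out⟩,
    (isPiElem_conjClass_iff π _).mpr
      (o.out.2.2.of_dvd (dvd_of_eq (Subgroup.orderOf_mk o.out.1 (hN o.out))))⟩) ?_
  intro o o' h
  obtain ⟨c, hc⟩ := isConj_iff.mp (ConjClasses.mk_eq_mk_iff_isConj.mp (congrArg Subtype.val h))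
  rw [← Quotient.out_eq o, ← Quotient.out_eq o']
  refine (Quotient.sound ?_).symm
  exact ⟨c, Subtype.ext (congrArg (fun z : N => (z : G)) hc)⟩

/-- `k_π(G) ≤ k_π(N) * k_π(G/N)`. -/
theorem card_piClasses_le_mul :
    Nat.card {C : ConjClasses G // ∀ q : ℕ, q.Prime →
      (∃ g : G, ConjClasses.mk g = C ∧ q ∣ orderOf g) → q ∈ π} ≤
    Nat.card {C : ConjClasses N // ∀ q : ℕ, q.Prime →
      (∃ g : N, ConjClasses.mk g = C ∧ q ∣ orderOf g) → q ∈ π} *
    Nat.card {C : ConjClasses (G ⧸ N) // ∀ q : ℕ, q.Prime →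
      (∃ g : (G ⧸ N), ConjClasses.mk g = C ∧ q ∣ orderOf g) → q ∈ π} := by
  classical
  let KQ := {C : ConjClasses (G ⧸ N) // ∀ q : ℕ, q.Prime →
      (∃ g : (G ⧸ N), ConjClasses.mk g = C ∧ q ∣ orderOf g) → q ∈ π}
  haveI : Fintype KQ := Fintype.ofFinite _
  let F : (Σ D : KQ, CosetOrbits π N (D.1.exists_rep.choose)) → {C : ConjClasses G // ∀ q : ℕ,
      q.Prime → (∃ g : G, ConjClasses.mk g = C ∧ q ∣ orderOf g) → q ∈ π} :=
    fun s => ⟨ConjClasses.mk s.2.out.1, (isPiElem_conjClass_iff π _).mpr s.2.out.2.2⟩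
  have hF : Function.Surjective F := by
    rintro ⟨C, hC⟩
    obtain ⟨x, rfl⟩ := C.exists_rep
    have hx := (isPiElem_conjClass_iff π x).mp hC
    let D : KQ := ⟨ConjClasses.mk (x : G ⧸ N),
      (isPiElem_conjClass_iff π _).mpr (hx.map (QuotientGroup.mk' N))⟩
    obtain ⟨cb, hcb⟩ := isConj_iff.mp
      (ConjClasses.mk_eq_mk_iff_isConj.mp D.1.exists_rep.choose_spec.symm)
    obtain ⟨c, rfl⟩ := QuotientGroup.mk_surjective cb
    let y : CosetPi π N (D.1.exists_rep.choose) :=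
      ⟨c * x * c⁻¹, by simpa using hcb, (isPiElem_conj_iff _ _).mpr hx⟩
    refine ⟨⟨D, ⟦y⟧⟩, Subtype.ext ?_⟩
    obtain ⟨n, hn⟩ := Quotient.mk_out (s := MulAction.orbitRel N _) y
    have hn' : (n : G) * (c * x * c⁻¹) * (n : G)⁻¹ = (⟦y⟧ : CosetOrbits π N _).out.1 :=
      congrArg Subtype.val hn
    refine ConjClasses.mk_eq_mk_iff_isConj.mpr (IsConj.symm (isConj_iff.mpr ⟨(n : G) * c, ?_⟩))
    rw [← hn']; simp [mul_assoc]
  refine (Nat.card_le_card_of_surjective F hF).trans ?_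
  rw [Nat.card_sigma]
  refine (Finset.sum_le_card_nsmul _ _ _ fun D _ =>
    (card_cosetOrbits_le π N _).trans (card_cosetOrbits_one_le π N)).trans ?_
  rw [smul_eq_mul, mul_comm, Finset.card_univ, Nat.card_eq_fintype_card (α := KQ)]

end Cfsg.Agent.FG78
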