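import Mathlib
import Cfsg.Prelude.Def_SolvableStructure
import Cfsg.Prelude.Def_Solvable
import Cfsg.Agent.FG78.CosseyWang
import Cfsg.Agent.FG78.Basic
import Cfsg.Agent.Lib.Fitting
import Cfsg.Agent.Lib.Fitting.Minimal
import Cfsg.Agent.Lib.Solvable.Supersolvable

set_option autoImplicit false

/-! Groups with square-free class sizes (Chillag–Herzog). -/

namespace Cfsg.Agent.FG78.SqFree

open scoped Pointwise commutatorElement

/-- All class sizes are square-free. -/
def SF (G : Type*) [Group G] : Prop :=
  ∀ x : G, Squarefree (Subgroup.centralizer ({x} : Set G)).index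

variable {G : Type*} [Group G] [Finite G]

theorem SF.normal (h : SF G) (N : Subgroup G) [N.Normal] : SF N := fun x =>
  (h x).squarefree_of_dvd (CW.index_centralizer_normal_dvd N x)

theorem SF.quotient (h : SF G) (N : Subgroup G) [N.Normal] : SF (G ⧸ N) := by
  intro x
  obtain ⟨x, rfl⟩ := QuotientGroup.mk'_surjective N x
  exact (h x).squarefree_of_dvd (CW.index_centralizer_quotient_dvd N x)

omit [Finite G] in
theorem SF.classBd (h : SF G) {p : ℕ} (hp : p.Prime) : CW.ClassBd p G := fun x hd =>
  hp.ne_one (Nat.isUnit_iff.mp (h x p (by rwa [← pow_two])))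

theorem eq_one_or_prime {p m : ℕ} (hp : p.Prime) (hm : Squarefree m) {k : ℕ} (hk : m ∣ p ^ k) :
    m ∣ p := by
  obtain ⟨j, -, rfl⟩ := (Nat.dvd_prime_pow hp).mp hk
  rcases Nat.lt_or_ge j 2 with hj | hj
  · interval_cases j <;> simp
  · exact absurd (Nat.isUnit_iff.mp (hm p (by rw [← pow_two]; exact pow_dvd_pow p hj))) hp.ne_one

variable {p : ℕ} [hp : Fact p.Prime]

theorem relIndex_dvd (h : SF G) (V : Subgroup G) [V.Normal] (hV : IsPGroup p V) (g : G) :
    (Subgroup.centralizer ({g} : Set G)).relIndex V ∣ p := by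
  obtain ⟨k, hk⟩ := hV.exists_card_eq
  exact eq_one_or_prime hp.out ((h g).squarefree_of_dvd (CW.relIndex_dvd_of_normal V _))
    (hk ▸ Subgroup.index_dvd_card _)

/-- The commutator map of `g` on an abelian normal subgroup. -/
def comMap (V : Subgroup G) [V.Normal] [IsMulCommutative V] (g : G) : V →* V where
  toFun v := ⟨g * v * g⁻¹ * (v : G)⁻¹,
    mul_mem (Subgroup.Normal.conj_mem inferInstance _ v.2 g) (inv_mem v.2)⟩
  map_one' := Subtype.ext (by simp)
  map_mul' a b := by
    refine Subtype.ext ?_
    have hc : Commute (g * b * g⁻¹ * (b : G)⁻¹) ((a : G)⁻¹) :=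
      congrArg Subtype.val (mul_comm' (⟨_, mul_mem (Subgroup.Normal.conj_mem inferInstance _ b.2 g)
        (inv_mem b.2)⟩ : V) a⁻¹)
    show g * ((a : G) * b) * g⁻¹ * ((a : G) * b)⁻¹ =
      (g * a * g⁻¹ * (a : G)⁻¹) * (g * b * g⁻¹ * (b : G)⁻¹)
    calc g * ((a : G) * b) * g⁻¹ * ((a : G) * b)⁻¹
        = (g * a * g⁻¹) * ((g * b * g⁻¹ * (b : G)⁻¹) * (a : G)⁻¹) := by group
      _ = (g * a * g⁻¹) * ((a : G)⁻¹ * (g * b * g⁻¹ * (b : G)⁻¹)) := by rw [hc.eq]
      _ = _ := by group

omit [Finite G] in
theorem coe_comMap (V : Subgroup G) [V.Normal] [IsMulCommutative V] (g : G) (v : V) :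
    (comMap V g v : G) = g * v * g⁻¹ * (v : G)⁻¹ := rfl

omit [Finite G] in
theorem mem_ker_comMap (V : Subgroup G) [V.Normal] [IsMulCommutative V] (g : G) (v : V) :
    v ∈ (comMap V g).ker ↔ Commute g (v : G) := by
  rw [MonoidHom.mem_ker, Subtype.ext_iff, coe_comMap, Subgroup.coe_one, mul_inv_eq_one,
    mul_inv_eq_iff_eq_mul]
  rfl

theorem card_range_comMap (h : SF G) (V : Subgroup G) [V.Normal] [IsMulCommutative V]
    (hV : IsPGroup p V) (g : G) : Nat.card (comMap V g).range ∣ p := by
  rw [← Subgroup.index_ker]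
  convert relIndex_dvd h V hV g using 1
  refine congrArg Subgroup.index ?_
  ext v
  rw [mem_ker_comMap, Subgroup.mem_subgroupOf, mem_cent_iff]
  exact ⟨Commute.symm, Commute.symm⟩

omit [Finite G] in
theorem range_eq_of_mem {V : Type*} [Group V] [Finite V] {I : Subgroup V} (hI : Nat.card I ∣ p)
    {u : V} (hu : u ∈ I) (hu1 : u ≠ 1) : Subgroup.zpowers u = I := by
  refine Subgroup.eq_of_le_of_card_ge ((Subgroup.zpowers_le).mpr hu) ?_
  rcases hp.out.eq_one_or_self_of_dvd _ hI with h1 | h1
  · exact absurd (Subgroup.mem_bot.mp (Subgroup.eq_bot_of_card_eq I h1 ▸ hu)) hu1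
  · have h2 : Nat.card (Subgroup.zpowers u) ∣ p :=
      (Subgroup.card_dvd_of_le ((Subgroup.zpowers_le).mpr hu)).trans hI
    rcases hp.out.eq_one_or_self_of_dvd _ h2 with h3 | h3
    · rw [Nat.card_zpowers, orderOf_eq_one_iff] at h3; exact absurd h3 hu1
    · rw [h1, h3]

/-- Two such maps share the kernel or the image. -/
theorem ker_eq_or_range_eq (h : SF G) (V : Subgroup G) [V.Normal] [IsMulCommutative V]
    (hV : IsPGroup p V) (g k : G) (hg : (comMap V g).ker ≠ ⊤) (hk : (comMap V k).ker ≠ ⊤) :
    (comMap V g).ker = (comMap V k).ker ∨ (comMap V g).range = (comMap V k).range := by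
  by_contra hne
  rw [not_or] at hne
  obtain ⟨hne1, hne2⟩ := hne
  have hle : ∀ a b : G, (comMap V a).ker ≠ ⊤ → (comMap V b).ker ≠ ⊤ →
      (comMap V a).ker ≤ (comMap V b).ker → (comMap V a).ker = (comMap V b).ker := by
    intro a b _ hb hab
    refine Subgroup.eq_of_le_of_card_ge hab ?_
    have h1 : (comMap V a).ker.index ∣ p := by
      rw [Subgroup.index_ker]; exact card_range_comMap h V hV a
    have h2 : (comMap V b).ker.index ∣ p := by
      rw [Subgroup.index_ker]; exact card_range_comMap h V hV b
    have h3 : (comMap V b).ker.index = p := (hp.out.eq_one_or_self_of_dvd _ h2).resolve_left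
      fun e => hb (Subgroup.index_eq_one.mp e)
    have h4 := Subgroup.card_mul_index (comMap V a).ker
    rw [← Subgroup.card_mul_index (comMap V b).ker, h3] at h4
    have h5 := Nat.le_of_dvd hp.out.pos h1
    have h6 := Nat.le_of_mul_le_mul_right
      (h4 ▸ Nat.mul_le_mul_left (Nat.card (comMap V a).ker) h5) hp.out.pos
    exact h6
  obtain ⟨v, hv, hv'⟩ : ∃ v, v ∈ (comMap V k).ker ∧ v ∉ (comMap V g).ker := by
    by_contra! hall
    exact hne1 (hle k g hk hg hall).symm
  obtain ⟨w, hw, hw'⟩ : ∃ w, w ∈ (comMap V g).ker ∧ w ∉ (comMap V k).ker := by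
    by_contra! hall
    exact hne1 (hle g k hg hk hall)
  have hcomp : ∀ x : V, (comMap V (g * k) x : G) =
      g * (comMap V k x : G) * g⁻¹ * (comMap V g x : G) := by
    intro x
    simp only [coe_comMap]
    group
  have e1 : comMap V (g * k) v = comMap V g v := by
    refine Subtype.ext ?_
    rw [hcomp, MonoidHom.mem_ker.mp hv, Subgroup.coe_one, mul_one, mul_inv_cancel, one_mul]
  have hI : (comMap V g).range = (comMap V (g * k)).range := by
    have hu1 : comMap V g v ≠ 1 := fun e => hv' (MonoidHom.mem_ker.mpr e)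
    rw [← range_eq_of_mem (card_range_comMap h V hV g) ⟨v, rfl⟩ hu1]
    exact range_eq_of_mem (card_range_comMap h V hV _) ⟨v, e1⟩ hu1
  set u := comMap V k w with hu
  have hu1 : u ≠ 1 := fun e => hw' (MonoidHom.mem_ker.mpr e)
  have e2 : (comMap V (g * k) w : G) = g * (u : G) * g⁻¹ := by
    rw [hcomp, MonoidHom.mem_ker.mp hw, Subgroup.coe_one, mul_one]
  have huI : u ∈ (comMap V g).range := by
    have h1 : comMap V (g * k) w ∈ (comMap V g).range := hI ▸ ⟨w, rfl⟩
    have e3 : u = (comMap V g u)⁻¹ * comMap V (g * k) w := by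
      refine Subtype.ext ?_
      rw [Subgroup.coe_mul, Subgroup.coe_inv, e2, coe_comMap V g u]
      clear_value u
      group
    rw [e3]
    exact mul_mem (inv_mem ⟨u, rfl⟩) h1
  exact hne2 ((range_eq_of_mem (card_range_comMap h V hV g) huI hu1).symm.trans
    (range_eq_of_mem (card_range_comMap h V hV k) ⟨w, rfl⟩ hu1))

/-- Minimal normal abelian `p`-subgroups have order `p`. -/
theorem card_minNormal (h : SF G) {V : Subgroup G} (hmin : Fitting.IsMinNormal V) [V.Normal]
    [IsMulCommutative V] (hV : IsPGroup p V) : Nat.card V = p := by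
  have hne : Nat.card V ≠ 1 := fun e => hmin.2.1 (Subgroup.eq_bot_of_card_eq V e)
  suffices hd : Nat.card V ∣ p from (hp.out.eq_one_or_self_of_dvd _ hd).resolve_left hne
  by_cases hall : ∀ g : G, (comMap V g).ker = ⊤
  · obtain ⟨v, hv1⟩ : ∃ v : V, v ≠ 1 := by
      haveI : Nontrivial V := (Subgroup.nontrivial_iff_ne_bot V).mpr hmin.2.1
      exact exists_ne 1
    have hcard : ∃ k, Nat.card V = p ^ k := hV.exists_card_eq
    obtain ⟨w, hw⟩ : ∃ w : V, orderOf w = p :=
      exists_prime_orderOf_dvd_card' p (by
        obtain ⟨k, hk⟩ := hcard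
        rw [hk]
        exact dvd_pow_self p (fun e => hne (by rw [hk, e, pow_zero])))
    have hn : (Subgroup.zpowers (w : G)).Normal := ⟨fun a ha g => by
      obtain ⟨i, rfl⟩ := Subgroup.mem_zpowers_iff.mp ha
      have hc : Commute g (((w ^ i : V) : G)) := (mem_ker_comMap V g _).mp (hall g ▸ Subgroup.mem_top _)
      rw [Subgroup.coe_zpow] at hc
      rw [hc.eq, mul_inv_cancel_right]
      exact ha⟩
    rcases hmin.2.2 _ hn (Subgroup.zpowers_le.mpr w.2) with e | e
    · rw [Subgroup.zpowers_eq_bot, ← Subgroup.coe_one V, Subtype.coe_inj, ← orderOf_eq_one_iff,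
        hw] at e
      exact absurd e hp.out.ne_one
    · rw [← e, Nat.card_zpowers, Subgroup.orderOf_coe, hw]
  · rw [not_forall] at hall
    obtain ⟨g, hg⟩ := hall
    by_cases hsame : ∀ k : G, (comMap V g).ker ≤ (comMap V k).ker
    · -- common kernel
      have hn : ((comMap V g).ker.map V.subtype).Normal := ⟨fun a ha k => by
        obtain ⟨v, hv, rfl⟩ := ha
        have hc : Commute k (v : G) := (mem_ker_comMap V k v).mp (hsame k hv)
        show k * (v : G) * k⁻¹ ∈ _
        rw [hc.eq, mul_inv_cancel_right]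
        exact ⟨v, hv, rfl⟩⟩
      rcases hmin.2.2 _ hn (Subgroup.map_subtype_le _) with e | e
      · rw [Subgroup.map_eq_bot_iff_of_injective _ V.subtype_injective] at e
        have := card_range_comMap h V hV g
        rw [← Subgroup.index_ker, e, Subgroup.index_bot] at this
        exact this
      · refine absurd (Subgroup.eq_top_of_le_card _ (le_of_eq ?_)) hg
        conv_lhs => rw [← e]
        rw [Subgroup.card_map_of_injective V.subtype_injective]
    · -- common image
      rw [not_forall] at hsame
      obtain ⟨k, hk⟩ := hsame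
      have hk' : (comMap V k).ker ≠ ⊤ := fun e => hk (e ▸ le_top)
      have hne : (comMap V g).ker ≠ (comMap V k).ker := fun e => hk e.le
      have hgk := (ker_eq_or_range_eq h V hV g k hg hk').resolve_left hne
      have hI : ∀ a : G, (comMap V a).range ≤ (comMap V g).range := by
        intro a
        by_cases ha : (comMap V a).ker = ⊤
        · rintro _ ⟨v, rfl⟩
          rw [MonoidHom.mem_ker.mp (ha ▸ Subgroup.mem_top v)]
          exact one_mem _
        · rcases ker_eq_or_range_eq h V hV a g ha hg with e | e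
          · rw [hgk]
            exact ((ker_eq_or_range_eq h V hV a k ha hk').resolve_left
              (fun e' => hne (e.symm.trans e'))).le
          · exact e.le
      have hn : ((comMap V g).range.map V.subtype).Normal := ⟨fun a ha c => by
        obtain ⟨v, hv, rfl⟩ := ha
        refine ⟨comMap V c v * v, mul_mem (hI c ⟨v, rfl⟩) hv, ?_⟩
        show ((comMap V c v : G)) * (v : G) = c * (v : G) * c⁻¹
        rw [coe_comMap, inv_mul_cancel_right]⟩
      rcases hmin.2.2 _ hn (Subgroup.map_subtype_le _) with e | e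
      · rw [Subgroup.map_eq_bot_iff_of_injective _ V.subtype_injective, MonoidHom.range_eq_bot_iff] at e
        exact absurd (MonoidHom.ker_eq_top_iff.mpr e) hg
      · have := card_range_comMap h V hV g
        rwa [← Subgroup.card_map_of_injective V.subtype_injective, e] at this

universe u

omit hp in
theorem isSolvable (G : Type u) [Group G] [Finite G] (h : SF G) : Group.IsSolvable G := by
  suffices H : ∀ (m : ℕ) (G : Type u) [Group G] [Finite G], Nat.card G = m → SF G →
      Group.IsSolvable G from H _ G rfl h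
  intro m
  induction m using Nat.strong_induction_on with
  | _ m ih =>
    intro G _ _ hm h
    rcases Nat.eq_or_lt_of_le (Nat.one_le_iff_ne_zero.mpr (Nat.card_pos (α := G)).ne') with h1 | h1
    · haveI : Subsingleton G := (Nat.card_eq_one_iff_unique.mp h1.symm).1
      infer_instance
    · set p := (Nat.card G).minFac with hpdef
      have hpp : p.Prime := Nat.minFac_prime h1.ne'
      haveI := Fact.mk hpp
      obtain ⟨P, N, hN, hNP⟩ := CW.hasNormalPComplement_of_classBd G
        (CW.pCoprime_of_smallest (fun r hr hd => Nat.minFac_le_of_dvd hr.two_le hd) hpp.two_le)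
        (h.classBd hpp)
      have hlt : Nat.card N < Nat.card G := by
        rw [← hNP.card_mul]
        refine lt_mul_of_one_lt_right Nat.card_pos ?_
        rw [Subgroup.one_lt_card_iff_ne_bot]
        exact P.ne_bot_of_dvd_card (Nat.minFac_dvd _)
      haveI := ih _ (hm ▸ hlt) N rfl (h.normal N)
      haveI : Group.IsSolvable (G ⧸ N) := by
        have hq : IsPGroup p (G ⧸ N) := by
          obtain ⟨k, hk⟩ := IsPGroup.iff_card.mp P.2
          refine IsPGroup.of_card (n := k) ?_
          rw [← Subgroup.index_eq_card, hNP.symm.index_eq_card, hk]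
        haveI := hq.isNilpotent
        infer_instance
      exact (Group.isSolvable_iff_subgroup_quotient N).mpr ⟨inferInstance, inferInstance⟩

omit hp in
theorem supersolvable (G : Type u) [Group G] [Finite G] (h : SF G) :
    Cfsg.IsSupersolvable G ∧ Group.IsNilpotent (commutator G) := by
  suffices H : ∀ (m : ℕ) (G : Type u) [Group G] [Finite G], Nat.card G = m → SF G →
      Cfsg.IsSupersolvable G ∧ Group.IsNilpotent (commutator G) from H _ G rfl h
  intro m
  induction m using Nat.strong_induction_on with
  | _ m ih =>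
    intro G _ _ hm h
    rcases subsingleton_or_nontrivial G with hs | hn
    · exact ⟨Cfsg.Agent.Solvable.isSupersolvable_of_subsingleton, inferInstance⟩
    haveI := isSolvable G h
    obtain ⟨V, hV⟩ := Fitting.exists_isMinNormal (G := G)
    haveI := hV.1
    haveI : IsMulCommutative V := hV.isMulCommutative
    obtain ⟨p, hp, hVp⟩ := hV.exists_isElementaryAbelian_of_isSolvable
    haveI := Fact.mk hp
    have hc := card_minNormal h hV (Fitting.isPGroup_of_isElementaryAbelian hVp)
    haveI : IsCyclic V := isCyclic_of_prime_card hc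
    have hlt : Nat.card (G ⧸ V) < Nat.card G := by
      rw [Subgroup.card_eq_card_quotient_mul_card_subgroup V, hc]
      exact lt_mul_of_one_lt_right Nat.card_pos hp.one_lt
    obtain ⟨hss, hnil⟩ := ih _ (hm ▸ hlt) (G ⧸ V) rfl (h.quotient V)
    refine ⟨Cfsg.Agent.Solvable.isSupersolvable_of_cyclic_normal V hss, ?_⟩
    let f : commutator G →* commutator (G ⧸ V) :=
      ((QuotientGroup.mk' V).comp (commutator G).subtype).codRestrict _ fun x => by
        have h1 : ((commutator G).map (QuotientGroup.mk' V)) ≤ commutator (G ⧸ V) := by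
          rw [commutator_def, commutator_def, Subgroup.map_commutator]
          exact Subgroup.commutator_mono le_top le_top
        exact h1 ⟨x, x.2, rfl⟩
    haveI := hnil
    refine isNilpotent_of_ker_le_center f (fun x hx => ?_)
    have hxV : (x : G) ∈ V := (QuotientGroup.eq_one_iff _).mp (congrArg Subtype.val hx)
    rw [Subgroup.mem_center_iff]
    intro y
    refine Subtype.ext ?_
    have hle : commutator G ≤ Subgroup.centralizer (V : Set G) := by
      rw [commutator_def, Subgroup.commutator_le]
      intro a _ b _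
      rw [Subgroup.mem_centralizer_iff]
      intro v hv
      have key : MulAut.conjNormal (H := V) ⁅a, b⁆ = 1 := by
        rw [map_commutatorElement, commutatorElement_eq_one_iff_mul_comm]
        exact (IsCyclic.mulAutMulEquiv V).injective (by rw [map_mul, map_mul, mul_comm])
      have := congrArg Subtype.val (DFunLike.congr_fun key ⟨v, hv⟩)
      rw [MulAut.conjNormal_apply, MulAut.one_apply] at this
      exact (mul_inv_eq_iff_eq_mul.mp this).symm
    exact (Subgroup.mem_centralizer_iff.mp (hle y.2) _ hxV).symm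

end Cfsg.Agent.FG78.SqFree
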