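import Mathlib
import Cfsg.Agent.FG78.SquareFree
import Cfsg.Agent.Lib.Transfer.Hall

set_option autoImplicit false

/-! Derived subgroup and Fitting subgroup of a group with square-free class sizes. -/

namespace Cfsg.Agent.FG78.SqFree

open scoped Pointwise commutatorElement

variable {G : Type*} [Group G] [Finite G] {p : ℕ} [hp : Fact p.Prime]

omit [Finite G] hp in
/-- Two proper subgroups do not cover a third. -/
theorem exists_not_mem_two {W A B : Subgroup G} (hA : ¬ W ≤ A) (hB : ¬ W ≤ B) :
    ∃ x ∈ W, x ∉ A ∧ x ∉ B := by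
  obtain ⟨a, haW, ha⟩ := SetLike.not_le_iff_exists.mp hA
  obtain ⟨b, hbW, hb⟩ := SetLike.not_le_iff_exists.mp hB
  by_cases ha' : a ∈ B
  · by_cases hb' : b ∈ A
    · refine ⟨a * b, mul_mem haW hbW, fun h => ha ?_, fun h => hb ?_⟩
      · simpa using mul_mem h (inv_mem hb')
      · simpa using mul_mem (inv_mem ha') h
    · exact ⟨b, hbW, hb', hb⟩
  · exact ⟨a, haW, ha, ha'⟩

omit [Finite G] in
/-- Coprime action: a fixed displacement is trivial. -/
theorem eq_one_of_fixed_displacement {h v d : G} (he : h * v * h⁻¹ = d * v) (hc : Commute h d)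
    (hd : ∃ k : ℕ, orderOf d = p ^ k) (hh : Nat.Coprime (orderOf h) p) : d = 1 := by
  have key : ∀ k : ℕ, h ^ k * v * (h ^ k)⁻¹ = d ^ k * v := by
    intro k
    induction k with
    | zero => simp
    | succ k ih =>
      calc h ^ (k + 1) * v * (h ^ (k + 1))⁻¹ = h * (h ^ k * v * (h ^ k)⁻¹) * h⁻¹ := by
            rw [pow_succ']; group
        _ = h * d ^ k * h⁻¹ * (h * v * h⁻¹) := by rw [ih]; group
        _ = d ^ (k + 1) * v := by
            rw [he, (hc.pow_right k).eq, mul_inv_cancel_right, pow_succ, mul_assoc]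
  have h1 := key (orderOf h)
  rw [pow_orderOf_eq_one, one_mul, inv_one, mul_one, right_eq_mul] at h1
  obtain ⟨k, hk⟩ := hd
  exact orderOf_eq_one_iff.mp
    (Nat.eq_one_of_dvd_coprimes (hh.symm.pow_left k) (dvd_of_eq hk) (orderOf_dvd_of_pow_eq_one h1))

theorem coprime_of_mem_compl {H P : Subgroup G} {h : G} (hc : (Nat.card H).Coprime (Nat.card P))
    (hP : p ∣ Nat.card P) (hh : h ∈ H) : Nat.Coprime (orderOf h) p :=
  (hc.coprime_dvd_left (Subgroup.orderOf_dvd_natCard H hh)).coprime_dvd_right hP

/-- A subgroup of index dividing `p` in a `p`-group contains the derived subgroup. -/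
theorem commutator_le_of_index_dvd {Q : Type*} [Group Q] [Finite Q] (hQ : IsPGroup p Q)
    {M : Subgroup Q} (hM : M.index ∣ p) : commutator Q ≤ M := by
  rcases hp.out.eq_one_or_self_of_dvd _ hM with h1 | h1
  · rw [Subgroup.index_eq_one.mp h1]; exact le_top
  · obtain ⟨k, hk⟩ := hQ.exists_card_eq
    have hk0 : k ≠ 0 := fun e => hp.out.ne_one (Nat.dvd_one.mp (h1 ▸ (by
      have := M.index_dvd_card
      rwa [hk, e, pow_zero] at this)))
    haveI : M.Normal := Subgroup.normal_of_index_eq_minFac_card (by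
      rw [hk, Nat.pow_minFac hk0, hp.out.minFac_eq, h1])
    haveI : IsCyclic (Q ⧸ M) := isCyclic_of_prime_card (Subgroup.index_eq_card M ▸ h1)
    letI := IsCyclic.commGroup (α := Q ⧸ M)
    rw [commutator_def, Subgroup.commutator_le]
    intro a _ b _
    refine (QuotientGroup.eq_one_iff _).mp ?_
    exact (map_commutatorElement (QuotientGroup.mk' M) a b).trans
      (commutatorElement_eq_one_iff_mul_comm.mpr (mul_comm _ _))

/-- A `p`-group with square-free class sizes has derived subgroup of order at most `p`. -/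
theorem card_commutator_pGroup {Q : Type*} [Group Q] [Finite Q] (h : SF Q) (hQ : IsPGroup p Q) :
    Nat.card (commutator Q) ∣ p := by
  have hidx : ∀ x : Q, (Subgroup.centralizer ({x} : Set Q)).index ∣ p := fun x => by
    obtain ⟨k, hk⟩ := hQ.exists_card_eq
    exact eq_one_or_prime hp.out (h x) (hk ▸ Subgroup.index_dvd_card _)
  have hcen : ∀ c ∈ commutator Q, ∀ x : Q, Commute c x := fun c hc x =>
    mem_cent_iff.mp (commutator_le_of_index_dvd hQ (hidx x) hc)
  let f : Q → (Q →* Q) := fun x =>
    { toFun := fun y => ⁅x, y⁆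
      map_one' := by simp [commutatorElement_def]
      map_mul' := fun a b => by
        have hb : ⁅x, b⁆ ∈ commutator Q :=
          commutator_def Q ▸ Subgroup.commutator_mem_commutator trivial trivial
        calc ⁅x, a * b⁆ = ⁅x, a⁆ * (a * ⁅x, b⁆ * a⁻¹) := by
              simp only [commutatorElement_def]; group
          _ = _ := by rw [← (hcen _ hb a).eq, mul_inv_cancel_right] }
  have hker : ∀ x y : Q, y ∈ (f x).ker ↔ Commute y x := fun x y =>
    commutatorElement_eq_one_iff_commute.trans ⟨Commute.symm, Commute.symm⟩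
  have hcard : ∀ x : Q, Nat.card (f x).range ∣ p := fun x => by
    rw [← Subgroup.index_ker]
    convert hidx x using 2
    ext y
    rw [hker, mem_cent_iff]
  by_cases hab : ∀ a b : Q, Commute a b
  · have : commutator Q = ⊥ := by
      rw [commutator_def, eq_bot_iff, Subgroup.commutator_le]
      exact fun a _ b _ => Subgroup.mem_bot.mpr (commutatorElement_eq_one_iff_commute.mpr (hab a b))
    rw [this, Subgroup.card_bot]
    exact one_dvd p
  · simp only [not_forall] at hab
    obtain ⟨a0, b0, hab0⟩ := hab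
    have hle : commutator Q ≤ (f a0).range := by
      rw [commutator_def, Subgroup.commutator_le]
      intro a _ b _
      by_cases hc : Commute a b
      · rw [commutatorElement_eq_one_iff_commute.mpr hc]; exact one_mem _
      · obtain ⟨z, -, hza, hz0⟩ := exists_not_mem_two (W := ⊤) (A := (f a).ker) (B := (f a0).ker)
          (fun hle => hc ((hker a b).mp (hle trivial)).symm)
          (fun hle => hab0 ((hker a0 b0).mp (hle trivial)).symm)
        have hne1 : ⁅a, z⁆ ≠ 1 := fun e => hza e
        have hne0 : ⁅a0, z⁆ ≠ 1 := fun e => hz0 e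
        have e1 : (f a).range = (f z).range := by
          refine (range_eq_of_mem (hcard a) ⟨z, rfl⟩ hne1).symm.trans (range_eq_of_mem (hcard z) ?_ hne1)
          rw [← inv_mem_iff]
          exact ⟨a, (commutatorElement_inv a z).symm⟩
        have e0 : (f a0).range = (f z).range := by
          refine (range_eq_of_mem (hcard a0) ⟨z, rfl⟩ hne0).symm.trans (range_eq_of_mem (hcard z) ?_ hne0)
          rw [← inv_mem_iff]
          exact ⟨a0, (commutatorElement_inv a0 z).symm⟩
        rw [e0, ← e1]
        exact ⟨b, rfl⟩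
    exact (Subgroup.card_dvd_of_le hle).trans (hcard a0)

/-- The base case: no non-trivial normal `p'`-subgroup. -/
theorem card_commutator_dvd_of_reduced (h : SF G)
    (hred : ∀ N : Subgroup G, N.Normal → ¬ p ∣ Nat.card N → N = ⊥) :
    Nat.card (commutator G) ∣ p := by
  obtain ⟨P⟩ := (inferInstance : Nonempty (Sylow p G))
  have hnil := (supersolvable G h).2
  have hle : commutator G ≤ Cfsg.pCore p G := by
    by_contra hne
    obtain ⟨q, R, hq, -, hRn, hRq, -, hR⟩ := exists_normal_pGroup_not_le hnil hne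
    haveI := Fact.mk hq
    by_cases hqp : q = p
    · subst hqp
      exact hR (Fitting.le_pCore hRn hRq)
    · refine hR (hred R hRn (fun hd => ?_) ▸ bot_le)
      obtain ⟨k, hk⟩ := hRq.exists_card_eq
      rw [hk] at hd
      exact hqp ((Nat.prime_dvd_prime_iff_eq hp.out hq).mp (hp.out.dvd_of_dvd_pow hd)).symm
  have hGP : commutator G ≤ (P : Subgroup G) := hle.trans (Fitting.pCore_le_sylow P)
  haveI hPn : (P : Subgroup G).Normal := Subgroup.Normal.of_commutator_le _ hGP
  obtain ⟨H, hH⟩ := Subgroup.exists_left_complement'_of_coprime P.card_coprime_index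
  have hcop : (Nat.card H).Coprime (Nat.card (P : Subgroup G)) := by
    rw [← hH.index_eq_card]; exact P.card_coprime_index.symm
  have hHab : ∀ a ∈ H, ∀ b ∈ H, Commute a b := fun a ha b hb => by
    refine commutatorElement_eq_one_iff_commute.mp (Subgroup.mem_bot.mp ?_)
    rw [← disjoint_iff.mp hH.disjoint]
    exact ⟨H.mul_mem (H.mul_mem (H.mul_mem ha hb) (H.inv_mem ha)) (H.inv_mem hb),
      hGP (commutator_def G ▸ Subgroup.commutator_mem_commutator trivial trivial)⟩
  by_cases hall : ∀ c ∈ H, ∀ v ∈ (P : Subgroup G), Commute c v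
  · have hHn : H.Normal := by
      rw [← Subgroup.normalizer_eq_top_iff, eq_top_iff, ← hH.sup_eq_top, sup_le_iff]
      refine ⟨Subgroup.le_normalizer, fun v hv => Subgroup.centralizer_le_normalizer _ ?_⟩
      exact Subgroup.mem_centralizer_iff.mpr fun c hc => (hall c hc v hv).eq
    have hHbot : H = ⊥ := hred H hHn fun hd => by
      rw [← hH.index_eq_card] at hd
      exact P.not_dvd_index hd
    have hPtop : (P : Subgroup G) = ⊤ := by
      have := hH.sup_eq_top
      rwa [hHbot, bot_sup_eq] at this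
    exact card_commutator_pGroup h (P.2.of_equiv ((MulEquiv.subgroupCongr hPtop).trans
      Subgroup.topEquiv))
  simp only [not_forall] at hall
  obtain ⟨h0, hh0, v0, hv0, hnc⟩ := hall
  have hpP : p ∣ Nat.card (P : Subgroup G) := by
    obtain ⟨k, hk⟩ := P.2.exists_card_eq
    rw [hk]
    refine dvd_pow_self p fun e => hnc ?_
    rw [e, pow_zero] at hk
    rw [(Subgroup.eq_bot_of_card_eq _ hk), Subgroup.mem_bot] at hv0
    rw [hv0]; exact Commute.one_right _
  have hfix : ∀ {v d : G}, h0 * v * h0⁻¹ = d * v → Commute h0 d → d ∈ (P : Subgroup G) → d = 1 :=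
    fun he hc hd => eq_one_of_fixed_displacement (p := p) he hc (orderOf_eq_prime_pow_of_mem P.2 hd)
      (coprime_of_mem_compl hcop hpP hh0)
  set M := (P : Subgroup G) ⊓ Subgroup.centralizer ({h0} : Set G) with hMdef
  have hM : ∀ {v : G}, v ∈ M ↔ v ∈ (P : Subgroup G) ∧ Commute v h0 := by
    intro v
    rw [hMdef, Subgroup.mem_inf, mem_cent_iff]
  have hMidx : (Subgroup.centralizer ({h0} : Set G)).relIndex (P : Subgroup G) = p :=
    (hp.out.eq_one_or_self_of_dvd _ (relIndex_dvd h _ P.2 h0)).resolve_left fun e =>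
      hnc (mem_cent_iff.mp (Subgroup.relIndex_eq_one.mp e hv0)).symm
  have hMnorm : ∀ v ∈ (P : Subgroup G), ∀ m ∈ M, v * m * v⁻¹ ∈ M := by
    intro v hv m hm
    have hn : ((Subgroup.centralizer ({h0} : Set G)).subgroupOf (P : Subgroup G)).Normal := by
      obtain ⟨k, hk⟩ := P.2.exists_card_eq
      refine Subgroup.normal_of_index_eq_minFac_card ?_
      have hk0 : k ≠ 0 := fun e => hp.out.ne_one (Nat.dvd_one.mp (by
        rwa [hk, e, pow_zero] at hpP))
      rw [hk, Nat.pow_minFac hk0, hp.out.minFac_eq]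
      exact hMidx
    exact ⟨Subgroup.mul_mem _ (Subgroup.mul_mem _ hv hm.1) (Subgroup.inv_mem _ hv),
      hn.conj_mem ⟨m, hm.1⟩ hm.2 ⟨v, hv⟩⟩
  have hMab : ∀ a ∈ M, ∀ b ∈ M, Commute a b := by
    intro a ha b hb
    obtain ⟨haP, hac⟩ := hM.mp ha
    have hcopp : IsPiElem ({p}ᶜ : Set ℕ) h0 :=
      isPiElem_compl_singleton_iff.mpr
        (hp.out.coprime_iff_not_dvd.mp (coprime_of_mem_compl hcop hpP hh0).symm)
    obtain ⟨k, hk⟩ := orderOf_eq_prime_pow_of_mem P.2 haP
    have hC := centralizer_mul_eq {p} hac (isPiElem_singleton_of_pow hp.out hk) hcopp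
    have h1 := relIndex_dvd h (P : Subgroup G) P.2 (a * h0)
    rw [hC] at h1
    set A := Subgroup.centralizer ({a} : Set G)
    set B := Subgroup.centralizer ({h0} : Set G)
    have h2 : (A ⊓ B).relIndex (B ⊓ (P : Subgroup G)) * B.relIndex (P : Subgroup G) =
        (A ⊓ B).relIndex (P : Subgroup G) := by
      rw [← Subgroup.inf_relIndex_right B, ← Subgroup.inf_relIndex_right (A ⊓ B) (P : Subgroup G),
        ← Subgroup.inf_relIndex_right (A ⊓ B) (B ⊓ (P : Subgroup G))]
      rw [show A ⊓ B ⊓ (B ⊓ (P : Subgroup G)) = A ⊓ B ⊓ (P : Subgroup G) by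
        rw [← inf_assoc, inf_assoc A B B, inf_idem]]
      exact Subgroup.relIndex_mul_relIndex _ _ _ (inf_le_inf_right _ inf_le_right) inf_le_right
    rw [hMidx] at h2
    have h3 : (A ⊓ B).relIndex (B ⊓ (P : Subgroup G)) = 1 :=
      Nat.dvd_one.mp (Nat.dvd_of_mul_dvd_mul_right hp.out.pos (by rw [h2, one_mul]; exact h1))
    exact (mem_cent_iff.mp (Subgroup.relIndex_eq_one.mp h3 ⟨hb.2, hb.1⟩).1).symm
  set u := h0 * v0 * h0⁻¹ * v0⁻¹ with hudef
  have huP : u ∈ (P : Subgroup G) := mul_mem (hPn.conj_mem v0 hv0 h0) (inv_mem hv0)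
  have hu : u ∉ M := fun hm => by
    have hu1 : u = 1 :=
      hfix (v := v0) (by rw [hudef, inv_mul_cancel_right]) (hM.mp hm).2.symm huP
    rw [hudef, mul_inv_eq_one, mul_inv_eq_iff_eq_mul] at hu1
    exact hnc hu1
  have huM : ∀ m ∈ M, Commute u m := by
    intro m hm
    have hm1 := hMnorm _ (inv_mem hv0) m hm
    rw [inv_inv] at hm1
    set n := v0⁻¹ * m * v0 with hn
    have hcn : Commute n h0 := (hM.mp hm1).2
    have hcm : Commute m h0 := (hM.mp hm).2
    have e : u * m * u⁻¹ = m := by
      calc u * m * u⁻¹ = h0 * v0 * h0⁻¹ * n * h0 * v0⁻¹ * h0⁻¹ := by rw [hudef, hn]; group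
        _ = h0 * v0 * (h0⁻¹ * (n * h0)) * v0⁻¹ * h0⁻¹ := by group
        _ = h0 * v0 * (h0⁻¹ * (h0 * n)) * v0⁻¹ * h0⁻¹ := by rw [hcn.eq]
        _ = h0 * m * h0⁻¹ := by rw [hn]; group
        _ = m := by rw [← hcm.eq, mul_inv_cancel_right]
    exact mul_inv_eq_iff_eq_mul.mp e
  have hgen : M ⊔ Subgroup.zpowers u = (P : Subgroup G) := by
    have hle : M ⊔ Subgroup.zpowers u ≤ (P : Subgroup G) :=
      sup_le inf_le_left (Subgroup.zpowers_le.mpr huP)
    have h1 := Subgroup.relIndex_mul_relIndex M _ _ le_sup_left hle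
    rw [show M.relIndex (P : Subgroup G) = p by rw [hMdef, Subgroup.inf_relIndex_left]; exact hMidx] at h1
    refine le_antisymm hle (Subgroup.relIndex_eq_one.mp ?_)
    rcases hp.out.eq_one_or_self_of_dvd _ (Dvd.intro_left _ h1) with e | e
    · exact e
    · rw [e] at h1
      have : M.relIndex (M ⊔ Subgroup.zpowers u) = 1 :=
        Nat.eq_of_mul_eq_mul_right hp.out.pos (h1.trans (one_mul p).symm)
      exact absurd (Subgroup.relIndex_eq_one.mp this
        (Subgroup.mem_sup_right (Subgroup.mem_zpowers u))) hu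
  have hPcM : (P : Subgroup G) ≤ Subgroup.centralizer (M : Set G) := by
    rw [← hgen, sup_le_iff, Subgroup.zpowers_le]
    exact ⟨fun a ha => Subgroup.mem_centralizer_iff.mpr fun b hb => (hMab b hb a ha).eq,
      Subgroup.mem_centralizer_iff.mpr fun b hb => (huM b hb).symm.eq⟩
  have hPcP : (P : Subgroup G) ≤ Subgroup.centralizer ((P : Subgroup G) : Set G) := by
    conv_rhs => rw [← hgen]
    intro v hv
    have h2 : M ⊔ Subgroup.zpowers u ≤ Subgroup.centralizer ({v} : Set G) := by
      rw [sup_le_iff, Subgroup.zpowers_le]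
      refine ⟨fun m hm => mem_cent_iff.mpr (Subgroup.mem_centralizer_iff.mp (hPcM hv) m hm), ?_⟩
      have h3 : (P : Subgroup G) ≤ Subgroup.centralizer ({u} : Set G) := by
        rw [← hgen, sup_le_iff, Subgroup.zpowers_le]
        exact ⟨fun m hm => mem_cent_iff.mpr (huM m hm).symm, mem_cent_iff.mpr (Commute.refl u)⟩
      exact mem_cent_iff.mpr (mem_cent_iff.mp (h3 hv)).symm
    exact Subgroup.mem_centralizer_iff.mpr fun x hx => mem_cent_iff.mp (h2 hx)
  haveI : IsMulCommutative (P : Subgroup G) :=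
    ⟨⟨fun a b => Subtype.ext (Subgroup.mem_centralizer_iff.mp (hPcP b.2) a a.2)⟩⟩
  set V := (P : Subgroup G)
  set f0 := comMap V h0
  have hk0 : f0.ker ≠ ⊤ := fun e =>
    hnc ((mem_ker_comMap V h0 ⟨v0, hv0⟩).mp (e ▸ Subgroup.mem_top _))
  set I := f0.range with hIdef
  have hconj : ∀ c ∈ H, ∀ w : V, c * (f0 w : G) * c⁻¹ =
      (f0 ⟨c * (w : G) * c⁻¹, hPn.conj_mem _ w.2 c⟩ : G) := by
    intro c hc w
    simp only [f0, coe_comMap]
    calc c * (h0 * (w : G) * h0⁻¹ * (w : G)⁻¹) * c⁻¹
        = (c * h0) * w * (c * h0)⁻¹ * (c * (w : G) * c⁻¹)⁻¹ := by group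
      _ = (h0 * c) * w * (h0 * c)⁻¹ * (c * (w : G) * c⁻¹)⁻¹ := by rw [(hHab c hc h0 hh0).eq]
      _ = _ := by group
  have hI : ∀ c ∈ H, (comMap V c).range ≤ I := by
    intro c hc
    by_cases hk : (comMap V c).ker = ⊤
    · rintro _ ⟨v, rfl⟩
      rw [MonoidHom.mem_ker.mp (hk ▸ Subgroup.mem_top v)]
      exact one_mem _
    rcases ker_eq_or_range_eq h V P.2 h0 c hk0 hk with e | e
    · set w : V := ⟨v0, hv0⟩
      set i := f0 w
      have hi : i ∉ (comMap V c).ker := fun hmem => by
        rw [← e, mem_ker_comMap] at hmem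
        exact hu (hM.mpr ⟨huP, hmem.symm⟩)
      have h6 : comMap V c i ∈ I := by
        refine ⟨⟨c * (w : G) * c⁻¹, hPn.conj_mem _ w.2 c⟩ * w⁻¹, ?_⟩
        rw [map_mul, map_inv]
        refine Subtype.ext ?_
        rw [Subgroup.coe_mul, ← hconj c hc w, Subgroup.coe_inv, coe_comMap V c i]
      exact le_of_eq ((range_eq_of_mem (card_range_comMap h V P.2 c) ⟨i, rfl⟩
        (fun e1 => hi (MonoidHom.mem_ker.mpr e1))).symm.trans
        (range_eq_of_mem (card_range_comMap h V P.2 h0) h6
          (fun e1 => hi (MonoidHom.mem_ker.mpr e1))))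
    · exact e.ge
  set K := I.map V.subtype with hKdef
  have hKle : K ≤ V := Subgroup.map_subtype_le I
  haveI hKn : K.Normal := by
    rw [← Subgroup.normalizer_eq_top_iff, eq_top_iff, ← hH.sup_eq_top, sup_le_iff]
    constructor
    · intro c hc
      have hfwd : ∀ c ∈ H, ∀ x ∈ K, c * x * c⁻¹ ∈ K := by
        rintro c hc _ ⟨_, ⟨w, rfl⟩, rfl⟩
        exact ⟨_, ⟨_, rfl⟩, (hconj c hc w).symm⟩
      refine Subgroup.mem_normalizer_iff.mpr fun x => ⟨hfwd c hc x, fun hx => ?_⟩
      simpa [mul_assoc] using hfwd c⁻¹ (inv_mem hc) _ hx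
    · exact fun v hv => Subgroup.centralizer_le_normalizer _
        (Subgroup.centralizer_le hKle (hPcP hv))
  have hZ : (Subgroup.center (G ⧸ K)).comap (QuotientGroup.mk' K) = ⊤ := by
    have hcom : ∀ c ∈ H, ∀ v ∈ V, Commute ((c : G ⧸ K)) (v : G ⧸ K) := fun c hc v hv => by
      have h7 : c * v * c⁻¹ * v⁻¹ ∈ K := ⟨_, hI c hc ⟨⟨v, hv⟩, rfl⟩, rfl⟩
      rw [← QuotientGroup.eq_one_iff, QuotientGroup.mk_mul, QuotientGroup.mk_mul,
        QuotientGroup.mk_mul, QuotientGroup.mk_inv, QuotientGroup.mk_inv, mul_inv_eq_one,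
        mul_inv_eq_iff_eq_mul] at h7
      exact h7
    have hgen2 : ∀ x : G, ∀ S : Subgroup G, H ≤ S → V ≤ S → x ∈ S := fun x S h1 h2 =>
      (hH.sup_eq_top ▸ sup_le h1 h2 : (⊤ : Subgroup G) ≤ S) trivial
    rw [eq_top_iff]
    intro x _
    refine hgen2 x _ (fun c hc => Subgroup.mem_center_iff.mpr fun y => ?_)
      (fun v hv => Subgroup.mem_center_iff.mpr fun y => ?_)
    · obtain ⟨y, rfl⟩ := QuotientGroup.mk'_surjective K y
      exact (mem_cent_iff.mp (show y ∈ (Subgroup.centralizer ({(c : G ⧸ K)} : Set (G ⧸ K))).comap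
          (QuotientGroup.mk' K) from hgen2 y _
        (fun a ha => mem_cent_iff.mpr ((hHab a ha c hc).map (QuotientGroup.mk' K)))
        (fun a ha => mem_cent_iff.mpr (hcom c hc a ha).symm))).eq
    · obtain ⟨y, rfl⟩ := QuotientGroup.mk'_surjective K y
      exact (mem_cent_iff.mp (show y ∈ (Subgroup.centralizer ({(v : G ⧸ K)} : Set (G ⧸ K))).comap
          (QuotientGroup.mk' K) from hgen2 y _
        (fun a ha => mem_cent_iff.mpr (hcom a ha v hv))
        (fun a ha => mem_cent_iff.mpr
          ((show Commute a v from Subgroup.mem_centralizer_iff.mp (hPcP hv) a ha).map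
            (QuotientGroup.mk' K))))).eq
  have hGK : commutator G ≤ K := by
    rw [commutator_def, Subgroup.commutator_le]
    intro a _ b _
    refine (QuotientGroup.eq_one_iff _).mp ?_
    refine (map_commutatorElement (QuotientGroup.mk' K) a b).trans
      (commutatorElement_eq_one_iff_mul_comm.mpr ?_)
    exact (Subgroup.mem_center_iff.mp
      (show a ∈ (Subgroup.center (G ⧸ K)).comap (QuotientGroup.mk' K) from hZ ▸ Subgroup.mem_top a)
        _).symm
  refine (Subgroup.card_dvd_of_le hGK).trans ?_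
  rw [hKdef, Subgroup.card_map_of_injective V.subtype_injective]
  exact card_range_comMap h V P.2 h0

universe u

theorem not_sq_dvd_card_commutator (G : Type u) [Group G] [Finite G] (h : SF G) :
    ¬ p ^ 2 ∣ Nat.card (commutator G) := by
  suffices H : ∀ (m : ℕ) (G : Type u) [Group G] [Finite G], Nat.card G = m → SF G →
      ¬ p ^ 2 ∣ Nat.card (commutator G) from H _ G rfl h
  intro m
  induction m using Nat.strong_induction_on with
  | _ m ih =>
    intro G _ _ hm h hd
    by_cases hred : ∀ N : Subgroup G, N.Normal → ¬ p ∣ Nat.card N → N = ⊥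
    · have h1 := Nat.le_of_dvd hp.out.pos (hd.trans (card_commutator_dvd_of_reduced h hred))
      have h2 := hp.out.two_le
      nlinarith
    simp only [not_forall] at hred
    obtain ⟨N, hN, hNp, hNne⟩ := hred
    haveI := hN
    have hlt : Nat.card (G ⧸ N) < Nat.card G := by
      rw [Subgroup.card_eq_card_quotient_mul_card_subgroup N]
      exact lt_mul_of_one_lt_right Nat.card_pos ((Subgroup.one_lt_card_iff_ne_bot N).mpr hNne)
    refine ih _ (hm ▸ hlt) (G ⧸ N) rfl (h.quotient N) ?_
    set f := (QuotientGroup.mk' N).comp (commutator G).subtype with hf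
    have e1 : f.range = commutator (G ⧸ N) := by
      rw [hf, MonoidHom.range_comp, Subgroup.range_subtype, commutator_def, Subgroup.map_commutator,
        Subgroup.map_top_of_surjective _ (QuotientGroup.mk'_surjective N), ← commutator_def]
    rw [← Subgroup.card_mul_index f.ker, Subgroup.index_ker, e1] at hd
    have h3 : Nat.card f.ker ∣ Nat.card N :=
      Subgroup.card_dvd_of_injective
        (((commutator G).subtype.comp f.ker.subtype).codRestrict N fun x =>
          (QuotientGroup.eq_one_iff _).mp (MonoidHom.mem_ker.mp x.2))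
        (fun a b e => Subtype.ext (Subtype.ext (congrArg (Subtype.val : N → G) e)))
    exact (((hp.out.coprime_iff_not_dvd.mpr fun e => hNp (e.trans h3)).pow_left 2)).dvd_of_dvd_mul_left hd

theorem squarefree_card_commutator {G : Type*} [Group G] [Finite G] (h : SF G) :
    Squarefree (Nat.card (commutator G)) := by
  rw [Nat.squarefree_iff_prime_squarefree]
  intro r hr hd
  haveI := Fact.mk hr
  exact not_sq_dvd_card_commutator (p := r) G h (by rwa [pow_two])

theorem isCyclic_commutator {G : Type*} [Group G] [Finite G] (h : SF G) :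
    IsCyclic (commutator G) := by
  haveI := (supersolvable G h).2
  haveI := IsZGroup.of_squarefree (squarefree_card_commutator h)
  infer_instance

theorem characteristic_of_cyclic {A : Type*} [Group A] [Finite A] [IsCyclic A] (K : Subgroup A) :
    K.Characteristic := by
  classical
  letI := Fintype.ofFinite A
  refine Subgroup.characteristic_iff_map_le.mpr fun φ => ?_
  rintro _ ⟨k, hk, rfl⟩
  have hset : (K : Set A).toFinset = Finset.univ.filter fun x : A => x ^ Nat.card K = 1 := by
    refine Finset.eq_of_subset_of_card_le (fun x hx => ?_) ?_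
    · rw [Finset.mem_filter]
      exact ⟨Finset.mem_univ x, congrArg Subtype.val
        (pow_card_eq_one' (x := (⟨x, Set.mem_toFinset.mp hx⟩ : K)))⟩
    · refine (IsCyclic.card_pow_eq_one_le Nat.card_pos).trans (le_of_eq ?_)
      rw [Set.toFinset_card, Nat.card_eq_fintype_card]
      rfl
  have h1 : φ k ∈ (K : Set A).toFinset := by
    rw [hset, Finset.mem_filter]
    refine ⟨Finset.mem_univ _, ?_⟩
    rw [← map_pow, show k ^ Nat.card K = 1 from congrArg Subtype.val
      (pow_card_eq_one' (x := (⟨k, hk⟩ : K))), map_one]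
  exact Set.mem_toFinset.mp h1

theorem commute_fitting {G : Type*} [Group G] [Finite G] {x y : G}
    (hx : x ∈ Cfsg.fittingSubgroup G) (hy : y ∈ Cfsg.fittingSubgroup G)
    (hc : Nat.Coprime (orderOf x) (orderOf y)) : Commute x y :=
  congrArg Subtype.val (Transfer.nilpotent_commute_of_coprime (Fitting.fitting_isNilpotent (G := G))
    (x := (⟨x, hx⟩ : Cfsg.fittingSubgroup G)) (y := ⟨y, hy⟩)
    (by rwa [Subgroup.orderOf_mk, Subgroup.orderOf_mk]))

/-- The Fitting subgroup has class at most two. -/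
theorem upperCentralSeries_fitting {G : Type*} [Group G] [Finite G] (h : SF G) :
    Subgroup.upperCentralSeries ↥(Cfsg.fittingSubgroup G) 2 = ⊤ := by
  set F := Cfsg.fittingSubgroup G
  haveI : Group.IsNilpotent F := Fitting.fitting_isNilpotent
  set A := commutator F
  have hle : A.map F.subtype ≤ commutator G := by
    show (commutator F).map F.subtype ≤ commutator G
    rw [commutator_def, commutator_def, Subgroup.map_commutator]
    exact Subgroup.commutator_mono le_top le_top
  have hsf : Squarefree (Nat.card A) := (squarefree_card_commutator h).squarefree_of_dvd (by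
    rw [← Subgroup.card_map_of_injective F.subtype_injective]
    exact Subgroup.card_dvd_of_le hle)
  haveI : Group.IsNilpotent A := inferInstance
  haveI := IsZGroup.of_squarefree hsf
  haveI : IsCyclic A := inferInstance
  have hcard : Nat.card A ∣ Nat.card (A ⊓ Subgroup.center F : Subgroup F) := by
    rw [← Nat.prod_primeFactors_of_squarefree hsf]
    refine Finset.prod_primes_dvd _ (fun r hr => (Nat.prime_of_mem_primeFactors hr).prime)
      fun r hr => ?_
    haveI := Fact.mk (Nat.prime_of_mem_primeFactors hr)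
    obtain ⟨a, ha⟩ := exists_prime_orderOf_dvd_card' r (Nat.dvd_of_mem_primeFactors hr)
    set Z := (Subgroup.zpowers a).map A.subtype with hZ
    have hZc : Nat.card Z = r := by
      rw [hZ, Subgroup.card_map_of_injective A.subtype_injective, Nat.card_zpowers, ha]
    haveI : (Subgroup.zpowers a).Characteristic := characteristic_of_cyclic _
    haveI : Z.Normal := inferInstance
    have hne := Fitting.inf_center_ne_bot (N := Z) (fun e => by
      rw [e, Subgroup.card_bot] at hZc
      exact (Fact.out : r.Prime).ne_one hZc.symm)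
    have h1 : Z ⊓ Subgroup.center F ≤ A ⊓ Subgroup.center F :=
      inf_le_inf_right _ (Subgroup.map_subtype_le _)
    refine (dvd_of_eq ?_).trans (Subgroup.card_dvd_of_le h1)
    have h2 := Subgroup.card_dvd_of_le (inf_le_left : Z ⊓ Subgroup.center F ≤ Z)
    rw [hZc] at h2
    exact (((Fact.out : r.Prime).eq_one_or_self_of_dvd _ h2).resolve_left
      fun e => hne (Subgroup.eq_bot_of_card_eq _ e)).symm
  have hA : A ≤ Subgroup.center F := inf_eq_left.mp
    (Subgroup.eq_of_le_of_card_ge inf_le_left (Nat.le_of_dvd Nat.card_pos hcard))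
  refine eq_top_iff.mpr fun x _ => Subgroup.mem_upperCentralSeries_succ_iff.mpr fun y => ?_
  rw [Subgroup.upperCentralSeries_one]
  refine hA ?_
  show _ ∈ commutator F
  rw [commutator_def]
  exact Subgroup.commutator_mem_commutator trivial trivial

/-- The index of the Fitting subgroup is square-free. -/
theorem not_sq_dvd_index_fitting {G : Type*} [Group G] [Finite G] (h : SF G) {q : ℕ}
    [hq : Fact q.Prime] : ¬ q ^ 2 ∣ (Cfsg.fittingSubgroup G).index := by
  classical
  set F := Cfsg.fittingSubgroup G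
  have hcF : commutator G ≤ F :=
    Fitting.le_fitting inferInstance (supersolvable G h).2
  obtain ⟨Q⟩ := (inferInstance : Nonempty (Sylow q G))
  -- for each prime, an element detecting the action of `Q`
  have key : ∀ r : Nat.Primes, (r : ℕ) ≠ q → ∃ x ∈ Cfsg.pCore (r : ℕ) G, ∀ t ∈ (Q : Subgroup G),
      ⁅t, x⁆ ∈ (commutator (Cfsg.pCore (r : ℕ) G)).map (Cfsg.pCore (r : ℕ) G).subtype →
        ∀ n ∈ Cfsg.pCore (r : ℕ) G, Commute t n := by
    intro r hr
    haveI : Fact (r : ℕ).Prime := Fact.mk r.2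
    set O := Cfsg.pCore (r : ℕ) G
    have hO : IsPGroup (r : ℕ) O := Fitting.pCore_isPGroup _
    by_cases hall : ∀ t ∈ (Q : Subgroup G), ∀ n ∈ O, Commute t n
    · exact ⟨1, one_mem O, fun t ht _ => hall t ht⟩
    simp only [not_forall] at hall
    obtain ⟨a, haQ, n0, hn0, hna⟩ := hall
    have hcopQ : ∀ t ∈ (Q : Subgroup G), Nat.Coprime (orderOf t) (r : ℕ) := fun t ht => by
      obtain ⟨k, hk⟩ := orderOf_eq_prime_pow_of_mem Q.2 ht
      rw [hk]
      exact ((Nat.coprime_primes hq.out r.2).mpr (Ne.symm hr)).pow_left k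
    -- centralizers in `O`
    let C : G → Subgroup O := fun t => (Subgroup.centralizer ({t} : Set G)).subgroupOf O
    have hC : ∀ t, (C t).index ∣ (r : ℕ) := fun t => relIndex_dvd h O hO t
    have hCn : ∀ t, (C t).Normal := fun t => Subgroup.Normal.of_commutator_le _
      (commutator_le_of_index_dvd hO (hC t))
    have memC : ∀ (t : G) (v : O), v ∈ C t ↔ Commute (v : G) t := fun t v =>
      Subgroup.mem_subgroupOf.trans mem_cent_iff
    have hfixC : ∀ t ∈ (Q : Subgroup G), ∀ v d : O, t * (v : G) * t⁻¹ = d * v → d ∈ C t → v ∈ C t := by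
      intro t ht v d he hd
      have hd1 := eq_one_of_fixed_displacement (p := (r : ℕ)) he ((memC t d).mp hd).symm
        (orderOf_eq_prime_pow_of_mem hO d.2) (hcopQ t ht)
      rw [hd1, one_mul] at he
      exact (memC t v).mpr (mul_inv_eq_iff_eq_mul.mp he).symm
    have hnle : ∀ t, ¬ C a ≤ C t → ¬ C t ≤ C a := by
      intro t hle hle'
      refine hle (le_of_eq (Subgroup.eq_of_le_of_card_ge hle' ?_).symm)
      have h1 := Subgroup.card_mul_index (C t)
      have h2 := Subgroup.card_mul_index (C a)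
      have h3 : (C a).index = (r : ℕ) := (r.2.eq_one_or_self_of_dvd _ (hC a)).resolve_left fun e =>
        hna ((memC a ⟨n0, hn0⟩).mp (Subgroup.index_eq_one.mp e ▸ Subgroup.mem_top _)).symm
      rw [← h1, h3] at h2
      exact Nat.le_of_mul_le_mul_right
        (h2 ▸ Nat.mul_le_mul_left _ (Nat.le_of_dvd r.2.pos (hC t))) r.2.pos
    obtain ⟨x, hx⟩ : ∃ x : O, x ∉ C a := ⟨⟨n0, hn0⟩, fun hm => hna ((memC a _).mp hm).symm⟩
    refine ⟨x, x.2, fun b hbQ hbx => ?_⟩
    obtain ⟨d, hd, hd'⟩ := hbx
    have hxb : x ∈ C b := hfixC b hbQ x d (by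
        rw [show ((d : O) : G) = ⁅b, (x : G)⁆ from hd', commutatorElement_def, inv_mul_cancel_right])
      (commutator_le_of_index_dvd hO (hC b) hd)
    by_contra hbn
    simp only [not_forall] at hbn
    obtain ⟨n1, hn1, hnb⟩ := hbn
    have hab : ¬ C b ≤ C a := fun hle => hx (hle hxb)
    have hba : ¬ C a ≤ C b := by
      intro hle
      have h3 : (C b).index = (r : ℕ) := (r.2.eq_one_or_self_of_dvd _ (hC b)).resolve_left fun e =>
        hnb ((memC b ⟨n1, hn1⟩).mp (Subgroup.index_eq_one.mp e ▸ Subgroup.mem_top _)).symm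
      refine hab (le_of_eq (Subgroup.eq_of_le_of_card_ge hle ?_).symm)
      have h1 := Subgroup.card_mul_index (C a)
      have h2 := Subgroup.card_mul_index (C b)
      rw [← h1, h3] at h2
      exact Nat.le_of_mul_le_mul_right
        (h2 ▸ Nat.mul_le_mul_left _ (Nat.le_of_dvd r.2.pos (hC a))) r.2.pos
    -- the actions of `a` and `b` commute
    have hst : ∀ (s t : G), s ∈ (Q : Subgroup G) → t ∈ (Q : Subgroup G) → ∀ v : O, v ∈ C s →
        Commute (t * (v : G) * t⁻¹) s := by
      intro s t hs ht v hv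
      set c := t⁻¹ * s * t * s⁻¹ with hcdef
      have hcQ : c ∈ (Q : Subgroup G) := mul_mem (mul_mem (mul_mem (inv_mem ht) hs) ht) (inv_mem hs)
      have hc : c ∈ F := hcF (by
        have := Subgroup.commutator_mem_commutator (g₁ := t⁻¹) (g₂ := s) (H₁ := (⊤ : Subgroup G))
          (H₂ := ⊤) trivial trivial
        rw [← commutator_def, commutatorElement_def, inv_inv] at this
        exact this)
      have hcv : Commute c (v : G) := commute_fitting hc (Fitting.pCore_le_fitting _ v.2) (by
        obtain ⟨j, hj⟩ := orderOf_eq_prime_pow_of_mem hO v.2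
        rw [hj]
        exact (hcopQ c hcQ).pow_right j)
      have hts : Commute (t⁻¹ * s * t) (v : G) := by
        have := hcv.mul_left ((memC s v).mp hv).symm
        rwa [hcdef, inv_mul_cancel_right] at this
      have := hts.map (MulAut.conj t).toMonoidHom
      simpa [mul_assoc] using this.symm
    have hW1 : ¬ C (a * b) ≤ C a := by
      intro hle
      have heq : C (a * b) = C a := le_antisymm hle (by
        by_contra hne
        exact hnle _ hne hle)
      refine hba fun v hv => ?_
      have h1 : Commute (v : G) (a * b) := (memC _ v).mp (heq ▸ hv)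
      have h2 := hst a b haQ hbQ v hv
      refine (memC b v).mpr (mul_inv_eq_iff_eq_mul.mp ?_).symm
      calc b * (v : G) * b⁻¹ = a⁻¹ * (a * (b * (v : G) * b⁻¹)) := by group
        _ = a⁻¹ * ((b * (v : G) * b⁻¹) * a) := by rw [h2.eq]
        _ = a⁻¹ * (a⁻¹ * ((a * b) * (v : G)) * b⁻¹) * a := by group
        _ = a⁻¹ * (a⁻¹ * ((v : G) * (a * b)) * b⁻¹) * a := by rw [h1.eq]
        _ = a⁻¹ * (a⁻¹ * (v : G) * a) * a := by group
        _ = a⁻¹ * (a⁻¹ * (a * (v : G))) * a := by rw [mul_assoc a⁻¹ (v : G) a, ((memC a v).mp hv).eq]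
        _ = a⁻¹ * ((v : G) * a) := by group
        _ = (v : G) := by rw [((memC a v).mp hv).eq]; group
    have hW2 : ¬ C (a * b) ≤ C b := by
      intro hle
      refine hba (fun v hv => ?_)
      by_contra hv'
      have heq : C (a * b) = C b := by
        refine Subgroup.eq_of_le_of_card_ge hle ?_
        have h3 : (C b).index = (r : ℕ) := (r.2.eq_one_or_self_of_dvd _ (hC b)).resolve_left fun e =>
          hnb ((memC b ⟨n1, hn1⟩).mp (Subgroup.index_eq_one.mp e ▸ Subgroup.mem_top _)).symm
        have h1 := Subgroup.card_mul_index (C (a * b))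
        have h2 := Subgroup.card_mul_index (C b)
        rw [← h1, h3] at h2
        exact Nat.le_of_mul_le_mul_right
          (h2 ▸ Nat.mul_le_mul_left _ (Nat.le_of_dvd r.2.pos (hC _))) r.2.pos
      refine hab fun w hw => ?_
      have h1 : Commute (w : G) (a * b) := (memC _ w).mp (heq ▸ hw)
      have h2 := h1.mul_right ((memC b w).mp hw).inv_right
      rw [mul_inv_cancel_right] at h2
      exact (memC a w).mpr h2
    obtain ⟨w, hwW, hwa, hwb⟩ := exists_not_mem_two hW1 hW2
    haveI := hCn a
    haveI := hCn b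
    have htop : C a ⊔ C b = ⊤ := by
      rw [← Subgroup.index_eq_one]
      rcases r.2.eq_one_or_self_of_dvd _
        ((Subgroup.index_dvd_of_le (le_sup_left : C a ≤ C a ⊔ C b)).trans (hC a)) with e | e
      · exact e
      · exfalso
        refine hab ?_
        have h4 : C a = C a ⊔ C b := by
          refine Subgroup.eq_of_le_of_card_ge le_sup_left ?_
          have h1 := Subgroup.card_mul_index (C a)
          have h2 := Subgroup.card_mul_index (C a ⊔ C b)
          rw [← h1, e] at h2
          exact Nat.le_of_mul_le_mul_right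
            (h2 ▸ Nat.mul_le_mul_left _ (Nat.le_of_dvd r.2.pos (hC a))) r.2.pos
        rw [h4]; exact le_sup_right
    obtain ⟨v1, hv1, v2, hv2, rfl⟩ := Subgroup.mem_sup_of_normal_right.mp
      (htop ▸ Subgroup.mem_top w)
    set bv : O := ⟨b * (v1 : G) * b⁻¹, (Fitting.pCore_normal _).conj_mem _ v1.2 b⟩ with hbv
    set av : O := ⟨a * (v2 : G) * a⁻¹, (Fitting.pCore_normal _).conj_mem _ v2.2 a⟩ with hav
    have hbvA : bv ∈ C a := (memC a bv).mpr (hst a b haQ hbQ v1 hv1)
    have havB : av ∈ C b := (memC b av).mpr (hst b a hbQ haQ v2 hv2)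
    have hprod : bv * av = v1 * v2 := by
      refine Subtype.ext ?_
      have h1 : Commute ((v1 : G) * v2) (a * b) := (memC _ _).mp hwW
      have h2 : Commute (b * (v1 : G) * b⁻¹) a := (memC a bv).mp hbvA
      have h3 : Commute (v2 : G) b := (memC b v2).mp hv2
      show b * (v1 : G) * b⁻¹ * (a * (v2 : G) * a⁻¹) = v1 * v2
      calc b * (v1 : G) * b⁻¹ * (a * (v2 : G) * a⁻¹)
          = (b * (v1 : G) * b⁻¹ * a) * (v2 : G) * a⁻¹ := by group
        _ = (a * (b * (v1 : G) * b⁻¹)) * (v2 : G) * a⁻¹ := by rw [h2.eq]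
        _ = a * b * v1 * b⁻¹ * ((v2 : G) * b) * b⁻¹ * a⁻¹ := by group
        _ = a * b * v1 * b⁻¹ * (b * (v2 : G)) * b⁻¹ * a⁻¹ := by rw [h3.eq]
        _ = (a * b) * ((v1 : G) * v2) * (a * b)⁻¹ := by group
        _ = (v1 : G) * v2 := by rw [← h1.eq, mul_inv_cancel_right]
    have hdA : bv * v1⁻¹ ∈ C a := mul_mem hbvA (inv_mem hv1)
    have hdB : bv * v1⁻¹ ∈ C b := by
      have : bv * v1⁻¹ = v1 * (v2 * av⁻¹) * v1⁻¹ := by
        rw [eq_mul_inv_of_mul_eq hprod]; group
      rw [this]
      exact (hCn b).conj_mem _ (mul_mem hv2 (inv_mem havB)) v1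
    have hv1b := hfixC b hbQ v1 (bv * v1⁻¹) (by
      simp [bv]) hdB
    exact hwb (mul_mem hv1b hv2)
  choose! xr hxrO hxr using key
  -- assemble one element
  let S := ((Nat.card F).primeFactors).erase q
  have asm : ∀ s ⊆ S, ∃ x ∈ F, IsPiElem (↑s : Set ℕ) x ∧ ∀ r : Nat.Primes, (r : ℕ) ∈ s →
      Subgroup.centralizer ({x} : Set G) ≤ Subgroup.centralizer ({xr r} : Set G) := by
    intro s
    induction s using Finset.induction with
    | empty => exact fun _ => ⟨1, one_mem F, IsPiElem.one _, by simp⟩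
    | @insert i s hi ihs =>
      intro hsub
      obtain ⟨hiS, hsS⟩ := Finset.insert_subset_iff.mp hsub
      obtain ⟨y, hyF, hy, hyc⟩ := ihs hsS
      obtain ⟨hiq, hiF⟩ := Finset.mem_erase.mp hiS
      let i' : Nat.Primes := ⟨i, Nat.prime_of_mem_primeFactors hiF⟩
      haveI : Fact i.Prime := Fact.mk i'.2
      obtain ⟨j, hj⟩ := orderOf_eq_prime_pow_of_mem (Fitting.pCore_isPGroup i) (hxrO i' hiq)
      have hpi : IsPiElem ({i} : Set ℕ) (xr i') := isPiElem_singleton_of_pow i'.2 hj
      have hpy : IsPiElem ({i}ᶜ : Set ℕ) y := hy.mono fun a ha e =>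
        hi (Set.mem_singleton_iff.mp e ▸ ha)
      have hcomm : Commute (xr i') y :=
        commute_fitting (Fitting.pCore_le_fitting i (hxrO i' hiq)) hyF (Nat.coprime_of_dvd
          fun a ha h1 h2 => hpy a ha h2 (hpi a ha h1))
      have hC := centralizer_mul_eq {i} hcomm hpi hpy
      refine ⟨xr i' * y, mul_mem (Fitting.pCore_le_fitting i (hxrO i' hiq)) hyF,
        (hpi.mono (by simp)).mul (hy.mono (by simp)) hcomm, fun r hr => ?_⟩
      rw [hC]
      rcases Finset.mem_insert.mp hr with e | e
      · rw [show r = i' from Subtype.ext e]; exact inf_le_left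
      · exact inf_le_right.trans (hyc r e)
  obtain ⟨x, -, -, hxc⟩ := asm S (Finset.Subset.refl _)
  set T := Subgroup.centralizer ({x} : Set G) ⊔ F
  haveI : T.Normal := Subgroup.Normal.of_commutator_le _ (hcF.trans le_sup_right)
  -- elements of `T ⊓ Q` centralize every `pCore r`, `r ≠ q`
  have hcent : ∀ t ∈ T ⊓ (Q : Subgroup G), ∀ r : ℕ, r.Prime → r ≠ q →
      ∀ n ∈ Cfsg.pCore r G, Commute t n := by
    rintro t ⟨htT, htQ⟩ r hr hrq n hn
    haveI := Fact.mk hr
    by_cases hrS : r ∈ S
    · let r' : Nat.Primes := ⟨r, hr⟩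
      refine hxr r' hrq t htQ ?_ n hn
      set D := (commutator (Cfsg.pCore r G)).map (Cfsg.pCore r G).subtype with hD
      haveI : (commutator (Cfsg.pCore r G)).Characteristic := inferInstance
      haveI : D.Normal := inferInstance
      set x' := xr r'
      let Kx := (Subgroup.centralizer ({(x' : G ⧸ D)} : Set (G ⧸ D))).comap (QuotientGroup.mk' D)
      suffices ht : t ∈ Kx by
        refine (QuotientGroup.eq_one_iff _).mp ?_
        exact (map_commutatorElement (QuotientGroup.mk' D) t x').trans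
          (commutatorElement_eq_one_iff_mul_comm.mpr (mem_cent_iff.mp ht).eq)
      refine (sup_le ?_ ?_ : T ≤ Kx) htT
      · exact fun c hc => mem_cent_iff.mpr
          ((mem_cent_iff.mp (hxc r' hrS hc)).map (QuotientGroup.mk' D))
      · show Cfsg.fittingSubgroup G ≤ Kx
        rw [Fitting.fitting_eq_iSup_pCore, iSup_le_iff]
        intro s f hf
        haveI : Fact (s : ℕ).Prime := Fact.mk s.2
        refine mem_cent_iff.mpr ?_
        by_cases hsr : (s : ℕ) = r
        · rw [hsr] at hf
          refine commutatorElement_eq_one_iff_commute.mp ?_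
          refine (map_commutatorElement (QuotientGroup.mk' D) f x').symm.trans
            ((QuotientGroup.eq_one_iff _).mpr ?_)
          exact ⟨⁅(⟨f, hf⟩ : Cfsg.pCore r G), ⟨x', hxrO r' hrq⟩⁆,
            commutator_def (Cfsg.pCore r G) ▸
              Subgroup.commutator_mem_commutator trivial trivial, rfl⟩
        · exact ((Fitting.pCore_commute hsr hf (hxrO r' hrq)).map (QuotientGroup.mk' D))
    · have hbot : Cfsg.pCore r G = ⊥ := by
        by_contra hne
        refine hrS (Finset.mem_erase.mpr ⟨hrq, Nat.mem_primeFactors.mpr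
          ⟨hr, ?_, Nat.card_pos.ne'⟩⟩)
        obtain ⟨k, hk⟩ := (Fitting.pCore_isPGroup (G := G) r).exists_card_eq
        refine (dvd_pow_self r (n := k) fun e => hne (Subgroup.eq_bot_of_card_eq _ ?_)).trans
          (hk ▸ Subgroup.card_dvd_of_le (Fitting.pCore_le_fitting r))
        rw [hk, e, pow_zero]
      rw [hbot, Subgroup.mem_bot] at hn
      rw [hn]; exact Commute.one_right t
  -- hence they lie in `F`
  set R := (Q : Subgroup G) ⊓ ⨅ r : {r : Nat.Primes // (r : ℕ) ≠ q},
    Subgroup.centralizer (Cfsg.pCore (r : Nat.Primes) G : Set G) with hRdef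
  have hTR : T ⊓ (Q : Subgroup G) ≤ R := fun t ht => ⟨ht.2, Subgroup.mem_iInf.mpr fun r =>
    Subgroup.mem_centralizer_iff.mpr fun n hn => (hcent t ht _ r.1.2 r.2 n hn).symm.eq⟩
  have hRF : R ≤ F := by
    set J := R ⊔ F
    haveI : J.Normal := Subgroup.Normal.of_commutator_le _ (hcF.trans le_sup_right)
    have hqR : Cfsg.pCore q G ≤ R := fun z hz => ⟨Fitting.pCore_le_sylow Q hz,
      Subgroup.mem_iInf.mpr fun r => Subgroup.mem_centralizer_iff.mpr fun n hn => by
        haveI : Fact ((r : Nat.Primes) : ℕ).Prime := Fact.mk r.1.2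
        exact (Fitting.pCore_commute r.2 hn hz).eq⟩
    have hJn : J ≤ Subgroup.normalizer (R : Set G) := by
      refine sup_le Subgroup.le_normalizer ?_
      show Cfsg.fittingSubgroup G ≤ _
      rw [Fitting.fitting_eq_iSup_pCore, iSup_le_iff]
      intro s
      by_cases hsq : (s : ℕ) = q
      · rw [hsq]; exact hqR.trans Subgroup.le_normalizer
      · intro f hf
        refine Subgroup.centralizer_le_normalizer _ (Subgroup.mem_centralizer_iff.mpr fun z hz => ?_)
        exact (Subgroup.mem_centralizer_iff.mp (Subgroup.mem_iInf.mp hz.2 ⟨s, hsq⟩) f hf).symm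
    haveI : (R.subgroupOf J).Normal := Subgroup.normal_subgroupOf_of_le_normalizer hJn
    have h1 : R.subgroupOf J ≤ Cfsg.pCore q J :=
      Fitting.le_pCore inferInstance ((Q.2.to_le inf_le_left).comap_subtype)
    have h2 : (Cfsg.pCore q J).map J.subtype ≤ Cfsg.pCore q G :=
      Fitting.le_pCore inferInstance ((Fitting.pCore_isPGroup q).map _)
    intro z hz
    exact Fitting.pCore_le_fitting q (h2 ⟨⟨z, Subgroup.mem_sup_left hz⟩, h1 hz, rfl⟩)
  -- count
  refine CW.not_sq_dvd_index ?_
  set n := (Nat.card G).factorization q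
  have h1 : T.relIndex (Q : Subgroup G) ∣ q := by
    have hTi : Squarefree T.index :=
      (h x).squarefree_of_dvd (Subgroup.index_dvd_of_le le_sup_left)
    refine eq_one_or_prime hq.out (hTi.squarefree_of_dvd (Subgroup.relIndex_dvd_index_of_normal T _))
      (k := n) ?_
    rw [← Q.card_eq_multiplicity]
    exact Subgroup.index_dvd_card _
  have h2 := Subgroup.card_mul_index (T.subgroupOf (Q : Subgroup G))
  rw [Q.card_eq_multiplicity] at h2
  have h3 : q ^ (n - 1) ∣ Nat.card (T.subgroupOf (Q : Subgroup G)) := by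
    rcases Nat.eq_zero_or_pos n with hn | hn
    · rw [hn]; simp
    · refine Nat.dvd_of_mul_dvd_mul_right hq.out.pos ?_
      rw [← pow_succ, Nat.sub_add_cancel hn]
      exact (dvd_of_eq h2.symm).trans (Nat.mul_dvd_mul_left _ h1)
  refine h3.trans ?_
  rw [← Subgroup.card_map_of_injective (Subgroup.subtype_injective _)]
  refine Subgroup.card_dvd_of_le ?_
  rintro _ ⟨t, ht, rfl⟩
  exact hRF (hTR ⟨ht, t.2⟩)

theorem squarefree_index_fitting {G : Type*} [Group G] [Finite G] (h : SF G) :
    Squarefree (Cfsg.fittingSubgroup G).index := by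
  rw [Nat.squarefree_iff_prime_squarefree]
  intro r hr hd
  haveI := Fact.mk hr
  exact not_sq_dvd_index_fitting (q := r) h (by rwa [pow_two])

end Cfsg.Agent.FG78.SqFree
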