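import Mathlib

set_option autoImplicit false

/-! For `8 ≤ n` there are at least three primes in `(n, 2n]`. -/

namespace Cfsg.Agent.FG78.Primes

open Nat

theorem centralBinom_le_of_few_primes (n : ℕ) (n_large : 2 < n)
    (T : Finset ℕ) (hT : ∀ p : ℕ, p.Prime → n < p → p ≤ 2 * n → p ∈ T) :
    centralBinom n ≤ (2 * n) ^ sqrt (2 * n) * 4 ^ (2 * n / 3) * (2 * n) ^ T.card := by
  have n_pos : 0 < n := by omega
  have n2_pos : 1 ≤ 2 * n := by omega
  let f x := x ^ n.centralBinom.factorization x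
  have hf : ∀ p, f p ≤ 2 * n := fun p => pow_factorization_choose_le (by omega)
  let U := Finset.range (2 * n + 1)
  have hU : n.centralBinom = ∏ p ∈ U, f p := n.prod_pow_factorization_centralBinom.symm
  rw [hU, ← Finset.prod_filter_mul_prod_filter_not U (fun p => p.Prime ∧ p ≤ 2 * n / 3)]
  apply mul_le_mul'
  · rw [← Finset.prod_filter_mul_prod_filter_not
      {p ∈ U | p.Prime ∧ p ≤ 2 * n / 3} (· ≤ sqrt (2 * n))]
    apply mul_le_mul'
    · refine (Finset.prod_le_prod' fun p _ => hf p).trans ?_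
      have : (Finset.Icc 1 (sqrt (2 * n))).card = sqrt (2 * n) := by rw [card_Icc, Nat.add_sub_cancel]
      rw [Finset.prod_const]
      refine pow_right_mono₀ n2_pos ((Finset.card_le_card fun x hx => ?_).trans this.le)
      obtain ⟨h1, h2⟩ := Finset.mem_filter.1 hx
      exact Finset.mem_Icc.mpr ⟨(Finset.mem_filter.1 h1).2.1.one_lt.le, h2⟩
    · refine le_trans ?_ (primorial_le_four_pow (2 * n / 3))
      refine (Finset.prod_le_prod' fun p hp => (?_ : f p ≤ p)).trans ?_
      · obtain ⟨h1, h2⟩ := Finset.mem_filter.1 hp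
        have hp' := (Finset.mem_filter.1 h1).2.1
        refine (pow_right_mono₀ hp'.one_lt.le ?_).trans (pow_one p).le
        exact Nat.factorization_choose_le_one (sqrt_lt'.mp <| not_le.1 h2)
      refine Finset.prod_le_prod_of_subset_of_one_le' (fun p hp => ?_) ?_
      · have hp' := (Finset.mem_filter.1 (Finset.mem_filter.1 hp).1).2
        exact Finset.mem_filter.mpr ⟨Finset.mem_range.mpr (by omega), hp'.1⟩
      · exact fun p hp _ => (Finset.mem_filter.1 hp).2.one_lt.le
  · rw [← Finset.prod_subset (s₁ := {p ∈ U | ¬(p.Prime ∧ p ≤ 2 * n / 3)} ∩ T) Finset.inter_subset_left]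
    · refine (Finset.prod_le_prod' fun p _ => hf p).trans ?_
      rw [Finset.prod_const]
      exact pow_right_mono₀ n2_pos (Finset.card_le_card Finset.inter_subset_right)
    · intro p hp hpT
      obtain ⟨hpU, hpn⟩ := Finset.mem_filter.mp hp
      have hp2 : p ≤ 2 * n := by
        have := Finset.mem_range.mp hpU
        omega
      by_cases hpp : p.Prime
      · have h3 : 2 * n / 3 < p := not_le.mp fun h => hpn ⟨hpp, h⟩
        have hpn' : p ≤ n := by
          by_contra h
          exact hpT (Finset.mem_inter.mpr ⟨hp, hT p hpp (not_le.mp h) hp2⟩)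
        rw [div_lt_iff_lt_mul three_pos, mul_comm p] at h3
        simp only [f]
        rw [factorization_centralBinom_of_two_mul_self_lt_three_mul n_large hpn' h3, Nat.pow_zero]
      · simp only [f]
        rw [factorization_eq_zero_of_not_prime n.centralBinom hpp, Nat.pow_zero]

theorem main_inequality {n : ℕ} (hn : 2048 ≤ n) :
    (2 * n) ^ (sqrt (2 * n) + 3) * 4 ^ (2 * n / 3) ≤ 4 ^ n := by
  set s := sqrt (2 * n) with hs
  have hs64 : 64 ≤ s := Nat.le_sqrt.mpr (by omega)
  have hlt : 2 * n < (s + 1) * (s + 1) := Nat.lt_succ_sqrt _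
  have hle : s * s ≤ 2 * n := Nat.sqrt_le _
  set k := Nat.log 2 s + 1 with hk
  have h1 : s + 1 ≤ 2 ^ k := Nat.lt_pow_succ_log_self (by norm_num) s
  have h0 : 2 ^ Nat.log 2 s ≤ s := Nat.pow_log_le_self 2 (by omega)
  have h2 : 8 * k ≤ s := by
    have h6 : 6 ≤ Nat.log 2 s := Nat.le_log_of_pow_le (by norm_num) hs64
    have hind : ∀ t : ℕ, 6 ≤ t → 8 * (t + 1) ≤ 2 ^ t := by
      intro t ht
      induction t, ht using Nat.le_induction with
      | base => norm_num
      | succ t ht ih => rw [pow_succ]; omega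
    exact (hind _ h6).trans h0
  have h3 : 6 * k * (s + 3) ≤ s * s := by
    have h2' : 8 * k * s ≤ s * s := Nat.mul_le_mul_right s h2
    have h2'' : 18 * k ≤ 2 * k * s := by nlinarith
    nlinarith
  have h4 : (2 * n) ^ (3 * (s + 3)) ≤ 4 ^ n := by
    calc (2 * n) ^ (3 * (s + 3)) ≤ (2 ^ (2 * k)) ^ (3 * (s + 3)) := by
          refine Nat.pow_le_pow_left ?_ _
          calc 2 * n ≤ (s + 1) * (s + 1) := hlt.le
            _ ≤ 2 ^ k * 2 ^ k := Nat.mul_le_mul h1 h1
            _ = 2 ^ (2 * k) := by rw [← pow_add, two_mul]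
      _ = 2 ^ (6 * k * (s + 3)) := by rw [← pow_mul]; ring_nf
      _ ≤ 2 ^ (2 * n) := Nat.pow_le_pow_right (by norm_num) (h3.trans hle)
      _ = 4 ^ n := by rw [pow_mul]; norm_num
  have h5 : (2 * n) ^ (s + 3) ≤ 4 ^ (n - 2 * n / 3) := by
    refine (Nat.pow_le_pow_iff_left (n := 3) (by norm_num)).mp ?_
    rw [← pow_mul, ← pow_mul, mul_comm (s + 3)]
    exact h4.trans (Nat.pow_le_pow_right (by norm_num) (by omega))
  calc (2 * n) ^ (s + 3) * 4 ^ (2 * n / 3) ≤ 4 ^ (n - 2 * n / 3) * 4 ^ (2 * n / 3) :=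
        Nat.mul_le_mul_right _ h5
    _ = 4 ^ n := by rw [← pow_add]; congr 1; omega

theorem three_primes_large {n : ℕ} (hn : 2048 ≤ n) :
    2 < ((Finset.Ioc n (2 * n)).filter Nat.Prime).card := by
  by_contra h
  have hcb := centralBinom_le_of_few_primes n (by omega) ((Finset.Ioc n (2 * n)).filter Nat.Prime)
    fun p hp h1 h2 => Finset.mem_filter.mpr ⟨Finset.mem_Ioc.mpr ⟨h1, h2⟩, hp⟩
  refine (Nat.four_pow_lt_mul_centralBinom n (by omega)).not_ge (le_trans ?_ (main_inequality hn))
  grw [hcb]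
  rw [show sqrt (2 * n) + 3 = 1 + sqrt (2 * n) + 2 by ring, pow_add, pow_add, pow_one]
  have h2 : (2 * n) ^ ((Finset.Ioc n (2 * n)).filter Nat.Prime).card ≤ (2 * n) ^ 2 :=
    Nat.pow_le_pow_right (by omega) (by omega)
  calc n * ((2 * n) ^ sqrt (2 * n) * 4 ^ (2 * n / 3) *
        (2 * n) ^ ((Finset.Ioc n (2 * n)).filter Nat.Prime).card)
      ≤ 2 * n * ((2 * n) ^ sqrt (2 * n) * 4 ^ (2 * n / 3) * (2 * n) ^ 2) :=
        Nat.mul_le_mul (by omega) (Nat.mul_le_mul_left _ h2)
    _ = _ := by ring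

/-- Three primes `a < b < c` in `(n, 2n]`. -/
def Good (n : ℕ) : Prop :=
  ∃ a b c : ℕ, a.Prime ∧ b.Prime ∧ c.Prime ∧ n < a ∧ a < b ∧ b < c ∧ c ≤ 2 * n

theorem good_of_chain {n : ℕ} (lo a b c : ℕ) (ha : a.Prime) (hb : b.Prime) (hc : c.Prime)
    (hab : a < b) (hbc : b < c) (hcov : c ≤ 2 * lo) (H : n < lo → Good n) (hn : n < a) : Good n := by
  rcases Nat.lt_or_ge n lo with h | h
  · exact H h
  · exact ⟨a, b, c, ha, hb, hc, hn, hab, hbc, hcov.trans (Nat.mul_le_mul_left 2 h)⟩

/-- For `9 ≤ n` there are three primes in `(n, 2n]`. -/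
theorem exists_three_primes {n : ℕ} (hn : 9 ≤ n) : Good n := by
  rcases Nat.lt_or_ge n 2048 with h | h
  · refine good_of_chain 1042 2053 2063 2083 (by norm_num1) (by norm_num1) (by norm_num1) (by norm_num1) (by norm_num1) (by norm_num1) (fun h => ?_) (by omega)
    refine good_of_chain 531 1049 1051 1061 (by norm_num1) (by norm_num1) (by norm_num1) (by norm_num1) (by norm_num1) (by norm_num1) (fun h => ?_) (by omega)
    refine good_of_chain 279 541 547 557 (by norm_num1) (by norm_num1) (by norm_num1) (by norm_num1) (by norm_num1) (by norm_num1) (fun h => ?_) (by omega)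
    refine good_of_chain 147 281 283 293 (by norm_num1) (by norm_num1) (by norm_num1) (by norm_num1) (by norm_num1) (by norm_num1) (fun h => ?_) (by omega)
    refine good_of_chain 82 149 151 157 (by norm_num1) (by norm_num1) (by norm_num1) (by norm_num1) (by norm_num1) (by norm_num1) (fun h => ?_) (by omega)
    refine good_of_chain 49 83 89 97 (by norm_num1) (by norm_num1) (by norm_num1) (by norm_num1) (by norm_num1) (by norm_num1) (fun h => ?_) (by omega)
    refine good_of_chain 34 53 59 61 (by norm_num1) (by norm_num1) (by norm_num1) (by norm_num1) (by norm_num1) (by norm_num1) (fun h => ?_) (by omega)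
    refine good_of_chain 24 37 41 43 (by norm_num1) (by norm_num1) (by norm_num1) (by norm_num1) (by norm_num1) (by norm_num1) (fun h => ?_) (by omega)
    refine good_of_chain 19 29 31 37 (by norm_num1) (by norm_num1) (by norm_num1) (by norm_num1) (by norm_num1) (by norm_num1) (fun h => ?_) (by omega)
    refine good_of_chain 15 19 23 29 (by norm_num1) (by norm_num1) (by norm_num1) (by norm_num1) (by norm_num1) (by norm_num1) (fun h => ?_) (by omega)
    refine good_of_chain 12 17 19 23 (by norm_num1) (by norm_num1) (by norm_num1) (by norm_num1) (by norm_num1) (by norm_num1) (fun h => ?_) (by omega)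
    refine good_of_chain 10 13 17 19 (by norm_num1) (by norm_num1) (by norm_num1) (by norm_num1) (by norm_num1) (by norm_num1) (fun h => ?_) (by omega)
    obtain rfl : n = 9 := by omega
    exact ⟨11, 13, 17, by norm_num1, by norm_num1, by norm_num1, by norm_num1, by norm_num1,
      by norm_num1, by norm_num1⟩
  · have hcard := three_primes_large h
    obtain ⟨a, b, c, ha, hb, hc, hab, hac, hbc⟩ := Finset.two_lt_card_iff.mp hcard
    simp only [Finset.mem_filter, Finset.mem_Ioc] at ha hb hc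
    rcases Nat.lt_or_gt_of_ne hab with h1 | h1 <;> rcases Nat.lt_or_gt_of_ne hac with h2 | h2 <;>
      rcases Nat.lt_or_gt_of_ne hbc with h3 | h3
    all_goals first
      | exact ⟨a, b, c, ha.2, hb.2, hc.2, ha.1.1, h1, h3, hc.1.2⟩
      | exact ⟨a, c, b, ha.2, hc.2, hb.2, ha.1.1, h2, h3, hb.1.2⟩
      | exact ⟨b, a, c, hb.2, ha.2, hc.2, hb.1.1, h1, h2, hc.1.2⟩
      | exact ⟨b, c, a, hb.2, hc.2, ha.2, hb.1.1, h3, h2, ha.1.2⟩
      | exact ⟨c, a, b, hc.2, ha.2, hb.2, hc.1.1, h2, h1, hb.1.2⟩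
      | exact ⟨c, b, a, hc.2, hb.2, ha.2, hc.1.1, h3, h1, ha.1.2⟩
      | omega

end Cfsg.Agent.FG78.Primes
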