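import Mathlib
import Cfsg.Agent.PermB.Support
import Cfsg.Agent.PermB.JordanPrime
import Cfsg.Agent.Recog71.Bochert
import Cfsg.Agent.FG78.PiParts
import Cfsg.Agent.FG78.IndexLemmas

set_option autoImplicit false

/-!
A primitive group of degree `p + 2` in the cases `p + 2 = 7, 13` that contains a `p`-cycle
contains the alternating group.
-/

namespace Cfsg.Agent.FG78

open MulAction Equiv
open scoped Pointwise

variable {α : Type*} [Fintype α] [DecidableEq α]

theorem three_transitive_of_cycle (G : Subgroup (Perm α)) (hG : IsPreprimitive G α) {p : ℕ}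
    (hp : p.Prime) {g : Perm α} (hg : g ∈ G) (hgc : g.IsCycle) (hgp : g.support.card = p)
    (hn : Fintype.card α = p + 2) : IsMultiplyPretransitive G α 3 := by
  classical
  haveI := Perm.isPretransitive_of_isCycle_mem hgc hg
  have hcardΔ : Nat.card (SubMulAction.ofFixingSubgroup G ((g.support : Set α)ᶜ)) = p := by
    rw [Nat.card_eq_fintype_card, Fintype.card_subtype, ← hgp]
    apply congr_arg
    ext x
    simp [SubMulAction.mem_ofFixingSubgroup_iff]
  haveI : IsPreprimitive (fixingSubgroup G ((g.support : Set α)ᶜ))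
      (SubMulAction.ofFixingSubgroup G ((g.support : Set α)ᶜ)) :=
    IsPreprimitive.of_prime_card (by rw [hcardΔ]; exact hp)
  have hs : ((g.support : Set α)ᶜ).ncard = 1 + 1 := by
    rw [← Finset.coe_compl, Set.ncard_coe_finset, Finset.card_compl, hgp, hn]; omega
  have hmp := hG.isMultiplyPreprimitive hs
    (by rw [Nat.card_eq_fintype_card, hn]; have := hp.two_le; omega) this
  exact IsMultiplyPreprimitive.isMultiplyPretransitive ..

theorem exists_emb3 {a b c : α} (hab : a ≠ b) (hac : a ≠ c) (hbc : b ≠ c) :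
    ∃ x : Fin 3 ↪ α, x 0 = a ∧ x 1 = b ∧ x 2 = c :=
  ⟨⟨![a, b, c], by
    intro i j h
    fin_cases i <;> fin_cases j <;>
      first
        | rfl
        | exact absurd h hab
        | exact absurd h hab.symm
        | exact absurd h hac
        | exact absurd h hac.symm
        | exact absurd h hbc
        | exact absurd h hbc.symm⟩, rfl, rfl, rfl⟩

theorem exists_map_three {G : Subgroup (Perm α)} (h3 : IsMultiplyPretransitive G α 3)
    {a b c a' b' c' : α} (hab : a ≠ b) (hac : a ≠ c) (hbc : b ≠ c) (hab' : a' ≠ b')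
    (hac' : a' ≠ c') (hbc' : b' ≠ c') :
    ∃ g ∈ G, g a = a' ∧ g b = b' ∧ g c = c' := by
  rw [isMultiplyPretransitive_iff] at h3
  obtain ⟨x, hxa, hxb, hxc⟩ := exists_emb3 hab hac hbc
  obtain ⟨y, hya, hyb, hyc⟩ := exists_emb3 hab' hac' hbc'
  obtain ⟨g, hg⟩ := h3 x y
  have e : ∀ i, (g : Perm α) (x i) = y i := fun i => by rw [← hg]; rfl
  exact ⟨g, g.2, by rw [← hxa, e, hya], by rw [← hxb, e, hyb], by rw [← hxc, e, hyc]⟩

/-- A three-transitive group of odd degree with a double transposition contains a three-cycle. -/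
theorem alternating_le_of_double_transposition (G : Subgroup (Perm α)) (hG : IsPreprimitive G α)
    (h3 : IsMultiplyPretransitive G α 3) (hodd : Odd (Fintype.card α)) {v : Perm α} (hv : v ∈ G)
    {a b c d : α} (hab : a ≠ b) (hac : a ≠ c) (had : a ≠ d) (hbc : b ≠ c) (hbd : b ≠ d)
    (hcd : c ≠ d) (hvd : v = swap a b * swap c d) : alternatingGroup α ≤ G := by
  classical
  have hex : ∀ e, e ≠ a → e ≠ b → ∃ e', e' ≠ a ∧ e' ≠ b ∧ e' ≠ e ∧ swap a b * swap e e' ∈ G := by
    intro e hea heb
    obtain ⟨g, hg, ga, gb, gc⟩ := exists_map_three h3 hab hac hbc hab hea.symm heb.symm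
    refine ⟨g d, ?_, ?_, ?_, ?_⟩
    · rw [← ga]; exact g.injective.ne had.symm
    · rw [← gb]; exact g.injective.ne hbd.symm
    · rw [← gc]; exact g.injective.ne hcd.symm
    · have hmem := G.mul_mem (G.mul_mem hg hv) (G.inv_mem hg)
      have e1 : g * v * g⁻¹ = (g * swap a b * g⁻¹) * (g * swap c d * g⁻¹) := by
        rw [hvd]; group
      rwa [e1, ← Equiv.swap_apply_apply, ← Equiv.swap_apply_apply, ga, gb, gc] at hmem
  by_contra hno
  have key : ∀ e e₁ e₂, e ≠ a → e ≠ b → e₁ ≠ a → e₁ ≠ b → e₂ ≠ a → e₂ ≠ b → e₁ ≠ e → e₂ ≠ e →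
      swap a b * swap e e₁ ∈ G → swap a b * swap e e₂ ∈ G → e₁ = e₂ := by
    intro e e₁ e₂ hea heb h1a h1b h2a h2b h1e h2e hm1 hm2
    by_contra hne
    apply hno
    have hmem := G.mul_mem (G.inv_mem hm1) hm2
    have e1 : (swap a b * swap e e₁)⁻¹ * (swap a b * swap e e₂) = swap e e₁ * swap e e₂ := by
      simp [mul_assoc, mul_inv_rev, swap_inv]
    rw [e1] at hmem
    exact Perm.alternatingGroup_le_of_isPreprimitive_of_isThreeCycle_mem hG
      (Perm.isThreeCycle_swap_mul_swap_same h1e.symm h2e.symm hne) hmem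
  choose! f hf1 hf2 hf3 hf4 using hex
  let X := {e : α // e ≠ a ∧ e ≠ b}
  let F : X → X := fun e => ⟨f e.1, hf1 _ e.2.1 e.2.2, hf2 _ e.2.1 e.2.2⟩
  have hinv : Function.Involutive F := by
    intro e
    apply Subtype.ext
    have he := hf4 e.1 e.2.1 e.2.2
    rw [Equiv.swap_comm e.1] at he
    exact key (f e.1) (f (f e.1)) e.1 (F e).2.1 (F e).2.2 (hf1 _ (F e).2.1 (F e).2.2)
      (hf2 _ (F e).2.1 (F e).2.2) e.2.1 e.2.2 (hf3 _ (F e).2.1 (F e).2.2)
      (hf3 _ e.2.1 e.2.2).symm (hf4 _ (F e).2.1 (F e).2.2) he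
  let σ : Perm X := hinv.toPerm
  have hfix : σ.support = Finset.univ := by
    ext e
    simp only [Perm.mem_support, Finset.mem_univ, iff_true]
    exact fun h => hf3 e.1 e.2.1 e.2.2 (congrArg Subtype.val h)
  have hσ2 : σ ^ 2 = 1 := by
    ext e
    rw [pow_two, Perm.mul_apply, Perm.one_apply]
    exact congrArg Subtype.val (hinv e)
  have h2 : 2 ∣ σ.support.card := by
    rw [← Perm.sum_cycleType]
    refine Multiset.dvd_sum fun m hm => ?_
    haveI := Fact.mk Nat.prime_two
    rw [Perm.pow_prime_eq_one_iff] at hσ2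
    rw [hσ2 m hm]
  rw [hfix, Finset.card_univ] at h2
  have hX : Fintype.card X = Fintype.card α - 2 := by
    rw [Fintype.card_subtype]
    have : (Finset.univ.filter fun e => e ≠ a ∧ e ≠ b) = ({a, b} : Finset α)ᶜ := by
      ext e; simp
    rw [this, Finset.card_compl, Finset.card_pair hab]
  rw [hX] at h2
  obtain ⟨k, hk⟩ := hodd
  have : 2 ≤ Fintype.card α := by
    have := Finset.card_le_univ ({a, b} : Finset α)
    rwa [Finset.card_pair hab] at this
  omega

/-- The number of injective triples times the triple stabiliser. -/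
theorem card_eq_mul_stabilizer (G : Subgroup (Perm α)) (h3 : IsMultiplyPretransitive G α 3)
    (x : Fin 3 ↪ α) :
    Nat.card G = (Fintype.card α * (Fintype.card α - 1) * (Fintype.card α - 2)) *
      Nat.card (stabilizer G x) := by
  rw [← Subgroup.card_mul_index (stabilizer G x), MulAction.index_stabilizer]
  refine (congrArg (_ * ·) ((congrArg Set.ncard (Set.eq_univ_of_forall fun y =>
    (isMultiplyPretransitive_iff.mp h3) x y)).trans (Set.ncard_univ _))).trans ?_
  rw [Nat.card_eq_fintype_card (α := Fin 3 ↪ α), Fintype.card_embedding_eq, Fintype.card_fin,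
    Nat.descFactorial_succ, Nat.descFactorial_succ, Nat.descFactorial_succ,
    Nat.descFactorial_zero, Nat.sub_zero]
  ring

/-- Sylow data for a cycle of prime length `q` that is self-centralizing in `G`. -/
theorem sylow_count (G : Subgroup (Perm α)) {q : ℕ} [Fact q.Prime] {g : G} (hg : orderOf g = q)
    (hq2 : ¬ q ^ 2 ∣ Nat.card G) (hcent : Nat.card (Subgroup.centralizer ({g} : Set G)) = q) :
    ∃ k e : ℕ, e ∣ q - 1 ∧ Nat.card G = q * e * k ∧ k % q = 1 ∧
      Nat.card (Subgroup.normalizer ((Subgroup.zpowers g : Subgroup G) : Set G)) = q * e := by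
  have hq := (Fact.out : q.Prime)
  have hfac : (Nat.card G).factorization q = 1 := by
    have h1 : 1 ≤ (Nat.card G).factorization q := hq.factorization_pos_of_dvd Nat.card_pos.ne'
      (hg ▸ orderOf_dvd_natCard g)
    by_contra hne
    exact hq2 ((pow_dvd_pow q (by omega : 2 ≤ (Nat.card G).factorization q)).trans
      (Nat.ordProj_dvd _ _))
  let P : Sylow q G := Sylow.ofCard (Subgroup.zpowers g) (by rw [Nat.card_zpowers, hg, hfac, pow_one])
  set N := Subgroup.normalizer ((Subgroup.zpowers g : Subgroup G) : Set G)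
  let φ := (Subgroup.zpowers g).normalizerMonoidHom
  have hker : Nat.card φ.ker = q := by
    rw [Subgroup.normalizerMonoidHom_ker, ← hcent]
    have hc : Subgroup.centralizer ((Subgroup.zpowers g : Subgroup G) : Set G) =
        Subgroup.centralizer ({g} : Set G) := by
      rw [Subgroup.zpowers_eq_closure, Subgroup.centralizer_closure]
    rw [hc]
    refine Nat.card_congr (Subgroup.subgroupOfEquivOfLe ?_).toEquiv
    rw [← hc]
    exact Subgroup.centralizer_le_normalizer _
  have hcyc : IsCyclic (Subgroup.zpowers g) := inferInstance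
  have hrange : Nat.card φ.range ∣ q - 1 := by
    refine (Subgroup.card_subgroup_dvd_card φ.range).trans ?_
    rw [hcyc.card_mulAut, Nat.card_zpowers, hg, Nat.totient_prime hq]
  have hcardN : Nat.card N = q * Nat.card φ.range := by
    rw [← Subgroup.card_mul_index φ.ker, hker, Subgroup.index_ker]
  refine ⟨N.index, Nat.card φ.range, hrange, ?_, ?_, hcardN⟩
  · rw [← hcardN, Subgroup.card_mul_index]
  · have h1 := card_sylow_modEq_one q G
    rw [Sylow.card_eq_index_normalizer P] at h1
    rw [Nat.ModEq, Nat.mod_eq_of_lt hq.one_lt] at h1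
    exact h1

theorem twin_arith13 : ∀ r ∈ List.range 721, r ∣ 1814400 → ¬ 7 ∣ r → ∀ d ∈ Nat.divisors 12, ∀ e ∈ [2, 10],
    (1716 * r) % (13 * d) = 0 → (1716 * r) / (13 * d) % 13 = 1 →
    (1716 * r) % (11 * e) = 0 → (1716 * r) / (11 * e) % 11 = 1 →
    (e = 2 → r = 1) → r = 1 ∨ r = 60 := by
  decide +kernel

theorem twin_arith7 : ∀ r ∈ Nat.divisors 12, ∀ d ∈ Nat.divisors 6, ∀ e ∈ [2, 4],
    (210 * r) % (7 * d) = 0 → (210 * r) / (7 * d) % 7 = 1 →
    (210 * r) % (5 * e) = 0 → (210 * r) / (5 * e) % 5 = 1 →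
    (e = 2 → r = 1) → r = 1 ∨ r = 12 := by
  decide +kernel

section Twin

variable (G : Subgroup (Perm α)) (hA : G ≤ alternatingGroup α) {p : ℕ} (hp : p.Prime)
  (hn : Fintype.card α = p + 2) (h3 : IsMultiplyPretransitive G α 3) {g : Perm α} (hg : g ∈ G)
  (hgc : g.IsCycle) (hgp : g.support.card = p)

include hA hp hn h3 hg hgc hgp

/-- The data attached to the `p`-cycle. -/
theorem pcycle_data [Fact p.Prime] (hpG : ¬ p ^ 2 ∣ Nat.card G) (hp5 : 5 ≤ p) (x : Fin 3 ↪ α) :
    ∃ k e : ℕ, 2 ∣ e ∧ e ∣ p - 1 ∧ Nat.card G = p * e * k ∧ k % p = 1 ∧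
      (e = 2 → Nat.card (stabilizer G x) = 1) := by
  classical
  set g' : G := ⟨g, hg⟩ with hg'
  have hord : orderOf g' = p := by
    rw [hg', Subgroup.orderOf_mk]; exact hgc.orderOf.trans hgp
  have hcomp : g.supportᶜ.card = 2 := by rw [Finset.card_compl, hgp, hn]; omega
  obtain ⟨a, b, hab, hΓ⟩ := Finset.card_eq_two.mp hcomp
  have hfixed : ∀ z, g z = z ↔ z = a ∨ z = b := by
    intro z
    have h1 : z ∈ g.supportᶜ ↔ z = a ∨ z = b := by rw [hΓ]; simp
    rw [← h1, Finset.mem_compl, Perm.mem_support, not_not]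
  have hga : g a = a := (hfixed a).mpr (Or.inl rfl)
  have hgb : g b = b := (hfixed b).mpr (Or.inr rfl)
  set C := Subgroup.centralizer ({g'} : Set G) with hC
  have hgC : g' ∈ C := mem_cent_iff.mpr (Commute.refl g')
  have hCle : Nat.card C = p := by
    have hct : g.cycleType = {p} := by rw [hgc.cycleType, hgp]
    have hS : Nat.card (Subgroup.centralizer ({g} : Set (Perm α))) = 2 * p := by
      rw [Perm.nat_card_centralizer, hct, Multiset.sum_singleton, hn,
        show p + 2 - p = 2 by omega, Multiset.prod_singleton, Multiset.toFinset_singleton,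
        Finset.prod_singleton, Multiset.count_singleton_self]
      simp [mul_comm]
    set C' := C.map G.subtype
    have hC' : C' ≤ Subgroup.centralizer ({g} : Set (Perm α)) := by
      rintro _ ⟨y, hy, rfl⟩
      exact mem_cent_iff.mpr (congrArg Subtype.val (mem_cent_iff.mp hy).eq)
    have hC'c : Nat.card C' = Nat.card C := Subgroup.card_map_of_injective G.subtype_injective
    have h1 : Nat.card C ∣ 2 * p := hS ▸ hC'c ▸ Subgroup.card_dvd_of_le hC'
    have h2 : p ∣ Nat.card C := by
      refine hord ▸ ?_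
      rw [← Subgroup.orderOf_mk g' hgC]
      exact orderOf_dvd_natCard _
    obtain ⟨t, ht⟩ := h2
    have h4 : p * t ∣ p * 2 := by rw [← ht, mul_comm p 2]; exact h1
    rcases (Nat.dvd_prime Nat.prime_two).mp (Nat.dvd_of_mul_dvd_mul_left hp.pos h4) with h5 | h5
    · rw [ht, h5, mul_one]
    · exfalso
      have heq : C' = Subgroup.centralizer ({g} : Set (Perm α)) :=
        Subgroup.eq_of_le_of_card_ge hC' (by rw [hS, hC'c, ht, h5, mul_comm])
      have hsw : Equiv.swap a b ∈ C' := by
        rw [heq, mem_cent_iff]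
        show Equiv.swap a b * g = g * Equiv.swap a b
        rw [Equiv.mul_swap_eq_swap_mul g a b, hga, hgb]
      obtain ⟨y, -, hy⟩ := hsw
      have := Perm.mem_alternatingGroup.mp (hA y.2)
      rw [show (y : Perm α) = Equiv.swap a b from hy, Perm.sign_swap hab] at this
      exact absurd this (by decide)
  obtain ⟨k, e, he, hcard, hk, hN⟩ := sylow_count G hord hpG hCle
  set N := Subgroup.normalizer ((Subgroup.zpowers g' : Subgroup G) : Set G) with hNdef
  have hpfac : (Nat.card G).factorization p = 1 := by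
    have h1 : 1 ≤ (Nat.card G).factorization p := hp.factorization_pos_of_dvd Nat.card_pos.ne'
      (hord ▸ orderOf_dvd_natCard g')
    by_contra hne
    exact hpG ((pow_dvd_pow p (by omega : 2 ≤ (Nat.card G).factorization p)).trans
      (Nat.ordProj_dvd _ _))
  have hmove : ∀ u ∈ N, ((u : G) : Perm α) a = a ∨ ((u : G) : Perm α) a = b := by
    intro u hu
    obtain ⟨i, hi⟩ := Subgroup.mem_zpowers_iff.mp
      ((Subgroup.mem_normalizer_iff.mp (inv_mem hu) g').mp (Subgroup.mem_zpowers g'))
    rw [inv_inv] at hi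
    have h1 : (u : Perm α)⁻¹ * g * (u : Perm α) = g ^ i := by
      have := congrArg Subtype.val hi
      simpa using this.symm
    rw [← hfixed]
    calc g ((u : Perm α) a) = ((u : Perm α) * ((u : Perm α)⁻¹ * g * (u : Perm α))) a := by
          simp [Perm.mul_apply]
      _ = (u : Perm α) ((g ^ i) a) := by rw [h1]; rfl
      _ = _ := by rw [Perm.zpow_apply_eq_self_of_apply_eq_self hga]
  -- an element of the normalizer swapping the fixed points
  obtain ⟨u, huN, hua⟩ : ∃ u ∈ N, ((u : G) : Perm α) a = b := by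
    obtain ⟨c, hc⟩ := Finset.card_pos.mp (show 0 < g.support.card by omega)
    have hgcne := Perm.mem_support.mp hc
    have hca : c ≠ a := fun e => hgcne (e ▸ hga)
    have hcb : c ≠ b := fun e => hgcne (e ▸ hgb)
    obtain ⟨f, hf, fa, fb, -⟩ := exists_map_three h3 hab hca.symm hcb.symm hab.symm hcb.symm hca.symm
    set f' : G := ⟨f, hf⟩
    set H := stabilizer G a ⊓ stabilizer G b
    have hgH : g' ∈ H := ⟨hga, hgb⟩
    have hfgH : f' * g' * f'⁻¹ ∈ H := by
      have ea : f⁻¹ a = b := by rw [← fb]; simp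
      have eb : f⁻¹ b = a := by rw [← fa]; simp
      constructor
      · show f (g (f⁻¹ a)) = a
        rw [ea, hgb, fb]
      · show f (g (f⁻¹ b)) = b
        rw [eb, hga, fa]
    have hfacH : (Nat.card H).factorization p = 1 := by
      apply le_antisymm
      · rw [← hpfac]
        exact (Nat.factorization_le_iff_dvd Nat.card_pos.ne' Nat.card_pos.ne').mpr
          (Subgroup.card_subgroup_dvd_card H) p
      · refine hp.factorization_pos_of_dvd Nat.card_pos.ne' ?_
        rw [← hord, ← Subgroup.orderOf_mk g' hgH]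
        exact orderOf_dvd_natCard _
    have hoy : orderOf (f' * g' * f'⁻¹) = p :=
      (orderOf_injective (MulAut.conj f').toMonoidHom (MulAut.conj f').injective g').trans hord
    obtain ⟨k, hk⟩ := MulAction.exists_smul_eq H
      (Sylow.ofCard (Subgroup.zpowers (⟨_, hfgH⟩ : H))
        (by rw [Nat.card_zpowers, Subgroup.orderOf_mk, hoy, hfacH, pow_one]))
      (Sylow.ofCard (Subgroup.zpowers (⟨_, hgH⟩ : H))
        (by rw [Nat.card_zpowers, Subgroup.orderOf_mk, hord, hfacH, pow_one]))
    have hkm : k * ⟨_, hfgH⟩ * k⁻¹ ∈ Subgroup.zpowers (⟨_, hgH⟩ : H) := by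
      have h1 := congrArg (fun P : Sylow p H => (P : Subgroup H)) hk
      simp only [Sylow.coe_subgroup_smul] at h1
      have h4 : (MulAut.conj k • Subgroup.zpowers (⟨_, hfgH⟩ : H) : Subgroup H) =
          Subgroup.zpowers (⟨_, hgH⟩ : H) := h1
      rw [← h4]
      exact Subgroup.smul_mem_pointwise_smul _ (MulAut.conj k) _ (Subgroup.mem_zpowers _)
    refine ⟨(k : G) * f', ?_, ?_⟩
    · rw [hNdef, Subgroup.mem_normalizer_iff_map_conj_eq, MonoidHom.map_zpowers]
      refine Subgroup.eq_of_le_of_card_ge ?_ (le_of_eq ?_)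
      · rw [Subgroup.zpowers_le]
        obtain ⟨i, hi⟩ := Subgroup.mem_zpowers_iff.mp hkm
        refine ⟨i, ?_⟩
        have := congrArg (fun z : H => (z : G)) hi
        show g' ^ i = (k : G) * f' * g' * ((k : G) * f')⁻¹
        simp only [SubgroupClass.coe_zpow, Subgroup.coe_mul, Subgroup.coe_inv] at this
        rw [this]; group
      · rw [Nat.card_zpowers, Nat.card_zpowers]
        exact (orderOf_injective (MulAut.conj ((k : G) * f')).toMonoidHom
          (MulAut.conj _).injective g').symm
    · show ((k : G) : Perm α) (f a) = b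
      rw [fa]; exact k.2.2
  have h2 : Nat.card N = 2 * Nat.card (stabilizer N a) := by
    have hborb : (orbit N a) = {a, b} := by
      ext z
      constructor
      · rintro ⟨n, rfl⟩
        exact hmove n n.2
      · rintro (rfl | rfl)
        · exact mem_orbit_self _
        · exact ⟨⟨u, huN⟩, hua⟩
    have := Subgroup.card_mul_index (stabilizer N a)
    rw [MulAction.index_stabilizer, hborb, Set.ncard_pair hab] at this
    rw [← this, mul_comm]
  have he2 : 2 ∣ e := by
    have : 2 ∣ p * e := ⟨_, hN.symm.trans h2⟩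
    rcases Nat.prime_two.dvd_mul.mp this with h | h
    · exact absurd ((Nat.prime_dvd_prime_iff_eq Nat.prime_two hp).mp h) (by omega)
    · exact h
  refine ⟨k, e, he2, he, hcard, hk, fun he' => ?_⟩
  -- `e = 2`: the normalizer in the stabilizer of the pair is the cycle
  set H := stabilizer G a ⊓ stabilizer G b with hH
  have hgH : g' ∈ H := ⟨hga, hgb⟩
  set gH : H := ⟨g', hgH⟩
  have hHfac : (Nat.card H).factorization p = 1 := by
    apply le_antisymm
    · rw [← hpfac]
      exact (Nat.factorization_le_iff_dvd Nat.card_pos.ne' Nat.card_pos.ne').mpr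
        (Subgroup.card_subgroup_dvd_card H) p
    · refine hp.factorization_pos_of_dvd Nat.card_pos.ne' ?_
      rw [← hord, ← Subgroup.orderOf_mk g' hgH]
      exact orderOf_dvd_natCard _
  let P : Sylow p H := Sylow.ofCard (Subgroup.zpowers gH)
    (by rw [Nat.card_zpowers, Subgroup.orderOf_mk, hord, hHfac, pow_one])
  have hPcent : Subgroup.normalizer ((P : Subgroup H) : Set H) ≤
      Subgroup.centralizer ((P : Subgroup H) : Set H) := by
    show Subgroup.normalizer ((Subgroup.zpowers gH : Subgroup H) : Set H) ≤ _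
    have hNH : ∀ y : H, y ∈ Subgroup.normalizer ((Subgroup.zpowers gH : Subgroup H) : Set H) →
        (y : G) ∈ N := by
      intro y hy
      rw [Subgroup.mem_normalizer_iff_map_conj_eq, MonoidHom.map_zpowers] at hy
      rw [hNdef, Subgroup.mem_normalizer_iff_map_conj_eq, MonoidHom.map_zpowers]
      have := congrArg (Subgroup.map H.subtype) hy
      rwa [MonoidHom.map_zpowers, MonoidHom.map_zpowers] at this
    have hcardNH : Nat.card (Subgroup.normalizer ((Subgroup.zpowers gH : Subgroup H) : Set H)) ≤ p := by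
      have h1 : Nat.card (stabilizer N a) = p := by
        rw [hN, he'] at h2; omega
      rw [← h1]
      refine Nat.card_le_card_of_injective (fun y => ⟨⟨((y : H) : G), hNH _ y.2⟩, (y : H).2.1⟩)
        fun y y' h => ?_
      exact Subtype.ext (Subtype.ext (congrArg (fun z : stabilizer N a => ((z : N) : G)) h))
    have heq : Subgroup.normalizer ((Subgroup.zpowers gH : Subgroup H) : Set H) =
        Subgroup.zpowers gH := (Subgroup.eq_of_le_of_card_ge Subgroup.le_normalizer
      (by rw [Nat.card_zpowers, Subgroup.orderOf_mk, hord]; exact hcardNH)).symm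
    rw [heq]
    exact Subgroup.le_centralizer _
  set K := (MonoidHom.transferSylow P hPcent).ker
  have hKP : K.IsComplement' (P : Subgroup H) := MonoidHom.ker_transferSylow_isComplement' P hPcent
  have hKp : ¬ p ∣ Nat.card K := MonoidHom.not_dvd_card_ker_transferSylow P hPcent
  -- `K` fixes every point
  have hKfix : ∀ w ∈ K, ((w : H) : G) = 1 := by
    haveI htr := Perm.isPretransitive_of_isCycle_mem hgc hg
    have hcast : ∀ z : H, ∀ y, g y = y → ((z : G) : Perm α) y = y := by
      intro z y hy
      rcases (hfixed y).mp hy with rfl | rfl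
      exacts [z.2.1, z.2.2]
    have horb : ∀ x, g x ≠ x → ∀ w ∈ K, ((w : H) : G).1 x = x := by
      intro x hx w hw
      let O : Finset α := Finset.univ.filter fun y => y ∈ orbit K x
      have hOcard : O.card ∣ Nat.card K := by
        refine dvd_trans ?_ (Subgroup.index_dvd_card (stabilizer K x))
        rw [MulAction.index_stabilizer]
        refine dvd_of_eq ?_
        rw [← Set.ncard_coe_finset]; congr 1; ext y; simp [O]
      -- translates of the orbit by powers of the cycle are orbits
      have hlt : O.card ≤ p := by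
        rw [← hgp]
        refine Finset.card_le_card fun y hy => ?_
        simp only [O, Finset.mem_filter, Finset.mem_univ, true_and] at hy
        obtain ⟨z, rfl⟩ := hy
        rw [Perm.mem_support]
        intro e
        have := hcast ((z : H)⁻¹) _ e
        refine hx ?_
        have h' : (z : H) • x = ((((z : H) : G)) : Perm α) x := rfl
        have : (((z : H) : G) : Perm α) x = x := by
          have h1 : (((z : H) : G) : Perm α)⁻¹ ((((z : H) : G) : Perm α) x) = (((z : H) : G) : Perm α) x := this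
          simpa using h1.symm
        have e' : g ((((z : H) : G) : Perm α) x) = (((z : H) : G) : Perm α) x := e
        rwa [this] at e'
      by_cases h1 : O.card = 1
      · obtain ⟨y, hy⟩ := Finset.card_eq_one.mp h1
        have hxy : x ∈ O := by simp [O]
        have hwy : ((w : H) : G).1 x ∈ O := by
          simp only [O, Finset.mem_filter, Finset.mem_univ, true_and]
          exact ⟨⟨w, hw⟩, rfl⟩
        rw [hy, Finset.mem_singleton] at hxy hwy
        rw [hwy, hxy]
      · exfalso
        -- orbits of translates all have the same size, covering `p` points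
        have hdisj : ∀ y, g y ≠ y → (Finset.univ.filter fun z => z ∈ orbit K y).card = O.card := by
          intro y hy
          obtain ⟨i, hi⟩ := hgc.exists_zpow_eq hx hy
          have hbij : (O.image (g ^ i : Perm α)) = Finset.univ.filter fun z => z ∈ orbit K y := by
            ext z
            simp only [Finset.mem_image, Finset.mem_filter, Finset.mem_univ, true_and, O]
            constructor
            · rintro ⟨_, ⟨k, rfl⟩, rfl⟩
              refine ⟨⟨gH ^ i * k * (gH ^ i)⁻¹, (inferInstance : K.Normal).conj_mem _ k.2 _⟩, ?_⟩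
              show (((gH ^ i * (k : H) * (gH ^ i)⁻¹ : H) : G) : Perm α) y = _
              rw [← hi]
              simp [gH, g', Perm.mul_apply]
              rfl
            · rintro ⟨k, rfl⟩
              refine ⟨_, ⟨⟨(gH ^ i)⁻¹ * k * gH ^ i, (inferInstance : K.Normal).conj_mem' _ k.2 _⟩, rfl⟩, ?_⟩
              show (g ^ i) ((((gH ^ i)⁻¹ * (k : H) * gH ^ i : H) : G).1 x) = _
              rw [← hi]
              simp [gH, g', Perm.mul_apply]
              rfl
          rw [← hbij, Finset.card_image_of_injective _ (g ^ i : Perm α).injective]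
        have hdvd : O.card ∣ p := by
          rw [← hgp]
          let q : α → Finset α := fun y => Finset.univ.filter fun z => z ∈ orbit K y
          rw [Finset.card_eq_sum_card_fiberwise (f := q) (t := g.support.image q)
            (fun y hy => Finset.mem_image_of_mem q hy)]
          refine Finset.dvd_sum fun s hs => ?_
          obtain ⟨y, hy, rfl⟩ := Finset.mem_image.mp hs
          rw [← hdisj y (Perm.mem_support.mp hy)]
          refine dvd_of_eq (congrArg Finset.card ?_)
          ext z
          simp only [Finset.mem_filter, Finset.mem_univ, true_and, q]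
          constructor
          · intro hz
            refine ⟨?_, ?_⟩
            · obtain ⟨k, rfl⟩ := hz
              rw [Perm.mem_support]
              intro e
              apply Perm.mem_support.mp hy
              have := hcast ((k : H)⁻¹) _ e
              have h2 : (((k : H) : G) : Perm α) y = y := by
                have h1 : (((k : H) : G) : Perm α)⁻¹ ((((k : H) : G) : Perm α) y) = (((k : H) : G) : Perm α) y := this
                simpa using h1.symm
              have e' : g ((((k : H) : G) : Perm α) y) = (((k : H) : G) : Perm α) y := e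
              rwa [h2] at e'
            · ext z'
              simp only [Finset.mem_filter, Finset.mem_univ, true_and]
              rw [orbit_eq_iff.mpr hz]
          · rintro ⟨-, hz⟩
            have : z ∈ Finset.univ.filter fun w => w ∈ orbit K z := by simp
            rw [hz] at this
            simpa using this
        rcases (Nat.dvd_prime hp).mp hdvd with h | h
        · exact h1 h
        · exact hKp (h ▸ hOcard)
    intro w hw
    apply Subtype.ext
    ext y
    by_cases hy : g y = y
    · exact hcast w y hy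
    · exact horb y hy w hw
  have hK1 : Nat.card K = 1 := by
    rw [Nat.card_eq_one_iff_unique]
    refine ⟨⟨fun s t => Subtype.ext (Subtype.ext ?_)⟩, ⟨1⟩⟩
    rw [hKfix _ s.2, hKfix _ t.2]
  have hHcard : Nat.card H = p := by
    rw [← hKP.card_mul_card, hK1, one_mul]
    show Nat.card (Subgroup.zpowers gH) = p
    rw [Nat.card_zpowers, Subgroup.orderOf_mk, hord]
  -- the stabilizer of any triple is trivial
  obtain ⟨c, hc⟩ := Finset.card_pos.mp (show 0 < g.support.card by omega)
  have hgcne := Perm.mem_support.mp hc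
  have hca : c ≠ a := fun e => hgcne (e ▸ hga)
  have hcb : c ≠ b := fun e => hgcne (e ▸ hgb)
  obtain ⟨y, hya, hyb, hyc⟩ := exists_emb3 hab hca.symm hcb.symm
  have hy1 : Nat.card (stabilizer G y) = 1 := by
    rw [Subgroup.card_eq_one, eq_bot_iff]
    intro w hw
    have e : ∀ i, (w : Perm α) (y i) = y i := fun i => by
      conv_rhs => rw [← mem_stabilizer_iff.mp hw]
      rfl
    have hwH : w ∈ H := ⟨show (w : Perm α) a = a by rw [← hya]; exact e 0,
      show (w : Perm α) b = b by rw [← hyb]; exact e 1⟩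
    obtain ⟨i, hi⟩ : (⟨w, hwH⟩ : H) ∈ Subgroup.zpowers gH := by
      have : Subgroup.zpowers gH = ⊤ := Subgroup.eq_top_of_card_eq _ (by
        rw [Nat.card_zpowers, Subgroup.orderOf_mk, hord, hHcard])
      rw [this]; exact Subgroup.mem_top _
    have hw' : (w : Perm α) = g ^ i := by
      have := congrArg (fun z : H => ((z : G) : Perm α)) hi
      simpa [gH, g'] using this.symm
    have hfix : (g ^ i) c = c := by rw [← hw', ← hyc]; exact e 2
    rw [show g ^ i = 1 by
      obtain ⟨m, hm⟩ : ∃ m : ℕ, g ^ i = g ^ m := ⟨(i % orderOf g).toNat, by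
        rw [← zpow_natCast, Int.toNat_of_nonneg (Int.emod_nonneg _ (by
          exact_mod_cast (orderOf_pos g).ne')), zpow_mod_orderOf]⟩
      rw [hm] at hfix ⊢
      exact hgc.pow_eq_one_iff.mpr ⟨c, hgcne, hfix⟩] at hw'
    exact Subgroup.mem_bot.mpr (Subtype.ext hw')
  have := card_eq_mul_stabilizer G h3 x
  rw [card_eq_mul_stabilizer G h3 y, hy1] at this
  exact (Nat.eq_of_mul_eq_mul_left (by
    rw [hn]
    have : 0 < p + 2 - 1 := by omega
    have : 0 < p + 2 - 2 := by omega
    positivity) this).symm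

end Twin

/-- A three-transitive group of odd degree `n ≡ 1 (mod 3)` that is regular on triples does not
lie in the alternating group. -/
theorem no_regular_on_triples (G : Subgroup (Perm α)) (hA : G ≤ alternatingGroup α)
    (h3 : IsMultiplyPretransitive G α 3) (hodd : Odd (Fintype.card α))
    (hmod : Fintype.card α % 3 = 1) (h7 : 7 ≤ Fintype.card α)
    (hreg : ∀ x : Fin 3 ↪ α, Nat.card (stabilizer G x) = 1) : False := by
  classical
  haveI : Fact (Nat.Prime 3) := ⟨Nat.prime_three⟩
  set n := Fintype.card α with hn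
  have huniq : ∀ w ∈ G, ∀ a b c : α, a ≠ b → a ≠ c → b ≠ c → w a = a → w b = b → w c = c → w = 1 := by
    intro w hw a b c hab hac hbc ha hb hc
    obtain ⟨x, hxa, hxb, hxc⟩ := exists_emb3 hab hac hbc
    have hmem : (⟨w, hw⟩ : G) ∈ stabilizer G x := by
      ext i
      fin_cases i
      · show w (x 0) = x 0; rw [hxa, ha]
      · show w (x 1) = x 1; rw [hxb, hb]
      · show w (x 2) = x 2; rw [hxc, hc]
    rw [Subgroup.card_eq_one.mp (hreg x), Subgroup.mem_bot] at hmem
    exact congrArg Subtype.val hmem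
  have hfix2 : ∀ w ∈ G, w ≠ 1 → w.supportᶜ.card ≤ 2 := by
    intro w hw hw1
    by_contra h
    obtain ⟨a, b, c, ha, hb, hc, hab, hac, hbc⟩ := Finset.two_lt_card_iff.mp (not_le.mp h)
    simp only [Finset.mem_compl, Perm.mem_support, not_not] at ha hb hc
    exact hw1 (huniq w hw a b c hab hac hbc ha hb hc)
  have h3G : 3 ∣ Nat.card G := by
    obtain ⟨x⟩ : Nonempty (Fin 3 ↪ α) := by
      rw [Function.Embedding.nonempty_iff_card_le, Fintype.card_fin]; omega
    rw [card_eq_mul_stabilizer G h3 x, ← hn]
    exact Dvd.dvd.mul_right (Dvd.dvd.mul_right (Dvd.dvd.mul_left (by omega) _) _) _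
  obtain ⟨u, hu⟩ := exists_prime_orderOf_dvd_card' 3 h3G
  have hu' : orderOf (u : Perm α) = 3 := by rw [Subgroup.orderOf_coe]; exact hu
  have hu1 : (u : Perm α) ≠ 1 := fun e => by rw [e, orderOf_one] at hu'; omega
  have hmult : 3 ∣ (u : Perm α).support.card := by
    rw [← Perm.sum_cycleType]
    refine Multiset.dvd_sum fun m hm => ?_
    rw [Perm.pow_prime_eq_one_iff.mp (show (u : Perm α) ^ 3 = 1 by rw [← hu', pow_orderOf_eq_one]) m hm]
  have hfu : (u : Perm α).supportᶜ.card = 1 := by
    have h1 := hfix2 _ u.2 hu1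
    rw [Finset.card_compl] at h1 ⊢
    have := (u : Perm α).support.card_le_univ
    omega
  obtain ⟨c, hc⟩ := Finset.card_eq_one.mp hfu
  have huc : ∀ z, (u : Perm α) z = z ↔ z = c := fun z => by
    have h : z ∈ (u : Perm α).supportᶜ ↔ z = c := by rw [hc, Finset.mem_singleton]
    rwa [Finset.mem_compl, Perm.mem_support, not_not] at h
  -- elements fixing exactly `c`
  let S := {w : Perm α // w ∈ G ∧ w c = c ∧ ∀ z, z ≠ c → w z ≠ z}
  let T := {z : α // z ≠ c}
  have hT : Nat.card T = n - 1 := by
    rw [Nat.card_eq_fintype_card, Fintype.card_subtype_compl, Fintype.card_subtype_eq, hn]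
  let Gc := {w : Perm α // w ∈ G ∧ w c = c}
  let Fx := {wz : Gc × T // wz.1.1 wz.2.1 = wz.2.1 ∧ wz.1.1 ≠ 1}
  -- size of the point stabilizer
  have hGc : Nat.card Gc = (n - 1) * (n - 2) := by
    obtain ⟨a, b, hab⟩ := Fintype.exists_pair_of_one_lt_card (α := T) (by
      rw [← Nat.card_eq_fintype_card, hT]; omega)
    let e : Gc → {xy : T × T // xy.1 ≠ xy.2} := fun w =>
      ⟨(⟨w.1 a.1, fun h => a.2 (w.1.injective (h.trans w.2.2.symm))⟩,
        ⟨w.1 b.1, fun h => b.2 (w.1.injective (h.trans w.2.2.symm))⟩),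
        fun h => hab (Subtype.ext (w.1.injective (congrArg Subtype.val h)))⟩
    have he : Function.Bijective e := by
      constructor
      · intro w w' h
        simp only [e, Subtype.mk.injEq, Prod.mk.injEq] at h
        apply Subtype.ext
        rw [eq_comm, ← inv_mul_eq_one]
        refine huniq _ (G.mul_mem (G.inv_mem w'.2.1) w.2.1) c a.1 b.1 a.2.symm b.2.symm
          (fun h' => hab (Subtype.ext h')) ?_ ?_ ?_
        · rw [Perm.mul_apply, w.2.2, Perm.inv_eq_iff_eq, w'.2.2]
        · rw [Perm.mul_apply, show w.1 a.1 = w'.1 a.1 from congrArg Subtype.val h.1, Perm.inv_eq_iff_eq]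
        · rw [Perm.mul_apply, show w.1 b.1 = w'.1 b.1 from congrArg Subtype.val h.2, Perm.inv_eq_iff_eq]
      · rintro ⟨⟨x, y⟩, hxy⟩
        obtain ⟨f, hf, fc, fa, fb⟩ := exists_map_three h3 a.2.symm b.2.symm
          (fun h' => hab (Subtype.ext h')) x.2.symm y.2.symm (fun h' => hxy (Subtype.ext h'))
        exact ⟨⟨f, hf, fc⟩, Subtype.ext (Prod.ext (Subtype.ext fa) (Subtype.ext fb))⟩
    rw [Nat.card_congr (Equiv.ofBijective e he), Nat.card_eq_fintype_card,
      Fintype.card_subtype_compl]
    have hdiag : Fintype.card {xy : T × T // xy.1 = xy.2} = Fintype.card T :=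
      Fintype.card_congr ⟨fun xy => xy.1.1, fun t => ⟨(t, t), rfl⟩,
        fun xy => Subtype.ext (Prod.ext rfl xy.2), fun t => rfl⟩
    rw [hdiag, Fintype.card_prod, ← Nat.card_eq_fintype_card, hT,
      show n - 2 = n - 1 - 1 by omega]
    exact (Nat.mul_sub_one _ _).symm
  -- each nonidentity element fixing `c` and `z`: there are `n - 3` for each `z`
  have hFx : (n - 1) * (n - 3) ≤ Nat.card Fx := by
    have hchoose : ∀ z : T, ∃ a : α, a ≠ c ∧ a ≠ z.1 := by
      intro z
      obtain ⟨a, -, ha⟩ := Finset.exists_mem_notMem_of_card_lt_card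
        (s := ({c, z.1} : Finset α)) (t := Finset.univ)
        (by rw [Finset.card_univ]; exact lt_of_le_of_lt Finset.card_le_two (by omega))
      simp only [Finset.mem_insert, Finset.mem_singleton, not_or] at ha
      exact ⟨a, ha.1, ha.2⟩
    choose a ha1 ha2 using hchoose
    let D := Σ z : T, {y : α // y ≠ c ∧ y ≠ z.1 ∧ y ≠ a z}
    have hD : Nat.card D = (n - 1) * (n - 3) := by
      rw [Nat.card_sigma]
      have : ∀ z : T, Nat.card {y : α // y ≠ c ∧ y ≠ z.1 ∧ y ≠ a z} = n - 3 := by
        intro z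
        rw [Nat.card_eq_fintype_card, Fintype.card_subtype]
        have : (Finset.univ.filter fun y => y ≠ c ∧ y ≠ z.1 ∧ y ≠ a z) =
            ({c, z.1, a z} : Finset α)ᶜ := by ext y; simp
        rw [this, Finset.card_compl, Finset.card_insert_of_notMem, Finset.card_pair (ha2 z).symm]
        simp [z.2.symm, (ha1 z).symm]
      simp only [this, Finset.sum_const, Finset.card_univ, smul_eq_mul]
      rw [← Nat.card_eq_fintype_card, hT]
    rw [← hD]
    have hmap : ∀ d : D, ∃ f ∈ G, f c = c ∧ f d.1.1 = d.1.1 ∧ f (a d.1) = d.2.1 := fun d =>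
      exists_map_three h3 d.1.2.symm (ha1 d.1).symm (ha2 d.1).symm d.1.2.symm d.2.2.1.symm
        d.2.2.2.1.symm
    choose f hf hfc hfz hfa using hmap
    refine Nat.card_le_card_of_injective (fun d => ⟨(⟨f d, hf d, hfc d⟩, d.1), hfz d, fun e => ?_⟩) ?_
    · have := hfa d
      rw [show f d = 1 from e, Perm.one_apply] at this
      exact d.2.2.2.2 this.symm
    · rintro ⟨z, y⟩ ⟨z', y'⟩ h
      obtain rfl : z = z' := congrArg (fun w : Fx => w.1.2) h
      have hff : f ⟨z, y⟩ = f ⟨z, y'⟩ := congrArg (fun w : Fx => w.1.1.1) h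
      have : y = y' := Subtype.ext (by rw [← hfa ⟨z, y⟩, ← hfa ⟨z, y'⟩, hff])
      rw [this]
  -- counting in the stabilizer of `c`
  have hcount : Nat.card S + Nat.card Fx + 1 ≤ Nat.card Gc := by
    have : Nat.card S + Nat.card Fx + 1 = Nat.card (Option (S ⊕ Fx)) := by
      rw [Finite.card_option, Nat.card_sum]
    rw [this]
    refine Nat.card_le_card_of_injective (fun o => o.elim ⟨1, G.one_mem, rfl⟩
      (Sum.elim (fun s => ⟨s.1, s.2.1, s.2.2.1⟩) (fun w => w.1.1))) ?_
    obtain ⟨a, ha⟩ : ∃ a, a ≠ c := Fintype.exists_ne_of_one_lt_card (by omega) c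
    rintro (_ | s | w) (_ | s' | w') h <;>
      simp only [Option.elim, Sum.elim_inl, Sum.elim_inr] at h
    · rfl
    · exact absurd (by rw [← congrArg Subtype.val h]; rfl) (s'.2.2.2 a ha)
    · exact absurd (congrArg Subtype.val h).symm w'.2.2
    · exact absurd (by rw [congrArg Subtype.val h]; rfl) (s.2.2.2 a ha)
    · have hh : s.1 = s'.1 := congrArg (fun w : Gc => (w : Perm α)) h
      rw [Subtype.ext hh]
    · exact absurd ((congrArg (fun w : Gc => w.1 w'.1.2.1) h).trans w'.2.1) (s.2.2.2 _ w'.1.2.2)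
    · exact absurd (congrArg Subtype.val h) w.2.2
    · exact absurd ((congrArg (fun z : Gc => z.1 w.1.2.1) h).symm.trans w.2.1)
        (s'.2.2.2 _ w.1.2.2)
    · have hz : w.1.2 = w'.1.2 := by
        by_contra hne
        refine w.2.2 (huniq _ w.1.1.2.1 c w.1.2.1 w'.1.2.1 w.1.2.2.symm w'.1.2.2.symm
          (fun e => hne (Subtype.ext e)) w.1.1.2.2 w.2.1 ?_)
        rw [h]; exact w'.2.1
      exact congrArg (fun z => some (Sum.inr z)) (Subtype.ext (Prod.ext h hz))
  -- involutions swapping a given pair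
  let I := {s : S // s.1 ^ 2 = 1}
  have hI : (n - 1) * (n - 2) ≤ Nat.card I * (n - 1) := by
    rw [← hT, ← Nat.card_prod]
    let D := Σ a : T, {b : α // b ≠ c ∧ b ≠ a.1}
    have hD : Nat.card D = (n - 1) * (n - 2) := by
      rw [Nat.card_sigma]
      have : ∀ a : T, Nat.card {b : α // b ≠ c ∧ b ≠ a.1} = n - 2 := by
        intro a
        rw [Nat.card_eq_fintype_card, Fintype.card_subtype]
        have : (Finset.univ.filter fun y => y ≠ c ∧ y ≠ a.1) =
            ({c, a.1} : Finset α)ᶜ := by ext y; simp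
        rw [this, Finset.card_compl, Finset.card_pair a.2.symm]
      simp only [this, Finset.sum_const, Finset.card_univ, smul_eq_mul]
      rw [← Nat.card_eq_fintype_card, hT]
    rw [hT, ← hD]
    have hmap : ∀ d : D, ∃ f ∈ G, f c = c ∧ f d.1.1 = d.2.1 ∧ f d.2.1 = d.1.1 := fun d =>
      exists_map_three h3 d.1.2.symm d.2.2.1.symm d.2.2.2.symm d.2.2.1.symm d.1.2.symm d.2.2.2
    choose f hf hfc hfab hfba using hmap
    have hsq : ∀ d, f d ^ 2 = 1 := fun d => huniq _ (G.pow_mem (hf d) 2) c d.1.1 d.2.1
      d.1.2.symm d.2.2.1.symm d.2.2.2.symm (by rw [pow_two, Perm.mul_apply, hfc, hfc])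
      (by rw [pow_two, Perm.mul_apply, hfab, hfba]) (by rw [pow_two, Perm.mul_apply, hfba, hfab])
    have hS : ∀ d, ∀ z, z ≠ c → f d z ≠ z := by
      intro d z hz e
      have hne : f d ≠ 1 := fun e' => d.2.2.2 (by
        have := hfab d; rw [e', Perm.one_apply] at this; exact this.symm)
      have hev : 2 ∣ (f d).support.card := by
        haveI := Fact.mk Nat.prime_two
        rw [← Perm.sum_cycleType]
        refine Multiset.dvd_sum fun m hm => ?_
        rw [Perm.pow_prime_eq_one_iff.mp (hsq d) m hm]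
      have h2 := hfix2 _ (hf d) hne
      have hsub : ({c, z} : Finset α) ⊆ (f d).supportᶜ := by
        intro y hy
        simp only [Finset.mem_insert, Finset.mem_singleton] at hy
        rw [Finset.mem_compl, Perm.mem_support, not_not]
        rcases hy with rfl | rfl
        exacts [hfc d, e]
      have h3' := Finset.card_le_card hsub
      rw [Finset.card_pair hz.symm, Finset.card_compl] at h3'
      rw [Finset.card_compl] at h2
      obtain ⟨k, hk⟩ := hodd
      omega
    refine Nat.card_le_card_of_injective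
      (fun d => ((⟨⟨f d, hf d, hfc d, hS d⟩, hsq d⟩ : I), d.1)) ?_
    rintro ⟨a, b⟩ ⟨a', b'⟩ h
    obtain rfl : a = a' := congrArg Prod.snd h
    have hff : f ⟨a, b⟩ = f ⟨a, b'⟩ := congrArg (fun t : I × T => t.1.1.1) h
    have : b = b' := Subtype.ext (by rw [← hfab ⟨a, b⟩, ← hfab ⟨a, b'⟩, hff])
    rw [this]
  have hu_mem : Nat.card I < Nat.card S := by
    refine Finite.card_subtype_lt (x := (⟨(u : Perm α), u.2, (huc c).mpr rfl,
      fun z hz e => hz ((huc z).mp e)⟩ : S)) ?_
    intro h
    have := orderOf_dvd_of_pow_eq_one (show (u : Perm α) ^ 2 = 1 from h)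
    rw [hu'] at this
    omega
  have hI' : n - 2 ≤ Nat.card I :=
    Nat.le_of_mul_le_mul_left (by rw [mul_comm (n - 1) (Nat.card I)]; exact hI) (by omega)
  have e1 : (n - 1) * (n - 2) = (n - 1) * (n - 3) + (n - 1) := by
    rw [show n - 2 = (n - 3) + 1 by omega, mul_add, mul_one]
  omega

/-- The case of degree 13 with triple stabilisers of order 60. -/
theorem no_stabilizer_sixty (G : Subgroup (Perm α)) (hprim : IsPreprimitive G α)
    (h3 : IsMultiplyPretransitive G α 3) (hn : Fintype.card α = 13)
    (hst : ∀ x : Fin 3 ↪ α, Nat.card (stabilizer G x) = 60) : alternatingGroup α ≤ G := by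
  classical
  haveI : Fact (Nat.Prime 3) := ⟨Nat.prime_three⟩
  obtain ⟨x⟩ : Nonempty (Fin 3 ↪ α) := by
    rw [Function.Embedding.nonempty_iff_card_le, Fintype.card_fin]; omega
  obtain ⟨w, hw⟩ := exists_prime_orderOf_dvd_card' 3 (by rw [hst x]; norm_num : 3 ∣ Nat.card (stabilizer G x))
  set wp : Perm α := ((w : G) : Perm α) with hwp
  have hwo : orderOf wp = 3 := by rw [hwp, Subgroup.orderOf_coe, Subgroup.orderOf_coe]; exact hw
  have hwG : wp ∈ G := (w : G).2
  have hwx : ∀ i, wp (x i) = x i := fun i => by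
    conv_rhs => rw [← mem_stabilizer_iff.mp w.2]
    rfl
  have hw3 : wp ^ 3 = 1 := by rw [← hwo, pow_orderOf_eq_one]
  have hmult : 3 ∣ wp.support.card := by
    rw [← Perm.sum_cycleType]
    refine Multiset.dvd_sum fun m hm => ?_
    rw [Perm.pow_prime_eq_one_iff.mp hw3 m hm]
  have hF3 : 3 ≤ wp.supportᶜ.card := by
    have : Finset.univ.map x ⊆ wp.supportᶜ := by
      intro y hy
      obtain ⟨i, -, rfl⟩ := Finset.mem_map.mp hy
      rw [Finset.mem_compl, Perm.mem_support, not_not]
      exact hwx i
    simpa using Finset.card_le_card this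
  have hfix : ∀ z, wp z = z ↔ z ∈ wp.supportᶜ := fun z => by
    rw [Finset.mem_compl, Perm.mem_support, not_not]
  have hcardG : Nat.card G = 102960 := by
    rw [card_eq_mul_stabilizer G h3 x, hn, hst x]
  have hmapF : ∀ a b c a' b' c', a ∈ wp.supportᶜ → b ∈ wp.supportᶜ → c ∈ wp.supportᶜ →
      a' ∈ wp.supportᶜ → b' ∈ wp.supportᶜ → c' ∈ wp.supportᶜ → a ≠ b → a ≠ c → b ≠ c →
      a' ≠ b' → a' ≠ c' → b' ≠ c' →
      ∃ f ∈ G, f a = a' ∧ f b = b' ∧ f c = c' ∧ ∃ i : ℤ, f * wp * f⁻¹ = wp ^ i := by
    intro a b c a' b' c' ha hb hc ha' hb' hc' hab hac hbc hab' hac' hbc'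
    obtain ⟨f, hf, fa, fb, fc⟩ := exists_map_three h3 hab hac hbc hab' hac' hbc'
    obtain ⟨y, hya, hyb, hyc⟩ := exists_emb3 hab' hac' hbc'
    set H := stabilizer G y
    have hwH : (w : G) ∈ H := by
      ext i; fin_cases i
      · show wp (y 0) = y 0; rw [hya]; exact (hfix _).mpr ha'
      · show wp (y 1) = y 1; rw [hyb]; exact (hfix _).mpr hb'
      · show wp (y 2) = y 2; rw [hyc]; exact (hfix _).mpr hc'
    have hfwH : (⟨f, hf⟩ * (w : G) * (⟨f, hf⟩ : G)⁻¹) ∈ H := by
      ext i; fin_cases i
      · show f (wp (f⁻¹ (y 0))) = y 0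
        rw [hya, ← fa, show f⁻¹ (f a) = a by simp, (hfix _).mpr ha]
      · show f (wp (f⁻¹ (y 1))) = y 1
        rw [hyb, ← fb, show f⁻¹ (f b) = b by simp, (hfix _).mpr hb]
      · show f (wp (f⁻¹ (y 2))) = y 2
        rw [hyc, ← fc, show f⁻¹ (f c) = c by simp, (hfix _).mpr hc]
    have hfacH : (Nat.card H).factorization 3 = 1 := by
      rw [hst y]
      have h9 : Nat.factorization 60 3 < 2 := by
        rw [← not_le, ← Nat.Prime.pow_dvd_iff_le_factorization Nat.prime_three (by norm_num)]
        norm_num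
      have h3' : 1 ≤ Nat.factorization 60 3 := by
        rw [← Nat.Prime.pow_dvd_iff_le_factorization Nat.prime_three (by norm_num)]
        norm_num
      omega
    have how : orderOf (w : G) = 3 := by rw [Subgroup.orderOf_coe]; exact hw
    have hoy : orderOf (⟨f, hf⟩ * (w : G) * (⟨f, hf⟩ : G)⁻¹) = 3 :=
      (orderOf_injective (MulAut.conj (⟨f, hf⟩ : G)).toMonoidHom (MulAut.conj _).injective _).trans how
    obtain ⟨k, hk⟩ := MulAction.exists_smul_eq H
      (Sylow.ofCard (Subgroup.zpowers (⟨_, hfwH⟩ : H))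
        (by rw [Nat.card_zpowers, Subgroup.orderOf_mk, hoy, hfacH, pow_one]) : Sylow 3 H)
      (Sylow.ofCard (Subgroup.zpowers (⟨_, hwH⟩ : H))
        (by rw [Nat.card_zpowers, Subgroup.orderOf_mk, how, hfacH, pow_one]) : Sylow 3 H)
    have hkm : k * ⟨_, hfwH⟩ * k⁻¹ ∈ Subgroup.zpowers (⟨_, hwH⟩ : H) := by
      have h1 := congrArg (fun P : Sylow 3 H => (P : Subgroup H)) hk
      simp only [Sylow.coe_subgroup_smul] at h1
      have h4 : (MulAut.conj k • Subgroup.zpowers (⟨_, hfwH⟩ : H) : Subgroup H) =
          Subgroup.zpowers (⟨_, hwH⟩ : H) := h1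
      rw [← h4]
      exact Subgroup.smul_mem_pointwise_smul _ (MulAut.conj k) _ (Subgroup.mem_zpowers _)
    obtain ⟨i, hi⟩ := Subgroup.mem_zpowers_iff.mp hkm
    have hi' : wp ^ i = ((k : G) : Perm α) * (f * wp * f⁻¹) * ((k : G) : Perm α)⁻¹ := by
      have := congrArg (fun z : H => ((z : G) : Perm α)) hi
      simpa [wp] using this
    have e : ∀ i, ((k : G) : Perm α) (y i) = y i := fun i => by
      conv_rhs => rw [← mem_stabilizer_iff.mp k.2]
      rfl
    refine ⟨((k : G) : Perm α) * f, G.mul_mem (k : G).2 hf, ?_, ?_, ?_, i, ?_⟩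
    · rw [Perm.mul_apply, fa, ← hya]; exact e 0
    · rw [Perm.mul_apply, fb, ← hyb]; exact e 1
    · rw [Perm.mul_apply, fc, ← hyc]; exact e 2
    · rw [hi']; group
  have hsupp : wp.support.card ≤ 10 := by
    rw [Finset.card_compl, hn] at hF3; omega
  obtain hc | hc | hc : wp.support.card = 3 ∨ wp.support.card = 6 ∨ wp.support.card = 9 := by
    have hne : wp ≠ 1 := fun e => by rw [e, orderOf_one] at hwo; omega
    have := Perm.two_le_card_support_of_ne_one hne
    omega
  · exact Perm.alternatingGroup_le_of_isPreprimitive_of_isThreeCycle_mem hprim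
      (card_support_eq_three_iff.mp hc) hwG
  · exfalso
    have hF : wp.supportᶜ.card = 7 := by rw [Finset.card_compl, hc, hn]
    set N := Subgroup.normalizer ((Subgroup.zpowers (⟨wp, hwG⟩ : G)) : Set G)
    obtain ⟨a, b, c, ha, hb, hc', hab, hac, hbc⟩ := Finset.two_lt_card_iff.mp
      (show 2 < wp.supportᶜ.card by omega)
    have horb : (orbit N a) = ↑(wp.supportᶜ) := by
      ext z
      constructor
      · rintro ⟨u, rfl⟩
        obtain ⟨i, hi⟩ := Subgroup.mem_zpowers_iff.mp
          ((Subgroup.mem_normalizer_iff.mp (inv_mem u.2) ⟨wp, hwG⟩).mp (Subgroup.mem_zpowers _))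
        rw [inv_inv] at hi
        have h1 : ((u : G) : Perm α)⁻¹ * wp * ((u : G) : Perm α) = wp ^ i := by
          have := congrArg Subtype.val hi
          simpa using this.symm
        rw [Finset.mem_coe, ← hfix]
        show wp (((u : G) : Perm α) a) = ((u : G) : Perm α) a
        calc wp (((u : G) : Perm α) a)
            = ((((u : G) : Perm α)) * (((u : G) : Perm α)⁻¹ * wp * ((u : G) : Perm α))) a := by
              simp [Perm.mul_apply]
          _ = ((u : G) : Perm α) ((wp ^ i) a) := by rw [h1]; rfl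
          _ = _ := by rw [Perm.zpow_apply_eq_self_of_apply_eq_self ((hfix a).mpr ha)]
      · intro hz
        obtain ⟨b', c', hb', hc'', hb1, hc1, hbc'⟩ : ∃ b' c', b' ∈ wp.supportᶜ ∧ c' ∈ wp.supportᶜ ∧
            b' ≠ z ∧ c' ≠ z ∧ b' ≠ c' := by
          obtain ⟨b', c', hb', hc'', hbc'⟩ := Finset.one_lt_card_iff.mp
            (show 1 < (wp.supportᶜ.erase z).card by
              rw [Finset.card_erase_of_mem (Finset.mem_coe.mp hz)]; omega)
          rw [Finset.mem_erase] at hb' hc''
          exact ⟨b', c', hb'.2, hc''.2, hb'.1, hc''.1, hbc'⟩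
        obtain ⟨f, hf, fa, -, -, i, hi⟩ := hmapF a b c z b' c' ha hb hc' (Finset.mem_coe.mp hz)
          hb' hc'' hab hac hbc hb1.symm hc1.symm hbc'
        refine ⟨⟨⟨f, hf⟩, ?_⟩, fa⟩
        rw [Subgroup.mem_normalizer_iff_map_conj_eq, MonoidHom.map_zpowers]
        refine Subgroup.eq_of_le_of_card_ge ?_ (le_of_eq ?_)
        · rw [Subgroup.zpowers_le]
          exact ⟨i, Subtype.ext (by simpa using hi.symm)⟩
        · rw [Nat.card_zpowers, Nat.card_zpowers]
          exact (orderOf_injective (MulAut.conj (⟨f, hf⟩ : G)).toMonoidHom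
            (MulAut.conj _).injective _).symm
    have hdvd : 7 ∣ Nat.card G := by
      have h1 : (stabilizer N a).index = 7 := by
        rw [MulAction.index_stabilizer, horb, Set.ncard_coe_finset, hF]
      exact (h1 ▸ Subgroup.index_dvd_card _).trans (Subgroup.card_subgroup_dvd_card N)
    rw [hcardG] at hdvd
    norm_num at hdvd
  · have hF : wp.supportᶜ.card = 4 := by rw [Finset.card_compl, hc, hn]
    obtain ⟨a, b, c, d, hab, hac, had, hbc, hbd, hcd, hFeq⟩ := Finset.card_eq_four.mp hF
    have hmem : ∀ z, z ∈ wp.supportᶜ ↔ z = a ∨ z = b ∨ z = c ∨ z = d := fun z => by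
      rw [hFeq]; simp
    have ha : a ∈ wp.supportᶜ := (hmem a).mpr (by simp)
    have hb : b ∈ wp.supportᶜ := (hmem b).mpr (by simp)
    have hc' : c ∈ wp.supportᶜ := (hmem c).mpr (by simp)
    have hd : d ∈ wp.supportᶜ := (hmem d).mpr (by simp)
    -- 3-elements centralising `wp` inducing prescribed three-cycles
    have hthree : ∀ a b c d, wp.supportᶜ = {a, b, c, d} → a ≠ b → a ≠ c → a ≠ d → b ≠ c → b ≠ d →
        c ≠ d → ∃ u ∈ G, u a = b ∧ u b = c ∧ u c = a ∧ u d = d ∧ Commute u wp ∧
          ∃ k : ℕ, u ^ 3 ^ k = 1 := by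
      intro a b c d hFeq hab hac had hbc hbd hcd
      have hmem : ∀ z, z ∈ wp.supportᶜ ↔ z = a ∨ z = b ∨ z = c ∨ z = d := fun z => by
        rw [hFeq]; simp
      obtain ⟨f, hf, fa, fb, fc, i, hi⟩ := hmapF a b c b c a ((hmem a).mpr (by simp))
        ((hmem b).mpr (by simp)) ((hmem c).mpr (by simp)) ((hmem b).mpr (by simp))
        ((hmem c).mpr (by simp)) ((hmem a).mpr (by simp)) hab hac hbc hbc hab.symm hac.symm
      have fd : f d = d := by
        have h1 : f d ∈ wp.supportᶜ := by
          rw [← hfix]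
          have h2 : f * wp = wp ^ i * f := by rw [← hi]; group
          have h3 := congrArg (fun e : Perm α => e d) h2
          simp only [Perm.mul_apply, (hfix d).mpr ((hmem d).mpr (by simp))] at h3
          rw [eq_comm] at h3
          -- `f d` is fixed by a generator of `⟨wp⟩`
          have hi3 : ¬ (3 : ℤ) ∣ i := by
            rintro ⟨j, rfl⟩
            rw [zpow_mul, zpow_ofNat, hw3, one_zpow, mul_inv_eq_one, mul_eq_left] at hi
            rw [hi, orderOf_one] at hwo
            omega
          obtain ⟨u, v, huv⟩ := ((Nat.prime_iff_prime_int.mp Nat.prime_three).coprime_iff_not_dvd.mpr hi3)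
          calc wp (f d) = (wp ^ (u * ((3 : ℕ) : ℤ) + v * i)) (f d) := by rw [huv, zpow_one]
            _ = ((wp ^ i) ^ v) (f d) := by
              rw [zpow_add, zpow_mul', zpow_natCast, hw3, one_zpow, one_mul, zpow_mul']
            _ = f d := Perm.zpow_apply_eq_self_of_apply_eq_self h3 v
        rcases (hmem _).mp h1 with h | h | h | h
        · exact absurd (f.injective (h.trans fc.symm)) hcd.symm
        · exact absurd (f.injective (h.trans fa.symm)) had.symm
        · exact absurd (f.injective (h.trans fb.symm)) hbd.symm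
        · exact h
      obtain ⟨k, hk⟩ := exists_pow_of_isPiElem_singleton (isPiElem_piPart {3} f)
      set u := piPart {3} f with hu
      have hu1 : u ^ 3 ^ k = 1 := by rw [← hk, pow_orderOf_eq_one]
      obtain ⟨j, hj⟩ := exists_piPart'_eq_pow {3} f
      set v := piPart' {3} f with hv
      have hv1 : ¬ 3 ∣ orderOf v := not_dvd_piPart' f
      have ha3 : (f ^ 3) a = a := by simp [pow_succ, Perm.mul_apply, fa, fb, fc]
      have hb3 : (f ^ 3) b = b := by simp [pow_succ, Perm.mul_apply, fa, fb, fc]
      have hj3 : 3 ∣ j := by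
        by_contra hj3
        have h1 : (f ^ (j * orderOf v)) a = a := by
          rw [pow_mul, ← hj, pow_orderOf_eq_one]; rfl
        have hlt : (j * orderOf v) % 3 = 1 ∨ (j * orderOf v) % 3 = 2 := by
          have : ¬ 3 ∣ j * orderOf v := fun h => (Nat.prime_three.dvd_mul.mp h).elim hj3 hv1
          omega
        rw [← Nat.mod_add_div (j * orderOf v) 3, pow_add, pow_mul, Perm.mul_apply,
          Perm.pow_apply_eq_self_of_apply_eq_self ha3] at h1
        rcases hlt with h | h
        · rw [h, pow_one, fa] at h1; exact hab h1.symm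
        · rw [h] at h1; simp [pow_succ, Perm.mul_apply, fa, fb] at h1; exact hac h1.symm
      obtain ⟨j', rfl⟩ := hj3
      have hc3 : (f ^ 3) c = c := by simp [pow_succ, Perm.mul_apply, fa, fb, fc]
      have hva : v a = a := by rw [hj, pow_mul, Perm.pow_apply_eq_self_of_apply_eq_self ha3]
      have hvb : v b = b := by rw [hj, pow_mul, Perm.pow_apply_eq_self_of_apply_eq_self hb3]
      have hvc : v c = c := by rw [hj, pow_mul, Perm.pow_apply_eq_self_of_apply_eq_self hc3]
      have hvd : v d = d := by rw [hj]; exact Perm.pow_apply_eq_self_of_apply_eq_self fd _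
      have huv : u * v = f := piPart_mul_piPart' {3} f
      have huG : u ∈ G := piPart_mem {3} f hf
      obtain ⟨m, hm⟩ := exists_piPart_eq_pow {3} f
      refine ⟨u, huG, ?_, ?_, ?_, ?_, ?_, k, hu1⟩
      · conv_lhs => rw [← hva, ← Perm.mul_apply, huv, fa]
      · conv_lhs => rw [← hvb, ← Perm.mul_apply, huv, fb]
      · conv_lhs => rw [← hvc, ← Perm.mul_apply, huv, fc]
      · conv_lhs => rw [← hvd, ← Perm.mul_apply, huv, fd]
      · -- the action on `⟨wp⟩` has 3-power order, hence is trivial
        have hfm : ∀ q : ℕ, f ^ q * wp * (f ^ q)⁻¹ = wp ^ (i ^ q) := by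
          intro q
          induction q with
          | zero => simp
          | succ q ih =>
            calc f ^ (q + 1) * wp * (f ^ (q + 1))⁻¹ = f ^ q * (f * wp * f⁻¹) * (f ^ q)⁻¹ := by
                  rw [pow_succ]; group
              _ = (f ^ q * wp * (f ^ q)⁻¹) ^ i := by rw [hi]; exact conj_zpow.symm
              _ = _ := by rw [ih, ← zpow_mul, ← pow_succ]
        have hum : u * wp * u⁻¹ = wp ^ (i ^ m) := by rw [hu, hm]; exact hfm m
        have hzp : ∀ z : ℤ, wp ^ z = wp ^ (z % 3) := fun z => by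
          rw [← zpow_mod_orderOf wp z, hwo]; rfl
        have hrep : wp ^ (i ^ m) = wp ∨ wp ^ (i ^ m) = wp⁻¹ ∨ wp ^ (i ^ m) = 1 := by
          rw [hzp]
          have h1 := Int.emod_nonneg (i ^ m) (by norm_num : (3 : ℤ) ≠ 0)
          have h2 := Int.emod_lt_of_pos (i ^ m) (by norm_num : (0 : ℤ) < 3)
          obtain h | h | h : i ^ m % 3 = 0 ∨ i ^ m % 3 = 1 ∨ i ^ m % 3 = 2 := by omega
          · exact Or.inr (Or.inr (by rw [h, zpow_zero]))
          · exact Or.inl (by rw [h, zpow_one])
          · refine Or.inr (Or.inl ?_)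
            rw [h, zpow_ofNat, eq_inv_iff_mul_eq_one, ← pow_succ]
            exact hw3
        rcases hrep with h | h | h
        · rw [h, mul_inv_eq_iff_eq_mul] at hum; exact hum
        · exfalso
          rw [h] at hum
          have hodd : ∀ q : ℕ, Odd q → u ^ q * wp * (u ^ q)⁻¹ = wp⁻¹ := by
            intro q hq
            obtain ⟨r, rfl⟩ := hq
            induction r with
            | zero => simpa using hum
            | succ r ih =>
              calc u ^ (2 * (r + 1) + 1) * wp * (u ^ (2 * (r + 1) + 1))⁻¹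
                  = u ^ (2 * r + 1) * (u * (u * wp * u⁻¹) * u⁻¹) * (u ^ (2 * r + 1))⁻¹ := by
                    rw [show 2 * (r + 1) + 1 = 2 * r + 1 + 2 by ring, pow_add, pow_two]; group
                _ = u ^ (2 * r + 1) * (u * wp * u⁻¹)⁻¹ * (u ^ (2 * r + 1))⁻¹ := by
                    conv_lhs => rw [hum]
                    group
                _ = u ^ (2 * r + 1) * wp * (u ^ (2 * r + 1))⁻¹ := by rw [hum, inv_inv]
                _ = wp⁻¹ := ih
          have := hodd (3 ^ k) (Odd.pow (by decide))
          rw [hu1, one_mul, inv_one, mul_one] at this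
          have h2 : wp ^ 2 = 1 := by rw [pow_two]; exact mul_eq_one_iff_eq_inv.mpr this
          have := orderOf_dvd_of_pow_eq_one h2
          rw [hwo] at this; omega
        · exfalso
          rw [h, mul_inv_eq_one, mul_eq_left] at hum
          rw [hum, orderOf_one] at hwo
          omega
    obtain ⟨u₁, hu₁G, u₁a, u₁b, u₁c, u₁d, hu₁c, k₁, hk₁⟩ := hthree a b c d hFeq hab hac had hbc hbd hcd
    obtain ⟨u₂, hu₂G, u₂a, u₂b, u₂d, u₂c, hu₂c, k₂, hk₂⟩ := hthree a b d c
      (by rw [hFeq]; ext z; simp; tauto) hab had hac hbd hbc hcd.symm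
    set v := u₁ * u₂ * u₁⁻¹ * u₂⁻¹ with hv
    have hvG : v ∈ G := G.mul_mem (G.mul_mem (G.mul_mem hu₁G hu₂G) (G.inv_mem hu₁G)) (G.inv_mem hu₂G)
    have i₁a : u₁⁻¹ b = a := Perm.inv_eq_iff_eq.mpr u₁a.symm
    have i₁b : u₁⁻¹ c = b := Perm.inv_eq_iff_eq.mpr u₁b.symm
    have i₁c : u₁⁻¹ a = c := Perm.inv_eq_iff_eq.mpr u₁c.symm
    have i₁d : u₁⁻¹ d = d := Perm.inv_eq_iff_eq.mpr u₁d.symm
    have i₂a : u₂⁻¹ b = a := Perm.inv_eq_iff_eq.mpr u₂a.symm
    have i₂b : u₂⁻¹ d = b := Perm.inv_eq_iff_eq.mpr u₂b.symm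
    have i₂d : u₂⁻¹ a = d := Perm.inv_eq_iff_eq.mpr u₂d.symm
    have i₂c : u₂⁻¹ c = c := Perm.inv_eq_iff_eq.mpr u₂c.symm
    have va : v a = b := by simp only [hv, Perm.mul_apply, i₂d, i₁d, u₂d, u₁a]
    have vb : v b = a := by simp only [hv, Perm.mul_apply, i₂a, i₁c, u₂c, u₁c]
    have vc : v c = d := by simp only [hv, Perm.mul_apply, i₂c, i₁b, u₂b, u₁d]
    have vd : v d = c := by simp only [hv, Perm.mul_apply, i₂b, i₁a, u₂a, u₁b]
    -- orbits of `wp` on the nine moved points
    let orb : α → Finset α := fun z => {z, wp z, (wp ^ 2) z}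
    let Q := {O : Finset α // ∃ z ∈ wp.support, orb z = O}
    have horb : ∀ u : Perm α, Commute u wp → ∀ z, (orb z).image u = orb (u z) := by
      intro u hu z
      simp only [orb, Finset.image_insert, Finset.image_singleton]
      rw [show u (wp z) = wp (u z) from congrArg (fun e : Perm α => e z) hu.eq,
        show u ((wp ^ 2) z) = (wp ^ 2) (u z) from congrArg (fun e : Perm α => e z) (hu.pow_right 2).eq]
    have hsupp : ∀ u : Perm α, Commute u wp → ∀ z, z ∈ wp.support → u z ∈ wp.support := by
      intro u hu z hz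
      rw [Perm.mem_support] at hz ⊢
      intro e
      apply hz
      rw [← show u (wp z) = wp (u z) from congrArg (fun e : Perm α => e z) hu.eq] at e
      exact u.injective e
    have hQ : ∀ u : Perm α, Commute u wp → ∀ O : Q, ∃ z ∈ wp.support, orb z = O.1.image u := by
      rintro u hu ⟨O, z, hz, rfl⟩
      exact ⟨u z, hsupp u hu z hz, (horb u hu z).symm⟩
    let C := Subgroup.centralizer ({wp} : Set (Perm α))
    have hCc : ∀ u : C, Commute (u : Perm α) wp := fun u => mem_cent_iff.mp u.2
    let ψ : C →* Perm Q :=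
      { toFun := fun u =>
          { toFun := fun O => ⟨O.1.image (u : Perm α), hQ _ (hCc u) O⟩
            invFun := fun O => ⟨O.1.image (↑(u⁻¹) : Perm α), hQ _ (hCc u⁻¹) O⟩
            left_inv := fun O => Subtype.ext (by simp [Finset.image_image, Function.comp_def])
            right_inv := fun O => Subtype.ext (by simp [Finset.image_image, Function.comp_def]) }
        map_one' := Equiv.ext fun O => Subtype.ext (by simp)
        map_mul' := fun u u' => Equiv.ext fun O => Subtype.ext (by
          simp [Finset.image_image, Function.comp_def]) }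
    have hQcard : Fintype.card Q ≤ 3 := by
      have hsubset : ∀ O : Q, O.1 ⊆ wp.support ∧ O.1.card = 3 := by
        rintro ⟨O, z, hz, rfl⟩
        have h1 : wp z ≠ z := Perm.mem_support.mp hz
        have h2 : (wp ^ 2) z ≠ z := by
          intro e
          have e3 : (wp ^ 3) z = z := by rw [hw3]; rfl
          apply h1
          rw [pow_succ', Perm.mul_apply, e] at e3
          exact e3
        have h3 : wp z ≠ (wp ^ 2) z := by
          intro e
          apply h1
          rw [pow_two, Perm.mul_apply] at e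
          exact (wp.injective e).symm
        refine ⟨?_, ?_⟩
        · intro y hy
          simp only [orb, Finset.mem_insert, Finset.mem_singleton] at hy
          rcases hy with rfl | rfl | rfl
          · exact hz
          · exact Perm.apply_mem_support.mpr hz
          · exact Perm.pow_apply_mem_support.mpr hz
        · simp only [orb]
          rw [Finset.card_insert_of_notMem (by simp [h1.symm, h2.symm]), Finset.card_pair h3]
      have hmemO : ∀ O : Q, ∀ y ∈ O.1, O.1 = orb y := by
        rintro ⟨O, z, hz, rfl⟩ y hy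
        simp only [orb, Finset.mem_insert, Finset.mem_singleton] at hy
        have e3 : ∀ z, wp ((wp ^ 2) z) = z := fun z => by
          rw [← Perm.mul_apply, ← pow_succ', hw3]; rfl
        rcases hy with rfl | rfl | rfl
        · rfl
        · show orb z = orb (wp z)
          ext t
          simp only [orb, Finset.mem_insert, Finset.mem_singleton]
          rw [show (wp ^ 2) (wp z) = z by rw [← Perm.mul_apply, ← pow_succ, hw3]; rfl,
            show wp (wp z) = (wp ^ 2) z by rw [pow_two]; rfl]
          tauto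
        · show orb z = orb ((wp ^ 2) z)
          ext t
          simp only [orb, Finset.mem_insert, Finset.mem_singleton]
          rw [e3, show (wp ^ 2) ((wp ^ 2) z) = wp z by
            rw [← Perm.mul_apply, ← pow_add, show (2 + 2) = 3 + 1 from rfl, pow_succ, hw3, one_mul]]
          tauto
      have hdisj : Finset.card (Finset.univ.biUnion fun O : Q => O.1) = Fintype.card Q * 3 := by
        rw [Finset.card_biUnion, Finset.sum_congr rfl fun O _ => (hsubset O).2, Finset.sum_const,
          Finset.card_univ, smul_eq_mul]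
        intro O _ O' _ hne
        rw [Function.onFun, Finset.disjoint_left]
        intro y hy hy'
        exact hne (Subtype.ext ((hmemO O y hy).trans (hmemO O' y hy').symm))
      have := Finset.card_le_card (show (Finset.univ.biUnion fun O : Q => O.1) ⊆ wp.support from
        Finset.biUnion_subset.mpr fun O _ => (hsubset O).1)
      rw [hdisj, hc] at this
      omega
    have hψ : ∀ (u : Perm α) (hu : Commute u wp) (k : ℕ), u ^ 3 ^ k = 1 →
        ψ ⟨u, mem_cent_iff.mpr hu⟩ ∈ alternatingGroup Q := by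
      intro u hu k hk
      rw [Perm.mem_alternatingGroup]
      have h1 : (Perm.sign (ψ ⟨u, mem_cent_iff.mpr hu⟩)) ^ 3 ^ k = 1 := by
        rw [← map_pow, ← map_pow]
        rw [show (⟨u, mem_cent_iff.mpr hu⟩ : C) ^ 3 ^ k = 1 from Subtype.ext hk]
        simp
      rcases Int.units_eq_one_or (Perm.sign (ψ ⟨u, mem_cent_iff.mpr hu⟩)) with h | h
      · exact h
      · exfalso
        rw [h, Odd.neg_one_pow (Odd.pow (by decide))] at h1
        exact absurd h1 (by decide)
    have hvc' : Commute v wp :=
      ((hu₁c.mul_left hu₂c).mul_left hu₁c.inv_left).mul_left hu₂c.inv_left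
    have hψv : ψ ⟨v, mem_cent_iff.mpr hvc'⟩ = 1 := by
      have e : (⟨v, mem_cent_iff.mpr hvc'⟩ : C) = ⟨u₁, mem_cent_iff.mpr hu₁c⟩ *
          ⟨u₂, mem_cent_iff.mpr hu₂c⟩ * (⟨u₁, mem_cent_iff.mpr hu₁c⟩)⁻¹ *
          (⟨u₂, mem_cent_iff.mpr hu₂c⟩)⁻¹ := rfl
      haveI := alternatingGroup.isMulCommutative_of_card_le_three (α := Q)
        (by rw [Nat.card_eq_fintype_card]; exact hQcard)
      have hcomm : ψ ⟨u₁, mem_cent_iff.mpr hu₁c⟩ * ψ ⟨u₂, mem_cent_iff.mpr hu₂c⟩ =
          ψ ⟨u₂, mem_cent_iff.mpr hu₂c⟩ * ψ ⟨u₁, mem_cent_iff.mpr hu₁c⟩ :=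
        congrArg Subtype.val (‹IsMulCommutative (alternatingGroup Q)›.1.1
          ⟨_, hψ u₁ hu₁c k₁ hk₁⟩ ⟨_, hψ u₂ hu₂c k₂ hk₂⟩)
      rw [e, map_mul, map_mul, map_mul, map_inv, map_inv, hcomm]
      group
    have hv3 : ∀ z ∈ wp.support, (v ^ 3) z = z := by
      intro z hz
      let O : Q := ⟨orb z, z, hz, rfl⟩
      have hO : orb z = (orb z).image v :=
        (congrArg Subtype.val (congrArg (fun e : Perm Q => e O) hψv)).symm
      have hvz : v z ∈ orb z := by
        rw [hO]; exact Finset.mem_image_of_mem v (by simp [orb])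
      have h3e : ∀ (j : ℕ), v z = (wp ^ j) z → (v ^ 3) z = z := by
        intro j hj
        have hc : ∀ t : ℕ, v ((wp ^ t) z) = (wp ^ t) (v z) := fun t =>
          congrArg (fun e : Perm α => e z) (hvc'.pow_right t).eq
        rw [show (v ^ 3) z = v (v (v z)) by simp [pow_succ, Perm.mul_apply], hj, hc, hj,
          ← Perm.mul_apply (wp ^ j) (wp ^ j) z, ← pow_add, hc, hj,
          ← Perm.mul_apply (wp ^ (j + j)) (wp ^ j) z, ← pow_add,
          show j + j + j = 3 * j by ring, pow_mul, hw3, one_pow]
        rfl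
      simp only [orb, Finset.mem_insert, Finset.mem_singleton] at hvz
      rcases hvz with h | h | h
      · exact h3e 0 (by rw [pow_zero, Perm.one_apply]; exact h)
      · exact h3e 1 (by rw [pow_one]; exact h)
      · exact h3e 2 h
    refine alternating_le_of_double_transposition G hprim h3 (by rw [hn]; decide) (G.pow_mem hvG 3)
      hab hac had hbc hbd hcd ?_
    refine Equiv.ext fun z => ?_
    by_cases hz : z ∈ wp.support
    · rw [hv3 z hz, Perm.mul_apply]
      have hne : z ≠ a ∧ z ≠ b ∧ z ≠ c ∧ z ≠ d := by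
        refine ⟨?_, ?_, ?_, ?_⟩ <;> rintro rfl
        exacts [Finset.mem_compl.mp ha hz, Finset.mem_compl.mp hb hz, Finset.mem_compl.mp hc' hz,
          Finset.mem_compl.mp hd hz]
      rw [Equiv.swap_apply_of_ne_of_ne hne.2.2.1 hne.2.2.2,
        Equiv.swap_apply_of_ne_of_ne hne.1 hne.2.1]
    · rcases (hmem z).mp (Finset.mem_compl.mpr hz) with rfl | rfl | rfl | rfl
      · simp [pow_succ, Perm.mul_apply, va, vb, Equiv.swap_apply_of_ne_of_ne hac had]
      · simp [pow_succ, Perm.mul_apply, va, vb, Equiv.swap_apply_of_ne_of_ne hbc hbd]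
      · simp [pow_succ, Perm.mul_apply, vc, vd, Equiv.swap_apply_of_ne_of_ne had.symm hbd.symm]
      · simp [pow_succ, Perm.mul_apply, vc, vd, Equiv.swap_apply_of_ne_of_ne hac.symm hbc.symm]

/-- The twin cases of degree `7` and `13`. -/
theorem alternating_le_twin (G : Subgroup (Perm α)) (hA : G ≤ alternatingGroup α)
    [IsPretransitive G α] {p : ℕ} (hcases : p = 5 ∨ p = 11) (hn : Fintype.card α = p + 2)
    {g : Perm α} (hg : g ∈ G) (hgc : g.IsCycle) (hgp : g.support.card = p)
    {h : Perm α} (hh : h ∈ G) (hhc : h.IsCycle) (hhn : h.support.card = p + 2) :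
    alternatingGroup α ≤ G := by
  classical
  have hp : p.Prime := by rcases hcases with rfl | rfl <;> norm_num
  have hp2 : (p + 2).Prime := by rcases hcases with rfl | rfl <;> norm_num
  haveI := Fact.mk hp
  haveI := Fact.mk hp2
  have hprim : IsPreprimitive G α :=
    IsPreprimitive.of_prime_card (by rw [Nat.card_eq_fintype_card, hn]; exact hp2)
  have h3 := three_transitive_of_cycle G hprim hp hg hgc hgp hn
  by_contra hnA
  obtain ⟨x⟩ : Nonempty (Fin 3 ↪ α) := by
    rw [Function.Embedding.nonempty_iff_card_le, Fintype.card_fin]; omega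
  set r := Nat.card (stabilizer G x) with hr
  have hcard : Nat.card G =
      (Fintype.card α * (Fintype.card α - 1) * (Fintype.card α - 2)) * r :=
    card_eq_mul_stabilizer G h3 x
  rw [hn] at hcard
  have hst : ∀ y : Fin 3 ↪ α, Nat.card (stabilizer G y) = r := by
    intro y
    have hy := card_eq_mul_stabilizer G h3 y
    rw [hn, hcard] at hy
    refine (Nat.eq_of_mul_eq_mul_left ?_ hy).symm
    rcases hcases with rfl | rfl <;> norm_num
  haveI : Nontrivial α := Fintype.one_lt_card_iff_nontrivial.mp (by omega)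
  have hdvd : Nat.card G ∣ (p + 2).factorial / 2 := by
    have := Subgroup.card_dvd_of_le hA
    rwa [nat_card_alternatingGroup, Nat.card_eq_fintype_card (α := α), hn] at this
  have hsq : ∀ q, q = p ∨ q = p + 2 → ¬ q ^ 2 ∣ Nat.card G := by
    intro q hq hd
    have h2 := hd.trans hdvd
    rcases hcases with rfl | rfl <;> rcases hq with rfl | rfl <;>
      norm_num [Nat.factorial] at h2
  obtain ⟨k₁, e₁, he12, he1, hc1, hk1, he1r⟩ :=
    pcycle_data G hA hp hn h3 hg hgc hgp (hsq p (Or.inl rfl)) (by omega) x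
  have hhord : orderOf (⟨h, hh⟩ : G) = p + 2 := by
    rw [Subgroup.orderOf_mk]; exact hhc.orderOf.trans hhn
  have hcent : Nat.card (Subgroup.centralizer ({(⟨h, hh⟩ : G)} : Set G)) = p + 2 := by
    apply le_antisymm
    · have hS : Nat.card (Subgroup.centralizer ({h} : Set (Perm α))) = p + 2 := by
        rw [Perm.nat_card_centralizer, hhc.cycleType, hhn, Multiset.sum_singleton, hn,
          Nat.sub_self, Multiset.prod_singleton, Multiset.toFinset_singleton,
          Finset.prod_singleton, Multiset.count_singleton_self]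
        simp
      rw [← hS]
      refine Nat.card_le_card_of_injective (fun y => ⟨((y : G) : Perm α),
        mem_cent_iff.mpr (congrArg Subtype.val (mem_cent_iff.mp y.2).eq)⟩) fun y y' e => ?_
      exact Subtype.ext (Subtype.ext (congrArg (fun z : Subgroup.centralizer ({h} : Set (Perm α)) =>
        (z : Perm α)) e))
    · rw [← hhord, ← Subgroup.orderOf_mk (⟨h, hh⟩ : G) (mem_cent_iff.mpr (Commute.refl _))]
      exact Nat.le_of_dvd Nat.card_pos (orderOf_dvd_natCard _)
  obtain ⟨k₂, d, hd, hc2, hk2, -⟩ := sylow_count G hhord (hsq (p + 2) (Or.inr rfl)) hcent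
  rw [← hr] at he1r
  have hr1 : r = 1 → False := by
    intro hr1
    refine no_regular_on_triples G hA h3 ?_ ?_ ?_ fun y => (hst y).trans hr1
    · rw [hn]; rcases hcases with rfl | rfl <;> decide
    · rw [hn]; rcases hcases with rfl | rfl <;> decide
    · omega
  rcases hcases with rfl | rfl
  · have hrdvd : r ∣ 12 := by
      rw [hcard] at hdvd
      have h2 : (7 * 6 * 5 * r) ∣ 2520 := by simpa [Nat.factorial] using hdvd
      exact Nat.dvd_of_mul_dvd_mul_left (show 0 < 7 * 6 * 5 by norm_num) (h2.trans (dvd_of_eq rfl))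
    have hG : Nat.card G = 210 * r := by rw [hcard]
    have he : e₁ = 2 ∨ e₁ = 4 := by
      have h4 : e₁ ∈ Nat.divisors 4 := Nat.mem_divisors.mpr ⟨he1, by norm_num⟩
      have : e₁ ∈ ({1, 2, 4} : Finset ℕ) := by
        rw [show Nat.divisors 4 = {1, 2, 4} from by decide] at h4; exact h4
      simp at this; omega
    have := twin_arith7 r (Nat.mem_divisors.mpr ⟨hrdvd, by norm_num⟩) d
      (Nat.mem_divisors.mpr ⟨by simpa using hd, by norm_num⟩) e₁ (by simpa using he)
      (by rw [← hG, hc2]; simp) (by rw [← hG, hc2, Nat.mul_div_cancel_left _ (Nat.pos_of_mul_pos_right (hc2 ▸ Nat.card_pos : 0 < (5 + 2) * d * k₂))]; exact hk2)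
      (by rw [← hG, hc1]; simp) (by rw [← hG, hc1, Nat.mul_div_cancel_left _ (Nat.pos_of_mul_pos_right (hc1 ▸ Nat.card_pos : 0 < 5 * e₁ * k₁))]; exact hk1)
      he1r
    rcases this with h1 | h12
    · exact hr1 h1
    · apply hnA
      have : G = alternatingGroup α := Subgroup.eq_of_le_of_card_ge hA (by
        rw [nat_card_alternatingGroup, Nat.card_eq_fintype_card, hn, hG, h12]
        simp [Nat.factorial])
      exact this.ge
  · have hrdvd : r ∣ 1814400 := by
      rw [hcard] at hdvd
      have h2 : (13 * 12 * 11 * r) ∣ 3113510400 := by simpa [Nat.factorial] using hdvd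
      have h3 : (13 * 12 * 11) * r ∣ (13 * 12 * 11) * 1814400 := h2
      exact Nat.dvd_of_mul_dvd_mul_left (by norm_num) h3
    have hG : Nat.card G = 1716 * r := by rw [hcard]
    have hr720 : r < 721 := by
      have hb := Recog71.bochert (G := G) (Ω := α) hprim (by
        intro hle
        refine hnA fun y hy => ?_
        obtain ⟨u, hu⟩ := hle hy
        rw [← hu]
        exact u.2)
      rw [hn, hG] at hb
      norm_num [Nat.factorial] at hb
      omega
    have h7 : ¬ 7 ∣ r := by
      intro h7
      haveI : Fact (Nat.Prime 7) := ⟨by norm_num⟩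
      obtain ⟨u, hu⟩ := exists_prime_orderOf_dvd_card' 7 (show 7 ∣ Nat.card G from hG ▸ h7.mul_left _)
      have hu' : orderOf (u : Perm α) = 7 := by rw [Subgroup.orderOf_coe]; exact hu
      have hcy : (u : Perm α).IsCycle := Perm.isCycle_of_prime_order' (by rw [hu']; norm_num)
        (by rw [hu', hn]; norm_num)
      exact hnA (PermB.jordan_prime_cycle G hprim (p := 7) (by norm_num) (by rw [hn]; norm_num) hcy
        (hcy.orderOf.symm.trans hu') u.2)
    have he : e₁ = 2 ∨ e₁ = 10 := by
      have h4 : e₁ ∈ Nat.divisors 10 := Nat.mem_divisors.mpr ⟨he1, by norm_num⟩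
      have : e₁ ∈ ({1, 2, 5, 10} : Finset ℕ) := by
        rw [show Nat.divisors 10 = {1, 2, 5, 10} from by decide] at h4; exact h4
      simp at this; omega
    have := twin_arith13 r (List.mem_range.mpr hr720) hrdvd h7 d
      (Nat.mem_divisors.mpr ⟨by simpa using hd, by norm_num⟩) e₁ (by simpa using he)
      (by rw [← hG, hc2]; simp) (by rw [← hG, hc2, Nat.mul_div_cancel_left _ (Nat.pos_of_mul_pos_right (hc2 ▸ Nat.card_pos : 0 < (11 + 2) * d * k₂))]; exact hk2)
      (by rw [← hG, hc1]; simp) (by rw [← hG, hc1, Nat.mul_div_cancel_left _ (Nat.pos_of_mul_pos_right (hc1 ▸ Nat.card_pos : 0 < 11 * e₁ * k₁))]; exact hk1)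
      he1r
    rcases this with h1 | h60
    · exact hr1 h1
    · exact hnA (no_stabilizer_sixty G hprim h3 hn fun y => (hst y).trans h60)

end Cfsg.Agent.FG78
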