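import Mathlib
import Cfsg.Agent.PermB.JordanPrime
import Cfsg.Agent.FG78.PermLemmas
import Cfsg.Agent.FG78.ThreePrimes
import Cfsg.Agent.FG78.TwinDegree

set_option autoImplicit false

/-!
Two elements of large prime order `p < q` in an alternating group generate an alternating group,
for a suitable choice of the two primes.
-/

namespace Cfsg.Agent.FG78.TwoPrimeGen

open MulAction Equiv
open scoped Pointwise

/-- The pairs of primes used. -/
structure GoodPair (m p q : ℕ) : Prop where
  hp : p.Prime
  hq : q.Prime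
  hm : m ≤ 2 * p
  hpq : p < q
  hqm : q ≤ m
  p3 : 3 ≤ p
  gap : p + 3 ≤ q ∨ (q = p + 2 ∧ (p = 3 ∨ p = 5 ∨ p = 11))
  dbl : m = 2 * p → (m = 10 ∧ p = 5 ∧ q = 7) ∨ (m = 6 ∧ p = 3 ∧ q = 5)

theorem exists_goodPair (m : ℕ) (hm : 5 ≤ m) : ∃ p q, GoodPair m p q := by
  rcases Nat.lt_or_ge m 18 with h | h
  · have key : ∃ pq ∈ ([(3, 5), (5, 7), (7, 11), (11, 13), (11, 17)] : List (ℕ × ℕ)),
        m ≤ 2 * pq.1 ∧ pq.2 ≤ m ∧
        (m = 2 * pq.1 → (m = 10 ∧ pq.1 = 5 ∧ pq.2 = 7) ∨ (m = 6 ∧ pq.1 = 3 ∧ pq.2 = 5)) := by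
      interval_cases m <;> simp
    obtain ⟨⟨p, q⟩, hmem, h1, h2, h3⟩ := key
    simp only [List.mem_cons, Prod.mk.injEq, List.not_mem_nil, or_false] at hmem
    refine ⟨p, q, ?_⟩
    rcases hmem with ⟨rfl, rfl⟩ | ⟨rfl, rfl⟩ | ⟨rfl, rfl⟩ | ⟨rfl, rfl⟩ | ⟨rfl, rfl⟩ <;>
      exact ⟨by norm_num, by norm_num, h1, by norm_num, h2, by norm_num, by norm_num, h3⟩
  · obtain ⟨a, b, c, ha, hb, hc, h1, h2, h3, h4⟩ := Primes.exists_three_primes
      (n := m / 2) (by omega)
    have hao : a % 2 = 1 := Nat.odd_iff.mp (ha.odd_of_ne_two (by omega))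
    have hbo : b % 2 = 1 := Nat.odd_iff.mp (hb.odd_of_ne_two (by omega))
    have hco : c % 2 = 1 := Nat.odd_iff.mp (hc.odd_of_ne_two (by omega))
    exact ⟨a, c, ha, hc, by omega, by omega, by omega, by omega, Or.inl (by omega), by omega⟩

variable {α : Type*} [Fintype α] [DecidableEq α]

/-- The support of a permutation of prime order `p` has `p` or `2p` points if `|α| ≤ 2p`. -/
theorem support_cases {σ : Perm α} {p : ℕ} (hp : p.Prime) (hσ : orderOf σ = p)
    (hα : Fintype.card α ≤ 2 * p) :
    σ.support.card = p ∨ (σ.support.card = 2 * p ∧ Fintype.card α = 2 * p) := by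
  haveI := Fact.mk hp
  have hdvd : p ∣ σ.support.card := by
    rw [← Perm.sum_cycleType]
    exact Multiset.dvd_sum fun c hc =>
      (Perm.pow_prime_eq_one_iff.mp (hσ ▸ pow_orderOf_eq_one σ) c hc).symm.dvd
  obtain ⟨k, hk⟩ := hdvd
  have hne : σ ≠ 1 := fun e => by rw [e, orderOf_one] at hσ; exact hp.one_lt.ne hσ
  have h2 := Perm.two_le_card_support_of_ne_one hne
  have hle := (σ.support.card_le_univ).trans hα
  rcases k with _ | _ | _ | k
  · rw [mul_zero] at hk; omega
  · exact Or.inl (by rw [hk]; simp)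
  · refine Or.inr ⟨by rw [hk]; ring, ?_⟩
    have := σ.support.card_le_univ
    rw [hk] at this
    omega
  · exfalso
    rw [hk] at hle
    have : p * 3 ≤ p * (k + 1 + 1 + 1) := Nat.mul_le_mul_left p (by omega)
    have := hp.two_le
    omega

/-- Transitivity of a group containing a large cycle and an element of order `p` moving all the
other points. -/
theorem isPretransitive_of_pair (G : Subgroup (Perm α)) {x y : Perm α} {p : ℕ} (hp : p.Prime)
    (hx : x ∈ G) (hy : y ∈ G) (hxo : orderOf x = p) (hyc : y.IsCycle)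
    (hlt : Fintype.card α < p + y.support.card)
    (hcov : ∀ z, z ∈ x.support ∨ z ∈ y.support) : IsPretransitive G α := by
  haveI := Fact.mk hp
  obtain ⟨w₀, hw₀⟩ := hyc.nonempty_support
  have reach : ∀ z, ∃ f : G, f • w₀ = z := by
    have hsupp : ∀ z ∈ y.support, ∃ f : G, f • w₀ = z := fun z hz => by
      obtain ⟨i, hi⟩ := hyc.exists_zpow_eq (Perm.mem_support.mp hw₀) (Perm.mem_support.mp hz)
      exact ⟨⟨y ^ i, G.zpow_mem hy i⟩, hi⟩
    intro z
    rcases em (z ∈ y.support) with hz | hz
    · exact hsupp z hz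
    · have hzx : z ∈ x.support := (hcov z).resolve_right hz
      have hc : (x.cycleOf z).support.card = p := by
        refine Perm.pow_prime_eq_one_iff.mp (hxo ▸ pow_orderOf_eq_one x) _ ?_
        rw [Perm.cycleType_def, Multiset.mem_map]
        exact ⟨x.cycleOf z, Perm.cycleOf_mem_cycleFactorsFinset_iff.mpr hzx, rfl⟩
      obtain ⟨w, hw1, hw2⟩ : ∃ w, w ∈ (x.cycleOf z).support ∧ w ∈ y.support := by
        by_contra hno
        have hdisj : Disjoint (x.cycleOf z).support y.support :=
          Finset.disjoint_left.mpr fun w h1 h2 => hno ⟨w, h1, h2⟩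
        have := ((x.cycleOf z).support ∪ y.support).card_le_univ
        rw [Finset.card_union_of_disjoint hdisj, hc] at this
        omega
      obtain ⟨i, hi⟩ := (Perm.mem_support_cycleOf_iff.mp hw1).1
      obtain ⟨f, hf⟩ := hsupp w hw2
      refine ⟨(⟨x ^ i, G.zpow_mem hx i⟩ : G)⁻¹ * f, ?_⟩
      rw [mul_smul, hf, inv_smul_eq_iff]
      exact hi.symm
  refine ⟨fun a b => ?_⟩
  obtain ⟨f, hf⟩ := reach a
  obtain ⟨h, hh⟩ := reach b
  exact ⟨h * f⁻¹, by rw [mul_smul, ← hf, inv_smul_smul, hh]⟩

/-- A transitive subgroup of `A₆` with elements of order `5` and `3`, the latter without fixed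
points, is `A₆` or `A₅`. -/
theorem degree_six (G : Subgroup (Perm α)) [IsPretransitive G α] (hn : Fintype.card α = 6)
    (hA : G ≤ alternatingGroup α) {x y : Perm α} (hx : x ∈ G) (hy : y ∈ G)
    (hxo : orderOf x = 3) (hxs : x.support.card = 6) (hyc : y.IsCycle)
    (hys : y.support.card = 5) :
    G = alternatingGroup α ∨ Nonempty (G ≃* alternatingGroup (Fin 5)) := by
  classical
  haveI : Fact (Nat.Prime 5) := ⟨by norm_num⟩
  haveI : Fact (Nat.Prime 3) := ⟨by norm_num⟩
  haveI : Nontrivial α := Fintype.one_lt_card_iff_nontrivial.mp (by omega)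
  set A := alternatingGroup α
  haveI hsimple : IsSimpleGroup A := alternatingGroup.isSimpleGroup
    (by rw [Nat.card_eq_fintype_card, hn]; norm_num)
  have hcardA : Nat.card A = 360 := by
    rw [nat_card_alternatingGroup, Nat.card_eq_fintype_card (α := α), hn]; rfl
  set H := G.subgroupOf A
  have hHcard : Nat.card H = Nat.card G :=
    Nat.card_congr (Subgroup.subgroupOfEquivOfLe hA).toEquiv
  have hidx : Nat.card G * H.index = 360 := by rw [← hHcard, Subgroup.card_mul_index, hcardA]
  rcases eq_or_ne H ⊤ with hH | hH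
  · exact Or.inl (le_antisymm hA (Subgroup.subgroupOf_eq_top.mp hH))
  refine Or.inr ?_
  -- the action on the cosets is faithful
  let φ : A →* Perm (A ⧸ H) := MulAction.toPermHom A (A ⧸ H)
  have hφ : Function.Injective φ := by
    rw [← MonoidHom.ker_eq_bot_iff]
    rcases hsimple.eq_bot_or_eq_top_of_normal φ.ker inferInstance with h | h
    · exact h
    · exfalso
      have : φ.ker = H.normalCore := (Subgroup.normalCore_eq_ker H).symm
      exact hH (eq_top_iff.mpr (h ▸ this ▸ H.normalCore_le))
  have hbig : 6 ≤ H.index := by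
    have h1 := Subgroup.card_dvd_of_injective φ hφ
    rw [hcardA, Nat.card_perm, ← Subgroup.index] at h1
    by_contra hlt
    have : ∀ k < 6, ¬ 360 ∣ Nat.factorial k := by decide
    exact this _ (not_le.mp hlt) h1
  have hyo : orderOf y = 5 := hyc.orderOf.trans hys
  obtain ⟨a, hΓ⟩ := Finset.card_eq_one.mp
    (show y.supportᶜ.card = 1 by rw [Finset.card_compl, hys, hn])
  have hfixed : ∀ z, y z = z ↔ z = a := fun z => by
    have h : z ∈ y.supportᶜ ↔ z = a := by rw [hΓ, Finset.mem_singleton]
    rwa [Finset.mem_compl, Perm.mem_support, not_not] at h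
  have hdvd : 30 ∣ Nat.card G := by
    have h6 : 6 ∣ Nat.card G := by
      rw [← hn, ← Nat.card_eq_fintype_card,
        ← MulAction.index_stabilizer_of_transitive G (a : α)]
      exact Subgroup.index_dvd_card _
    have h5 : 5 ∣ Nat.card G := by
      rw [← hyo, ← Subgroup.orderOf_mk y hy]; exact orderOf_dvd_natCard _
    exact Nat.Coprime.mul_dvd_of_dvd_of_dvd (by norm_num : Nat.Coprime 6 5) h6 h5
  -- order `30` is impossible
  have h30 : Nat.card G ≠ 30 := by
    intro hG
    set y' : G := ⟨y, hy⟩
    set x' : G := ⟨x, hx⟩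
    have hy' : orderOf y' = 5 := by rw [Subgroup.orderOf_mk, hyo]
    have hx' : orderOf x' = 3 := by rw [Subgroup.orderOf_mk, hxo]
    have hfac : (Nat.card G).factorization 5 = 1 := by
      rw [hG]
      have h1 : Nat.factorization 30 5 < 2 := by
        rw [← not_le, ← Nat.Prime.pow_dvd_iff_le_factorization (by norm_num) (by norm_num)]
        norm_num
      have h2 : 1 ≤ Nat.factorization 30 5 := by
        rw [← Nat.Prime.pow_dvd_iff_le_factorization (by norm_num) (by norm_num)]
        norm_num
      omega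
    let P : Sylow 5 G := Sylow.ofCard (Subgroup.zpowers y')
      (by rw [Nat.card_zpowers, hy', hfac, pow_one])
    have hst : Nat.card (stabilizer G a) = 5 := by
      have := Subgroup.card_mul_index (stabilizer G a)
      rw [MulAction.index_stabilizer_of_transitive, Nat.card_eq_fintype_card (α := α), hn, hG]
        at this
      omega
    have hPle : Subgroup.normalizer ((P : Subgroup G) : Set G) ≤
        Subgroup.centralizer ((P : Subgroup G) : Set G) := by
      show Subgroup.normalizer ((Subgroup.zpowers y' : Subgroup G) : Set G) ≤ _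
      have hle : Subgroup.normalizer ((Subgroup.zpowers y' : Subgroup G) : Set G) ≤
          stabilizer G a := by
        intro u hu
        obtain ⟨i, hi⟩ := Subgroup.mem_zpowers_iff.mp
          ((Subgroup.mem_normalizer_iff.mp (inv_mem hu) y').mp (Subgroup.mem_zpowers _))
        rw [inv_inv] at hi
        have h1 : (u : Perm α)⁻¹ * y * (u : Perm α) = y ^ i := by
          have := congrArg Subtype.val hi
          simpa [y'] using this.symm
        show (u : Perm α) a = a
        rw [← hfixed]
        calc y ((u : Perm α) a)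
            = ((u : Perm α) * ((u : Perm α)⁻¹ * y * (u : Perm α))) a := by simp [Perm.mul_apply]
          _ = (u : Perm α) ((y ^ i) a) := by rw [h1]; rfl
          _ = _ := by rw [Perm.zpow_apply_eq_self_of_apply_eq_self ((hfixed a).mpr rfl)]
      have heq : Subgroup.normalizer ((Subgroup.zpowers y' : Subgroup G) : Set G) =
          Subgroup.zpowers y' := (Subgroup.eq_of_le_of_card_ge Subgroup.le_normalizer
        (by rw [Nat.card_zpowers, hy', ← hst]; exact Subgroup.card_le_of_le hle)).symm
      rw [heq]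
      exact Subgroup.le_centralizer _
    set f := MonoidHom.transferSylow P hPle
    set K := f.ker
    have hPc : Nat.card (P : Subgroup G) = 5 := (Nat.card_zpowers _).trans hy'
    have hKc : Nat.card K = 6 := by
      have h : Nat.card K * 5 = 30 := by
        rw [← hPc, ← hG]
        exact (MonoidHom.ker_transferSylow_isComplement' P hPle).card_mul_card
      omega
    have hxK : x' ∈ K := by
      rw [MonoidHom.mem_ker, ← orderOf_eq_one_iff]
      exact Nat.eq_one_of_dvd_coprimes (by norm_num : Nat.Coprime 3 5)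
        (by have h := orderOf_map_dvd f x'; rwa [hx'] at h)
        (by have h := orderOf_dvd_natCard (f x'); rwa [hPc] at h)
    set X := Subgroup.zpowers (⟨x', hxK⟩ : K)
    have hXc : Nat.card X = 3 := by rw [Nat.card_zpowers, Subgroup.orderOf_mk, hx']
    have hXi : X.index = 2 := by
      have h := Subgroup.card_mul_index X
      rw [hXc, hKc] at h
      omega
    haveI : X.Normal := Subgroup.normal_of_index_eq_two hXi
    have hconjK : y' * x' * y'⁻¹ ∈ K := (inferInstance : K.Normal).conj_mem _ hxK _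
    have hcX : (⟨y' * x' * y'⁻¹, hconjK⟩ : K) ∈ X := by
      have ho : orderOf (⟨y' * x' * y'⁻¹, hconjK⟩ : K) = 3 := by
        rw [Subgroup.orderOf_mk]
        exact (orderOf_injective (MulAut.conj y').toMonoidHom (MulAut.conj y').injective x').trans hx'
      rw [← QuotientGroup.eq_one_iff, ← orderOf_eq_one_iff]
      refine Nat.eq_one_of_dvd_coprimes (by norm_num : Nat.Coprime 3 2)
        (ho ▸ orderOf_map_dvd (QuotientGroup.mk' X) _) ?_
      rw [← hXi, Subgroup.index]
      exact orderOf_dvd_natCard _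
    obtain ⟨i, hi⟩ := Subgroup.mem_zpowers_iff.mp hcX
    have hi' : y * x * y⁻¹ = x ^ i := by
      have := congrArg (fun z : K => ((z : G) : Perm α)) hi
      simpa [x', y'] using this.symm
    have hpow : ∀ k : ℕ, y ^ k * x * (y ^ k)⁻¹ = x ^ (i ^ k) := by
      intro k
      induction k with
      | zero => simp
      | succ k ih =>
        calc y ^ (k + 1) * x * (y ^ (k + 1))⁻¹ = y ^ k * (y * x * y⁻¹) * (y ^ k)⁻¹ := by
              rw [pow_succ]; group
          _ = (y ^ k * x * (y ^ k)⁻¹) ^ i := by rw [hi']; exact conj_zpow.symm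
          _ = _ := by rw [ih, ← zpow_mul, ← pow_succ]
    have h5 : (i ^ 5 : ℤ) % 3 = 1 := by
      have h := hpow 5
      rw [← hyo, pow_orderOf_eq_one, one_mul, inv_one, mul_one, hyo] at h
      have h' : x ^ (1 : ℤ) = x ^ (i ^ 5) := by rw [zpow_one]; exact h
      rw [zpow_eq_zpow_iff_modEq, hxo] at h'
      exact h'.symm
    have hi1 : i % 3 = 1 := by
      have h1 := Int.emod_nonneg i (by norm_num : (3 : ℤ) ≠ 0)
      have h2 := Int.emod_lt_of_pos i (by norm_num : (0 : ℤ) < 3)
      have h3 : i ^ 5 % 3 = (i % 3) ^ 5 % 3 := (Int.mod_modEq i 3).symm.pow 5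
      rw [h3] at h5
      obtain h | h | h : i % 3 = 0 ∨ i % 3 = 1 ∨ i % 3 = 2 := by omega
      all_goals rw [h] at h5; first | exact h | norm_num at h5
    have hcomm : y * x = x * y := by
      rw [← mul_inv_eq_iff_eq_mul, hi', ← zpow_mod_orderOf, hxo]
      norm_num [hi1]
    have hxa : x a ≠ a := by
      rw [← Perm.mem_support]
      rw [Finset.eq_univ_of_card x.support (by rw [hxs, hn])]
      exact Finset.mem_univ a
    apply hxa
    rw [← hfixed]
    have := congrArg (fun e : Perm α => e a) hcomm
    simpa [Perm.mul_apply, (hfixed a).mpr rfl] using this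
  have hG60 : Nat.card G = 60 := by
    obtain ⟨k, hk⟩ := hdvd
    have hle : Nat.card G * 6 ≤ 360 := hidx ▸ Nat.mul_le_mul_left _ hbig
    have hpos : 0 < Nat.card G := Nat.card_pos
    omega
  have hi6 : H.index = 6 := by rw [hG60] at hidx; omega
  -- the action of `H` on the five other cosets
  let c₀ : A ⧸ H := ((1 : A) : A ⧸ H)
  have hfix : ∀ h : H, φ (h : A) c₀ = c₀ := fun h => by
    show (((h : A) * 1 : A) : A ⧸ H) = ((1 : A) : A ⧸ H)
    rw [QuotientGroup.eq, mul_one, mul_one]
    exact inv_mem h.2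
  have hmem : ∀ (h : H) (c : A ⧸ H), φ (h : A) c ≠ c₀ ↔ c ≠ c₀ := fun h c => by
    conv_lhs => rw [← hfix h]
    exact (φ (h : A)).injective.ne_iff
  let ψ : H →* Perm {c : A ⧸ H // c ≠ c₀} :=
    { toFun := fun h => (φ (h : A)).subtypePerm (hmem h)
      map_one' := by ext c; simp
      map_mul' := fun h h' => by ext c; simp [Perm.mul_apply]; rfl }
  have hψ : Function.Injective ψ := by
    intro h h' e
    refine Subtype.ext (hφ (Equiv.ext fun c => ?_))
    rcases eq_or_ne c c₀ with rfl | hc
    · rw [hfix, hfix]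
    · exact congrArg Subtype.val (congrArg (fun e : Perm _ => e ⟨c, hc⟩) e)
  have hc5 : Fintype.card {c : A ⧸ H // c ≠ c₀} = 5 := by
    rw [Fintype.card_subtype_compl, Fintype.card_subtype_eq, ← Nat.card_eq_fintype_card,
      ← Subgroup.index, hi6]
  have hrange : ψ.range = alternatingGroup {c : A ⧸ H // c ≠ c₀} := by
    apply Perm.eq_alternatingGroup_of_index_eq_two
    have := Subgroup.card_mul_index ψ.range
    rw [← Nat.card_congr (MonoidHom.ofInjective hψ).toEquiv, hHcard, hG60, Nat.card_perm,
      Nat.card_eq_fintype_card, hc5] at this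
    norm_num [Nat.factorial] at this
    omega
  exact ⟨((Subgroup.subgroupOfEquivOfLe hA).symm.trans (MonoidHom.ofInjective hψ)).trans
    ((MulEquiv.subgroupCongr hrange).trans
      (Equiv.altCongrHom (Fintype.equivFinOfCardEq hc5)))⟩

/-- Generation on the union of the supports. -/
theorem generation_core {m p q : ℕ} (hgood : GoodPair m p q) (hd : Fintype.card α ≤ m)
    {x y : Perm α} (hxo : orderOf x = p) (hyo : orderOf y = q)
    (hcov : ∀ z, z ∈ x.support ∨ z ∈ y.support) :
    ∃ d, 5 ≤ d ∧
      Nonempty (Subgroup.closure ({x, y} : Set (Perm α)) ≃* alternatingGroup (Fin d)) := by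
  classical
  obtain ⟨hp, hq, hm, hpq, hqm, p3, gap, dbl⟩ := hgood
  set G := Subgroup.closure ({x, y} : Set (Perm α))
  have hxG : x ∈ G := Subgroup.subset_closure (Or.inl rfl)
  have hyG : y ∈ G := Subgroup.subset_closure (Or.inr rfl)
  have hys : y.support.card = q :=
    (support_cases hq hyo (by omega)).elim id fun h => absurd h.2 (by omega)
  have hyc : y.IsCycle := Perm.isCycle_of_prime_order (by rw [hyo]; exact hq)
    (by rw [hyo, hys]; have := hq.two_le; omega)
  have hqd : q ≤ Fintype.card α := hys ▸ y.support.card_le_univ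
  haveI htr : IsPretransitive G α :=
    isPretransitive_of_pair G hp hxG hyG hxo hyc (by omega) hcov
  have hprim : IsPreprimitive G α :=
    isPreprimitive_of_large_cycle G hyG hyc hq hys (by omega)
  have hsign : ∀ z : Perm α, Odd (orderOf z) → Perm.sign z = 1 := by
    intro z hz
    have h1 : Perm.sign z ^ orderOf z = 1 := by rw [← map_pow, pow_orderOf_eq_one, map_one]
    rcases Int.units_eq_one_or (Perm.sign z) with h | h
    · exact h
    · rw [h, hz.neg_one_pow] at h1; exact absurd h1 (by decide)
  have hA : G ≤ alternatingGroup α := by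
    rw [Subgroup.closure_le]
    rintro z (rfl | rfl)
    · exact Perm.mem_alternatingGroup.mpr (hsign _ (hxo ▸ hp.odd_of_ne_two (by omega)))
    · exact Perm.mem_alternatingGroup.mpr (hsign _ (hyo ▸ hq.odd_of_ne_two (by omega)))
  have done : alternatingGroup α ≤ G → ∃ d, 5 ≤ d ∧ Nonempty (G ≃* alternatingGroup (Fin d)) :=
    fun h => ⟨Fintype.card α, by omega, ⟨(MulEquiv.subgroupCongr (le_antisymm hA h)).trans
      (Equiv.altCongrHom (Fintype.equivFin α))⟩⟩
  rcases support_cases hp hxo (by omega) with hxs | ⟨hxs, hd2⟩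
  · have hxc : x.IsCycle := Perm.isCycle_of_prime_order (by rw [hxo]; exact hp)
      (by rw [hxo, hxs]; omega)
    rcases Nat.lt_or_ge (Fintype.card α) (p + 3) with hlt | hge
    · obtain ⟨hq2, hps⟩ := gap.resolve_left (by omega)
      refine done ?_
      rcases hps with rfl | hps
      · exact Perm.alternatingGroup_le_of_isPreprimitive_of_isThreeCycle_mem hprim
          (card_support_eq_three_iff.mp hxs) hxG
      · exact alternating_le_twin G hA hps (by omega) hxG hxc hxs hyG hyc (by omega)
    · exact done (PermB.jordan_prime_cycle G hprim hp hge hxc hxs hxG)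
  · rcases dbl (by omega) with ⟨rfl, rfl, rfl⟩ | ⟨rfl, rfl, rfl⟩
    · exact done (PermB.jordan_prime_cycle G hprim hq (by omega) hyc hys hyG)
    · rcases degree_six G hd2 hA hxG hyG hxo hxs hyc hys with h | h
      · exact done h.ge
      · exact ⟨5, le_rfl, h⟩

/-- Two even permutations of orders `p` and `q` generate an alternating group. -/
theorem generation {m p q : ℕ} (hgood : GoodPair m p q) (x y : alternatingGroup (Fin m))
    (hxo : orderOf x = p) (hyo : orderOf y = q) :
    ∃ d, 5 ≤ d ∧ Nonempty (Subgroup.closure ({x, y} : Set (alternatingGroup (Fin m))) ≃*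
      alternatingGroup (Fin d)) := by
  classical
  set P : Fin m → Prop := fun z =>
    z ∈ (x : Perm (Fin m)).support ∨ z ∈ (y : Perm (Fin m)).support with hP
  have hinv : ∀ u : Perm (Fin m), (∀ z, u z ≠ z → P z) → ∀ z, P (u z) ↔ P z := by
    intro u hu z
    by_cases hz : u z = z
    · rw [hz]
    · exact iff_of_true (hu _ fun e => hz (u.injective e)) (hu z hz)
  have hxP : ∀ z, (x : Perm (Fin m)) z ≠ z → P z := fun z hz => Or.inl (Perm.mem_support.mpr hz)
  have hyP : ∀ z, (y : Perm (Fin m)) z ≠ z → P z := fun z hz => Or.inr (Perm.mem_support.mpr hz)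
  set x' : Perm {z // P z} := (x : Perm (Fin m)).subtypePerm (hinv _ hxP) with hx'
  set y' : Perm {z // P z} := (y : Perm (Fin m)).subtypePerm (hinv _ hyP) with hy'
  have ex : Perm.ofSubtype x' = (x : Perm (Fin m)) := Perm.ofSubtype_subtypePerm _ hxP
  have ey : Perm.ofSubtype y' = (y : Perm (Fin m)) := Perm.ofSubtype_subtypePerm _ hyP
  have hxo' : orderOf x' = p := by
    rw [← orderOf_injective Perm.ofSubtype Perm.ofSubtype_injective, ex, Subgroup.orderOf_coe, hxo]
  have hyo' : orderOf y' = q := by
    rw [← orderOf_injective Perm.ofSubtype Perm.ofSubtype_injective, ey, Subgroup.orderOf_coe, hyo]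
  have hcov : ∀ z, z ∈ x'.support ∨ z ∈ y'.support := by
    rintro ⟨z, hz | hz⟩
    · refine Or.inl (Perm.mem_support.mpr fun e => Perm.mem_support.mp hz ?_)
      exact congrArg Subtype.val e
    · refine Or.inr (Perm.mem_support.mpr fun e => Perm.mem_support.mp hz ?_)
      exact congrArg Subtype.val e
  obtain ⟨d, hd5, ⟨e⟩⟩ := generation_core hgood
    (by simpa using Fintype.card_subtype_le P) hxo' hyo' hcov
  refine ⟨d, hd5, ⟨MulEquiv.trans ?_ e⟩⟩
  have h1 : (Subgroup.closure ({x, y} : Set (alternatingGroup (Fin m)))).map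
      (alternatingGroup (Fin m)).subtype =
      (Subgroup.closure ({x', y'} : Set (Perm {z // P z}))).map Perm.ofSubtype := by
    rw [closure_pair_map_ofSubtype, MonoidHom.map_closure, Set.image_insert_eq,
      Set.image_singleton, ex, ey]
    rfl
  exact ((Subgroup.equivMapOfInjective _ _ Subtype.val_injective).trans
    (MulEquiv.subgroupCongr h1)).trans
    (Subgroup.equivMapOfInjective _ _ Perm.ofSubtype_injective).symm

end Cfsg.Agent.FG78.TwoPrimeGen
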